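import Mathlib

/-!
# Carmichael's presentation of the alternating group

`A_{k+2}` is generated by the three-cycles `(0 1 i+2)`, `i < k`, subject to `x i ^ 3 = 1` and
`(x i * x j) ^ 2 = 1` for `i ≠ j`.
-/

set_option autoImplicit false

namespace Cfsg.Agent.Lib.ShortPresSLn

open Equiv

section general

variable {G : Type*} [Group G]

/-- Carmichael's relations on `x 0, …, x (k-1)`. -/
structure CarmRel (k : ℕ) (x : ℕ → G) : Prop where
  cube : ∀ i < k, x i ^ 3 = 1
  sq : ∀ i < k, ∀ j < k, i ≠ j → (x i * x j) ^ 2 = 1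

/-- The group generated by a Carmichael family is not larger than the alternating group. -/
theorem CarmRel.finite_and_card_le : ∀ {k : ℕ} {x : ℕ → G}, CarmRel k x →
    Finite (Subgroup.closure {g | ∃ i < k, g = x i}) ∧
      2 * Nat.card (Subgroup.closure {g | ∃ i < k, g = x i}) ≤ (k + 2).factorial := by
  intro k
  induction k with
  | zero =>
    intro x _
    have : Subgroup.closure {g | ∃ i < 0, g = x i} = ⊥ := by simp
    rw [this]
    exact ⟨inferInstance, by simp⟩
  | succ k ih =>
    intro x R
    obtain ⟨hfin, hle⟩ := ih (x := x) ⟨fun i hi => R.cube i (by omega),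
      fun i hi j hj h => R.sq i (by omega) j (by omega) h⟩
    set H := Subgroup.closure {g | ∃ i < k, g = x i} with hH
    set K := Subgroup.closure {g | ∃ i < k + 1, g = x i} with hK
    set y := x k with hy
    have hxH : ∀ i < k, x i ∈ H := fun i hi => Subgroup.subset_closure ⟨i, hi, rfl⟩
    have h3 : ∀ i < k + 1, x i * x i * x i = 1 := fun i hi => by
      rw [← R.cube i hi, pow_three, mul_assoc]
    have h3' : ∀ i < k + 1, (x i)⁻¹ = x i * x i := fun i hi =>
      inv_eq_of_mul_eq_one_right (by rw [← mul_assoc]; exact h3 i hi)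
    have h2 : ∀ i < k + 1, ∀ j < k + 1, i ≠ j → x i * x j = (x j)⁻¹ * (x i)⁻¹ := fun i hi j hj h => by
      rw [← mul_inv_rev]
      exact eq_inv_of_mul_eq_one_left (by rw [← R.sq i hi j hj h, pow_two])
    let rep : Fin (k + 3) → G := fun r =>
      if h : r.val < k then x r.val * (y * y) else if r.val = k then 1 else if r.val = k + 1 then y else y * y
    have rep1 : ∀ i, i < k → ∃ r, rep r = x i * (y * y) := fun i hi =>
      ⟨⟨i, by omega⟩, by simp [rep, hi]⟩
    have rep0 : ∃ r, rep r = 1 := ⟨⟨k, by omega⟩, by simp [rep]⟩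
    have repy : ∃ r, rep r = y := ⟨⟨k + 1, by omega⟩, by simp [rep]⟩
    have repyy : ∃ r, rep r = y * y := ⟨⟨k + 2, by omega⟩, by simp [rep]⟩
    have reps : ∀ r, rep r = 1 ∨ rep r = y ∨ rep r = y * y ∨ ∃ i < k, rep r = x i * (y * y) := by
      intro r
      simp only [rep]
      split_ifs with h h' h''
      · exact Or.inr (Or.inr (Or.inr ⟨_, h, rfl⟩))
      · exact Or.inl rfl
      · exact Or.inr (Or.inl rfl)
      · exact Or.inr (Or.inr (Or.inl rfl))
    let S : Set G := {g | ∃ r, ∃ h ∈ H, g = rep r * h}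
    have hS : ∀ (g : G) (r : G) (h : G), h ∈ H → g = r * h → (∃ s, rep s = r) → g ∈ S := by
      rintro g _ h hh rfl ⟨s, rfl⟩
      exact ⟨s, h, hh, rfl⟩
    have key : ∀ i < k, x i * y = y * y * (x i)⁻¹ := fun i hi => by
      rw [h2 i (by omega) k (by omega) (by omega), h3' k (by omega)]
    have key' : ∀ i < k, y * x i = x i * x i * (y * y) := fun i hi => by
      rw [h2 k (by omega) i (by omega) (by omega), h3' k (by omega), h3' i (by omega)]
    have key2 : ∀ i < k, x i * x i * y = x i * (y * y) * (x i)⁻¹ := fun i hi => by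
      rw [mul_assoc (x i), key i hi, ← mul_assoc]
    have hy3 : y * (y * y) = 1 := by rw [← mul_assoc]; exact h3 k (by omega)
    have step : ∀ i < k + 1, ∀ r, ∀ h ∈ H, x i * (rep r * h) ∈ S := by
      intro i hi r h hh
      rcases Nat.lt_succ_iff_lt_or_eq.1 hi with hik | hik
      · rcases reps r with e | e | e | ⟨j, hj, e⟩ <;> rw [e]
        · exact hS _ 1 (x i * h) (H.mul_mem (hxH i hik) hh) (by group) rep0
        · exact hS _ (y * y) ((x i)⁻¹ * h) (H.mul_mem (H.inv_mem (hxH i hik)) hh)
            (by rw [← mul_assoc, key i hik]; group) repyy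
        · exact hS _ _ h hh (by group) (rep1 i hik)
        · rcases eq_or_ne i j with rfl | hij
          · refine hS _ y (x i * h) (H.mul_mem (hxH i hik) hh) ?_ repy
            have e1 : x i * x i * (y * y) = y * x i := (key' i hik).symm
            calc x i * (x i * (y * y) * h) = x i * x i * (y * y) * h := by group
              _ = _ := by rw [e1]; group
          · refine hS _ _ ((x j)⁻¹ * x i * h) (H.mul_mem (H.mul_mem (H.inv_mem (hxH j hj)) (hxH i hik)) hh)
              ?_ (rep1 j hj)
            have e2 : (x i)⁻¹ * (y * y) = y * x i := by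
              rw [← h3' k (by omega), h2 k (by omega) i (by omega) (by omega)]
            calc x i * (x j * (y * y) * h) = (x i * x j) * (y * y) * h := by group
              _ = (x j)⁻¹ * ((x i)⁻¹ * (y * y)) * h := by rw [h2 i (by omega) j (by omega) hij]; group
              _ = x j * x j * y * (x i * h) := by rw [e2, h3' j (by omega)]; group
              _ = _ := by rw [key2 j hj]; group
      · subst hik
        rcases reps r with e | e | e | ⟨j, hj, e⟩ <;> rw [e]
        · exact hS _ y h hh (by group; rfl) repy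
        · exact hS _ (y * y) h hh (by group; rfl) repyy
        · exact hS _ 1 h hh (by rw [← mul_assoc (x i), hy3]) rep0
        · refine hS _ _ ((x j)⁻¹ * h) (H.mul_mem (H.inv_mem (hxH j hj)) hh) ?_ (rep1 j hj)
          calc x i * (x j * (y * y) * h) = (y * x j) * (y * y) * h := by rw [hy]; group
            _ = x j * x j * (y * (y * y)) * y * h := by rw [key' j hj]; group
            _ = x j * x j * y * h := by rw [hy3, mul_one]
            _ = _ := by rw [key2 j hj]; group
    have hKS : ∀ g ∈ K, g ∈ S := by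
      have hmul : ∀ g ∈ K, ∀ s ∈ S, g * s ∈ S := by
        intro g hg
        refine Subgroup.closure_induction (p := fun g _ => ∀ s ∈ S, g * s ∈ S) ?_ (fun s hs => by rwa [one_mul])
          (fun a b _ _ ha hb s hs => by rw [mul_assoc]; exact ha _ (hb s hs)) ?_ hg
        · rintro _ ⟨i, hi, rfl⟩ _ ⟨r, h, hh, rfl⟩
          exact step i hi r h hh
        · intro a ha haS s hs
          haveI : Finite H := hfin
          have hSfin : S.Finite := by
            refine (Set.finite_range fun q : Fin (k + 3) × H => rep q.1 * q.2).subset ?_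
            rintro _ ⟨r, h, hh, rfl⟩
            exact ⟨(r, ⟨h, hh⟩), rfl⟩
          haveI := hSfin.to_subtype
          have hinj : Function.Injective fun s : S => (⟨a * s, haS s s.2⟩ : S) := fun s t e =>
            Subtype.ext (mul_left_cancel (congrArg Subtype.val e))
          obtain ⟨s', hs'⟩ := Finite.injective_iff_surjective.1 hinj ⟨s, hs⟩
          have : a⁻¹ * s = s' := inv_mul_eq_iff_eq_mul.2 (congrArg Subtype.val hs' : a * (s' : G) = s).symm
          rw [this]; exact s'.2
      intro g hg
      obtain ⟨r, hr⟩ := rep0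
      have := hmul g hg 1 ⟨r, 1, H.one_mem, by rw [hr, one_mul]⟩
      rwa [mul_one] at this
    haveI : Finite H := hfin
    have hsub : (K : Set G) ⊆ Set.range fun q : Fin (k + 3) × H => rep q.1 * q.2 := by
      intro g hg
      obtain ⟨r, h, hh, rfl⟩ := hKS g hg
      exact ⟨(r, ⟨h, hh⟩), rfl⟩
    have hfK : (K : Set G).Finite := (Set.finite_range _).subset hsub
    refine ⟨hfK.to_subtype, ?_⟩
    have h4 : Nat.card K ≤ (k + 3) * Nat.card H := by
      calc Nat.card K ≤ Nat.card (Set.range fun q : Fin (k + 3) × H => rep q.1 * q.2) :=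
            Nat.card_mono (Set.finite_range _) hsub
        _ ≤ Nat.card (Fin (k + 3) × H) := Finite.card_range_le _
        _ = _ := by rw [Nat.card_prod, Nat.card_eq_fintype_card, Fintype.card_fin]
    rw [show k + 1 + 2 = (k + 2) + 1 by omega, Nat.factorial_succ]
    calc 2 * Nat.card K ≤ (k + 3) * (2 * Nat.card H) := by rw [mul_left_comm]; exact Nat.mul_le_mul_left 2 h4
      _ ≤ _ := Nat.mul_le_mul_left _ hle

end general

/-- The three-cycle `(0 1 i+2)`. -/
def carmPerm (k i : ℕ) : Perm (Fin (k + 2)) :=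
  if h : i < k then swap 0 1 * swap 1 ⟨i + 2, by omega⟩ else 1

theorem carmPerm_isThreeCycle {k i : ℕ} (h : i < k) : (carmPerm k i).IsThreeCycle := by
  rw [carmPerm, dif_pos h, swap_comm (0 : Fin (k + 2)) 1]
  exact Perm.isThreeCycle_swap_mul_swap_same (by simp) (by simp [Fin.ext_iff]) (by simp [Fin.ext_iff])

theorem carmPerm_mem (k i : ℕ) : carmPerm k i ∈ alternatingGroup (Fin (k + 2)) := by
  by_cases h : i < k
  · exact (carmPerm_isThreeCycle h).mem_alternatingGroup
  · rw [carmPerm, dif_neg h]; exact one_mem _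

/-- The Carmichael generator inside the alternating group. -/
def carm (k i : ℕ) : alternatingGroup (Fin (k + 2)) := ⟨carmPerm k i, carmPerm_mem k i⟩

theorem carm_rel (k : ℕ) : CarmRel k (carm k) := by
  constructor
  · intro i hi
    refine Subtype.ext ?_
    rw [Subgroup.coe_pow, Subgroup.coe_one]
    show carmPerm k i ^ 3 = 1
    rw [← (carmPerm_isThreeCycle hi).orderOf, pow_orderOf_eq_one]
  · intro i hi j hj hij
    have key : ∀ (a b : Fin (k + 2)), a ≠ b → a ≠ 0 → a ≠ 1 → b ≠ 0 → b ≠ 1 →
        (swap 0 1 * swap 1 a * (swap 0 1 * swap 1 b)) ^ 2 = (1 : Perm (Fin (k + 2))) := by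
      intro a b hab ha0 ha1 hb0 hb1
      have e1 : swap 0 1 * swap 1 a * swap 0 1 = swap 0 a := by
        conv_rhs => rw [show swap (0 : Fin (k + 2)) a = swap (swap 0 1 1) (swap 0 1 a) by
          rw [swap_apply_right, swap_apply_of_ne_of_ne ha0 ha1], swap_apply_apply, swap_inv]
      have e2 : swap 0 a * swap 1 b = swap 1 b * swap 0 a := by
        rw [mul_swap_eq_swap_mul, swap_apply_of_ne_of_ne (by simp) (Ne.symm ha1),
          swap_apply_of_ne_of_ne hb0 (Ne.symm hab)]
      rw [← mul_assoc (swap 0 1 * swap 1 a), e1, pow_two, mul_assoc, ← mul_assoc (swap 1 b) (swap 0 a),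
        ← e2, mul_assoc (swap 0 a) (swap 1 b), swap_mul_self, mul_one, swap_mul_self]
    refine Subtype.ext ?_
    simp only [Subgroup.coe_pow, Subgroup.coe_mul, Subgroup.coe_one, carm, carmPerm, dif_pos hi, dif_pos hj]
    exact key _ _ (by simp [Fin.ext_iff]; omega) (by simp [Fin.ext_iff]) (by simp [Fin.ext_iff])
      (by simp [Fin.ext_iff]) (by simp [Fin.ext_iff])

/-- The generators generate. -/
theorem closure_carm (k : ℕ) :
    Subgroup.closure {g | ∃ i < k, g = carm k i} = (⊤ : Subgroup (alternatingGroup (Fin (k + 2)))) := by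
  set s : Perm (Fin (k + 2)) := swap 0 1 with hs
  set K : Subgroup (Perm (Fin (k + 2))) := Subgroup.closure {g | ∃ i < k, g = carmPerm k i} with hK
  have hss : s * s = 1 := swap_mul_self _ _
  have hconj : ∀ g ∈ K, s * g * s ∈ K := by
    intro g hg
    have hle : K.map (MulAut.conj s).toMonoidHom ≤ K := by
      rw [hK, MonoidHom.map_closure, Subgroup.closure_le]
      rintro _ ⟨_, ⟨i, hi, rfl⟩, rfl⟩
      have : (MulAut.conj s).toMonoidHom (carmPerm k i) = (carmPerm k i)⁻¹ := by
        simp only [MulEquiv.coe_toMonoidHom, MulAut.conj_apply, carmPerm, dif_pos hi, hs, mul_inv_rev,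
          swap_inv, swap_mul_self_mul]
      rw [this]
      exact K.inv_mem (Subgroup.subset_closure ⟨i, hi, rfl⟩)
    have h1 := hle ⟨g, hg, rfl⟩
    simpa [MulAut.conj_apply, hs] using h1
  let L : Subgroup (Perm (Fin (k + 2))) :=
    { carrier := {g | g ∈ K ∨ g * s ∈ K}
      one_mem' := Or.inl K.one_mem
      mul_mem' := by
        rintro a b (ha | ha) (hb | hb)
        · exact Or.inl (K.mul_mem ha hb)
        · exact Or.inr (by rw [mul_assoc]; exact K.mul_mem ha hb)
        · refine Or.inr ?_
          have e : a * b * s = a * s * (s * b * s) := by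
            rw [mul_assoc a s, ← mul_assoc s (s * b), ← mul_assoc s s, hss, one_mul, mul_assoc]
          rw [e]; exact K.mul_mem ha (hconj _ hb)
        · refine Or.inl ?_
          have e : a * b = a * s * (s * (b * s) * s) := by
            rw [mul_assoc a s, ← mul_assoc s (s * (b * s)), ← mul_assoc s s, hss, one_mul, mul_assoc b s, hss,
              mul_one]
          rw [e]; exact K.mul_mem ha (hconj _ hb)
      inv_mem' := by
        rintro a (ha | ha)
        · exact Or.inl (K.inv_mem ha)
        · refine Or.inr ?_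
          have e : a⁻¹ * s = s * (a * s)⁻¹ * s := by
            rw [mul_inv_rev, hs, swap_inv, ← hs, ← mul_assoc s, hss, one_mul]
          rw [e]; exact hconj _ (K.inv_mem ha) }
  have hsL : s ∈ L := Or.inr (by rw [hss]; exact K.one_mem)
  have hcyc : ∀ i, i < k → carmPerm k i ∈ L := fun i hi => Or.inl (Subgroup.subset_closure ⟨i, hi, rfl⟩)
  have h1x : ∀ j : Fin (k + 2), swap 1 j ∈ L := by
    intro j
    by_cases hj : 2 ≤ j.val
    · have h := L.mul_mem hsL (hcyc (j.val - 2) (by omega))
      rw [carmPerm, dif_pos (by omega), hs, swap_mul_self_mul] at h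
      rwa [show (⟨j.val - 2 + 2, by omega⟩ : Fin (k + 2)) = j from Fin.ext (by simp; omega)] at h
    · rcases Nat.eq_zero_or_pos j.val with h | h
      · rw [show j = 0 from Fin.ext h, swap_comm]; exact hsL
      · rw [show j = 1 from Fin.ext (by simp; omega), swap_self]; exact L.one_mem
  have htop : L = ⊤ := by
    refine eq_top_iff.2 ?_
    rw [← Perm.closure_isSwap, Subgroup.closure_le]
    rintro _ ⟨a, b, hab, rfl⟩
    rcases eq_or_ne a 1 with rfl | ha
    · exact h1x b
    · rcases eq_or_ne b 1 with rfl | hb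
      · rw [swap_comm]; exact h1x a
      · have : swap a b = swap 1 a * swap 1 b * swap 1 a := by
          conv_lhs => rw [show swap a b = swap (swap 1 a 1) (swap 1 a b) by
            rw [swap_apply_left, swap_apply_of_ne_of_ne hb hab.symm], swap_apply_apply, swap_inv]
        rw [this]; exact L.mul_mem (L.mul_mem (h1x a) (h1x b)) (h1x a)
  have hKA : K ≤ alternatingGroup (Fin (k + 2)) := by
    rw [hK, Subgroup.closure_le]
    rintro _ ⟨i, -, rfl⟩
    exact carmPerm_mem k i
  have hmap : (Subgroup.closure {g | ∃ i < k, g = carm k i}).map (alternatingGroup (Fin (k + 2))).subtype = K := by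
    rw [MonoidHom.map_closure, hK]
    congr 1
    ext g
    constructor
    · rintro ⟨_, ⟨i, hi, rfl⟩, rfl⟩; exact ⟨i, hi, rfl⟩
    · rintro ⟨i, hi, rfl⟩; exact ⟨_, ⟨i, hi, rfl⟩, rfl⟩
  refine eq_top_iff.2 fun g _ => ?_
  have hg : (g : Perm (Fin (k + 2))) ∈ L := htop ▸ Subgroup.mem_top _
  rcases hg with h | h
  · rw [← hmap] at h
    obtain ⟨g', hg', e⟩ := h
    exact Subtype.ext (p := fun z => z ∈ alternatingGroup _) e ▸ hg'
  · exfalso
    have h1 := Perm.mem_alternatingGroup.1 (hKA h)
    rw [map_mul, Perm.mem_alternatingGroup.1 g.2, one_mul, hs, Perm.sign_swap (by simp)] at h1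
    exact absurd h1 (by decide)

/-- Relators of the presentation. -/
def carmRels (k : ℕ) : Set (FreeGroup (Fin k)) :=
  {r | ∃ i : Fin k, r = FreeGroup.of i ^ 3} ∪
  {r | ∃ i j : Fin k, i ≠ j ∧ r = (FreeGroup.of i * FreeGroup.of j) ^ 2}

theorem lift_carmRels {H : Type*} [Group H] {k : ℕ} {y : ℕ → H} (Ry : CarmRel k y) :
    ∀ r ∈ carmRels k, FreeGroup.lift (fun i : Fin k => y i) r = 1 := by
  rintro r (⟨i, rfl⟩ | ⟨i, j, hij, rfl⟩)
  · simp [Ry.cube i i.2]
  · simp [Ry.sq i i.2 j j.2 (by simpa [Fin.ext_iff] using hij)]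

/-- A Carmichael family in a group is the image of the alternating group. -/
theorem exists_hom {G : Type*} [Group G] {k : ℕ} {x : ℕ → G} (R : CarmRel k x) :
    ∃ ρ : alternatingGroup (Fin (k + 2)) →* G, ∀ i < k, ρ (carm k i) = x i := by
  classical
  let P := PresentedGroup (carmRels k)
  let g : ℕ → P := fun i => if h : i < k then PresentedGroup.of ⟨i, h⟩ else 1
  have Rg : CarmRel k g := by
    constructor
    · intro i hi
      simp only [g, dif_pos hi]
      exact (map_pow (PresentedGroup.mk (carmRels k)) _ 3).symm.trans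
        (PresentedGroup.one_of_mem (Or.inl ⟨⟨i, hi⟩, rfl⟩))
    · intro i hi j hj hij
      simp only [g, dif_pos hi, dif_pos hj]
      have h := PresentedGroup.one_of_mem (rels := carmRels k)
        (Or.inr ⟨⟨i, hi⟩, ⟨j, hj⟩, by simpa using hij, rfl⟩)
      rwa [map_pow, map_mul] at h
  have hgen : Subgroup.closure {z | ∃ i < k, z = g i} = ⊤ := by
    rw [eq_top_iff, ← PresentedGroup.closure_range_of (carmRels k)]
    refine Subgroup.closure_mono ?_
    rintro _ ⟨i, rfl⟩
    exact ⟨i, i.2, by simp [g]⟩
  obtain ⟨hf, hle⟩ := Rg.finite_and_card_le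
  rw [hgen] at hf hle
  haveI : Finite P := @Finite.of_equiv _ _ hf Subgroup.topEquiv.toEquiv
  rw [Subgroup.card_top] at hle
  let φ := PresentedGroup.toGroup (lift_carmRels (carm_rel k))
  have hsurj : Function.Surjective φ := by
    rw [← MonoidHom.range_eq_top, eq_top_iff, ← closure_carm k, Subgroup.closure_le]
    rintro _ ⟨i, hi, rfl⟩
    exact ⟨PresentedGroup.of ⟨i, hi⟩, PresentedGroup.toGroup.of _⟩
  have hA : 2 * Nat.card (alternatingGroup (Fin (k + 2))) = (k + 2).factorial := by
    rw [two_mul_nat_card_alternatingGroup, Nat.card_perm, Nat.card_eq_fintype_card, Fintype.card_fin]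
  have hbij : Function.Bijective φ := (Nat.bijective_iff_surjective_and_card φ).2
    ⟨hsurj, le_antisymm (show Nat.card P ≤ _ by omega) (Nat.card_le_card_of_surjective φ hsurj)⟩
  let e := MulEquiv.ofBijective φ hbij
  let ψ := PresentedGroup.toGroup (lift_carmRels R)
  refine ⟨ψ.comp e.symm.toMonoidHom, fun i hi => ?_⟩
  have : e.symm (carm k i) = PresentedGroup.of ⟨i, hi⟩ :=
    e.symm_apply_eq.2
      (PresentedGroup.toGroup.of (x := (⟨i, hi⟩ : Fin k)) (lift_carmRels (carm_rel k))).symm
  rw [MonoidHom.comp_apply, MulEquiv.coe_toMonoidHom, this]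
  exact PresentedGroup.toGroup.of _

end Cfsg.Agent.Lib.ShortPresSLn
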