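import Mathlib
import Cfsg.Agent.Lib.ShortPresSLn.Carmichael

/-!
# Eight relations for the alternating group

For `p ≤ M < 2p`, `p` prime, eight relations in two generators `x`, `Z` give a homomorphism from
`A_{M+2}` sending Carmichael's generators to `Zⁱ x^± Z⁻ⁱ`, and `Z` acts as the rotation of the `M` indices.
-/

set_option autoImplicit false

namespace Cfsg.Agent.Lib.ShortPresSLn

open Equiv

/-- The indices inside `Fin (M + 2)`. -/
def tailEquiv (M : ℕ) : Fin M ≃ {j : Fin (M + 2) // 2 ≤ j.val} where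
  toFun i := ⟨⟨i.val + 2, by omega⟩, by simp⟩
  invFun j := ⟨j.1.val - 2, by have := j.1.isLt; have := j.2; omega⟩
  left_inv i := Fin.ext (by simp)
  right_inv j := Subtype.ext (Fin.ext (by have := j.2; simp; omega))

/-- A permutation of the indices, made even by `(0 1)`. -/
def iotaPerm (M : ℕ) (π : Perm (Fin M)) : Perm (Fin (M + 2)) :=
  π.extendDomain (tailEquiv M) * if Perm.sign π = 1 then 1 else swap 0 1

theorem iotaPerm_apply_tail {M : ℕ} (π : Perm (Fin M)) (i : Fin M) :
    iotaPerm M π ⟨i.val + 2, by omega⟩ = ⟨(π i).val + 2, by omega⟩ := by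
  have h : (if Perm.sign π = 1 then 1 else swap 0 1 : Perm (Fin (M + 2))) ⟨i.val + 2, by omega⟩ =
      ⟨i.val + 2, by omega⟩ := by
    split_ifs
    · rfl
    · exact swap_apply_of_ne_of_ne (by simp [Fin.ext_iff]) (by simp [Fin.ext_iff])
  rw [iotaPerm, Perm.mul_apply, h]
  exact Perm.extendDomain_apply_image π (tailEquiv M) i

theorem iotaPerm_mem (M : ℕ) (π : Perm (Fin M)) : iotaPerm M π ∈ alternatingGroup (Fin (M + 2)) := by
  rw [Perm.mem_alternatingGroup, iotaPerm, map_mul, Perm.sign_extendDomain]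
  split_ifs with h
  · rw [h, map_one, mul_one]
  · rw [(Int.units_eq_one_or (Perm.sign π)).resolve_left h, Perm.sign_swap (by simp)]
    decide

/-- The same, inside the alternating group. -/
def iota (M : ℕ) (π : Perm (Fin M)) : alternatingGroup (Fin (M + 2)) := ⟨iotaPerm M π, iotaPerm_mem M π⟩

theorem iota_conj_carm {M : ℕ} (π : Perm (Fin M)) (i : Fin M) :
    iota M π * carm M i * (iota M π)⁻¹ = carm M (π i) ^ ((Perm.sign π : ℤˣ) : ℤ) := by
  have hfix : ∀ j : Fin (M + 2), j.val < 2 → π.extendDomain (tailEquiv M) j = j := fun j hj =>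
    Perm.extendDomain_apply_not_subtype π (tailEquiv M) (by omega)
  have h0 := hfix 0 (by simp)
  have h1 := hfix 1 (by simp)
  refine Subtype.ext ?_
  rw [Subgroup.coe_mul, Subgroup.coe_mul, Subgroup.coe_inv, Subgroup.coe_zpow]
  show iotaPerm M π * carmPerm M i * (iotaPerm M π)⁻¹ = carmPerm M (π i) ^ _
  rw [carmPerm, dif_pos i.isLt, carmPerm, dif_pos (π i).isLt]
  have ha : ∀ a b, iotaPerm M π * swap a b * (iotaPerm M π)⁻¹ = swap (iotaPerm M π a) (iotaPerm M π b) :=
    fun a b => (swap_apply_apply _ _ _).symm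
  have e : iotaPerm M π * (swap 0 1 * swap 1 ⟨i.val + 2, by omega⟩) * (iotaPerm M π)⁻¹ =
      swap (iotaPerm M π 0) (iotaPerm M π 1) * swap (iotaPerm M π 1) (iotaPerm M π ⟨i.val + 2, by omega⟩) := by
    rw [← ha, ← ha]; group
  rw [e, iotaPerm_apply_tail]
  rcases Int.units_eq_one_or (Perm.sign π) with h | h
  · have e0 : iotaPerm M π 0 = 0 := by rw [iotaPerm, if_pos h, mul_one, h0]
    have e1 : iotaPerm M π 1 = 1 := by rw [iotaPerm, if_pos h, mul_one, h1]
    rw [e0, e1, h, Units.val_one, zpow_one]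
  · have hne : Perm.sign π ≠ 1 := by rw [h]; decide
    have e0 : iotaPerm M π 0 = 1 := by rw [iotaPerm, if_neg hne, Perm.mul_apply, swap_apply_left, h1]
    have e1 : iotaPerm M π 1 = 0 := by rw [iotaPerm, if_neg hne, Perm.mul_apply, swap_apply_right, h0]
    rw [e0, e1, h, Units.val_neg, Units.val_one, zpow_neg, zpow_one, mul_inv_rev, swap_inv, swap_inv]
    set a : Fin (M + 2) := ⟨(π i).val + 2, by omega⟩
    have c : swap 0 1 * swap 1 a * swap 0 1 = swap 0 a := by
      conv_rhs => rw [show swap (0 : Fin (M + 2)) a = swap (swap 0 1 1) (swap 0 1 a) by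
        rw [swap_apply_right, swap_apply_of_ne_of_ne (by simp [a, Fin.ext_iff]) (by simp [a, Fin.ext_iff])],
        swap_apply_apply, swap_inv]
    rw [← c, swap_comm (1 : Fin (M + 2)) 0, ← mul_assoc, ← mul_assoc, swap_mul_self, one_mul]

/-- Two homomorphisms agreeing on Carmichael's generators are equal. -/
theorem hom_ext_carm {G : Type*} [Group G] {k : ℕ} {f g : alternatingGroup (Fin (k + 2)) →* G}
    (h : ∀ i < k, f (carm k i) = g (carm k i)) : f = g :=
  MonoidHom.eq_of_eqOn_dense (closure_carm k) (by rintro _ ⟨i, hi, rfl⟩; exact h i hi)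

theorem finRotate_val {n : ℕ} (i : Fin n) (h : i.val + 1 < n) : (finRotate n i).val = i.val + 1 := by
  cases n with
  | zero => exact i.elim0
  | succ q =>
    rw [finRotate_succ_apply, Fin.val_add_one]
    split_ifs with h2
    · have := congrArg Fin.val h2
      rw [Fin.val_last] at this
      omega
    · rfl

theorem finRotate_val_last {n : ℕ} (i : Fin n) (h : i.val + 1 = n) : (finRotate n i).val = 0 := by
  cases n with
  | zero => exact i.elim0
  | succ q =>
    rw [finRotate_succ_apply, Fin.val_add_one, if_pos (Fin.ext (by rw [Fin.val_last]; omega))]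

/-- The parameters: `p` prime with `p ≤ M < 2 p` and a generator of `(ℤ/p)ˣ`. -/
structure AltData (M : ℕ) where
  /-- the prime -/
  p : ℕ
  isPrime : p.Prime
  three : 3 ≤ p
  le : p ≤ M
  lt : M < 2 * p
  /-- the multiplier -/
  g : (ZMod p)ˣ
  gen : ∀ x : (ZMod p)ˣ, ∃ k : ℕ, g ^ k = x

namespace AltData

variable {M : ℕ} (D : AltData M)

instance : Fact D.p.Prime := ⟨D.isPrime⟩

theorem exists_altData (hM : 3 ≤ M) : Nonempty (AltData M) := by
  obtain ⟨p, hp, hp3, hle, hlt⟩ : ∃ p : ℕ, p.Prime ∧ 3 ≤ p ∧ p ≤ M ∧ M < 2 * p := by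
    rcases eq_or_lt_of_le hM with h | h
    · exact ⟨3, Nat.prime_three, le_rfl, by omega, by omega⟩
    · obtain ⟨p, hp, h1, h2⟩ := Nat.exists_prime_lt_and_le_two_mul (M / 2) (by omega)
      exact ⟨p, hp, by omega, by omega, by omega⟩
  haveI := Fact.mk hp
  obtain ⟨g, hg⟩ := IsCyclic.exists_generator (α := (ZMod p)ˣ)
  exact ⟨⟨p, hp, hp3, hle, hlt, g, fun x => mem_powers_iff_mem_zpowers.2 (hg x)⟩⟩

/-- The first `k` indices. -/
def lowEquiv (k : ℕ) (hk : k ≤ M) : Fin k ≃ {j : Fin M // j.val < k} where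
  toFun i := ⟨⟨i.val, by omega⟩, i.isLt⟩
  invFun j := ⟨j.1.val, j.2⟩
  left_inv _ := rfl
  right_inv _ := rfl

/-- The cycle on the first `p` indices. -/
def cycP : Perm (Fin M) := (finRotate D.p).extendDomain (lowEquiv D.p D.le)

/-- The multiplication on the first `p` indices. -/
noncomputable def mulP : Perm (Fin M) :=
  Perm.extendDomain (Equiv.trans (ZMod.finEquiv D.p).toEquiv
    ((Equiv.mulLeft₀ (D.g : ZMod D.p) D.g.ne_zero).trans (ZMod.finEquiv D.p).symm.toEquiv))
    (lowEquiv D.p D.le)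

theorem sign_cycP : Perm.sign D.cycP = 1 := by
  rw [cycP, Perm.sign_extendDomain, sign_finRotate]
  have : Odd D.p := D.isPrime.odd_of_ne_two (by have := D.three; omega)
  exact Even.neg_one_pow (by obtain ⟨j, hj⟩ := this; exact ⟨j, by omega⟩)

theorem cycP_apply {i : ℕ} (hi : i + 1 < D.p) :
    D.cycP ⟨i, by have := D.le; omega⟩ = ⟨i + 1, by have := D.le; omega⟩ := by
  have e := Perm.extendDomain_apply_image (finRotate D.p) (lowEquiv D.p D.le) ⟨i, by omega⟩
  rw [cycP]
  refine e.trans ?_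
  exact Fin.ext (finRotate_val ⟨i, by omega⟩ hi)

variable {G : Type*} [Group G]

/-- The family `X i`. -/
def X (M : ℕ) (x Z : G) (i : ℕ) : G :=
  Z ^ i * x ^ (((Perm.sign (finRotate M) : ℤˣ) : ℤ) ^ i) * (Z ^ i)⁻¹

/-- A word for an element of the alternating group. -/
noncomputable def word {k : ℕ} (g : alternatingGroup (Fin (k + 2))) : FreeGroup (Fin k) :=
  Classical.epsilon fun w => FreeGroup.lift (fun i : Fin k => carm k i) w = g

theorem lift_word {k : ℕ} (g : alternatingGroup (Fin (k + 2))) :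
    FreeGroup.lift (fun i : Fin k => carm k i) (word g) = g := by
  refine Classical.epsilon_spec (p := fun w => FreeGroup.lift (fun i : Fin k => carm k i) w = g) ?_
  have h : Function.Surjective (FreeGroup.lift (fun i : Fin k => carm k i)) := by
    rw [← MonoidHom.range_eq_top, eq_top_iff, ← closure_carm k, Subgroup.closure_le]
    rintro _ ⟨i, hi, rfl⟩
    exact ⟨FreeGroup.of ⟨i, hi⟩, by simp⟩
  exact h g

/-- Evaluation of a word on a family. -/
noncomputable def ev {k : ℕ} (y : ℕ → G) (g : alternatingGroup (Fin (k + 2))) : G :=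
  FreeGroup.lift (fun i : Fin k => y i) (word g)

theorem map_ev {H : Type*} [Group H] (f : G →* H) {k : ℕ} (y : ℕ → G) (g : alternatingGroup (Fin (k + 2))) :
    f (ev y g) = ev (fun i => f (y i)) g :=
  DFunLike.congr_fun (show f.comp (FreeGroup.lift fun i : Fin k => y i) = FreeGroup.lift fun i : Fin k => f (y i)
    from FreeGroup.ext_hom _ _ fun i => by simp) (word g)

theorem ev_eq_hom {k : ℕ} {y : ℕ → G} (ρ : alternatingGroup (Fin (k + 2)) →* G)
    (h : ∀ i < k, ρ (carm k i) = y i) (g : alternatingGroup (Fin (k + 2))) : ev y g = ρ g := by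
  have : ρ.comp (FreeGroup.lift fun i : Fin k => carm k i) = FreeGroup.lift fun i : Fin k => y i :=
    FreeGroup.ext_hom _ _ fun i => by simp [h i i.isLt]
  rw [ev, ← this, MonoidHom.comp_apply, lift_word]

/-- The cycle word `U`. -/
noncomputable def U (x Z : G) : G := ev (X M x Z) (iota M D.cycP)

/-- The multiplier word `A`. -/
noncomputable def A (x Z : G) : G := ev (X M x Z) (iota M D.mulP)

/-- The family `Uⁱ x U⁻ⁱ`. -/
noncomputable def X' (x Z : G) (i : ℕ) : G := D.U x Z ^ i * x * (D.U x Z ^ i)⁻¹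

/-- The word for the cycle on the first `p - 1` indices. -/
noncomputable def S (x Z : G) : G := ev (D.X' x Z) (iota (D.p - 1) (finRotate (D.p - 1)))

/-- The eight relators. -/
noncomputable def rels (x Z : G) : List G :=
  [x ^ 3, (x * X M x Z 1) ^ 2, D.U x Z ^ D.p,
    D.A x Z * D.U x Z * (D.A x Z)⁻¹ * (D.U x Z ^ (D.g : ZMod D.p).val)⁻¹,
    D.A x Z * x * (D.A x Z)⁻¹ * (x ^ ((Perm.sign D.mulP : ℤˣ) : ℤ))⁻¹,
    D.U x Z * x * (D.U x Z)⁻¹ * (X M x Z 1)⁻¹,
    (D.U x Z)⁻¹ * Z * D.S x Z * ((D.U x Z)⁻¹ * Z)⁻¹ * (D.S x Z)⁻¹,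
    Z ^ M * x * (Z ^ M)⁻¹ * x⁻¹]

theorem map_X {H : Type*} [Group H] (f : G →* H) (x Z : G) (i : ℕ) : f (X M x Z i) = X M (f x) (f Z) i := by
  simp [X, map_zpow]

theorem map_rels {H : Type*} [Group H] (f : G →* H) (x Z : G) :
    (D.rels x Z).map f = D.rels (f x) (f Z) := by
  have hU : f (D.U x Z) = D.U (f x) (f Z) := by simp [U, map_ev, map_X]
  have hA : f (D.A x Z) = D.A (f x) (f Z) := by simp [A, map_ev, map_X]
  have hS : f (D.S x Z) = D.S (f x) (f Z) := by simp [S, map_ev, X', hU]; rfl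
  simp [rels, map_zpow, hU, hA, hS, map_X]

theorem rels_length (x Z : G) : (D.rels x Z).length = 8 := rfl

theorem sign_rot_pow : ((Perm.sign (finRotate M) : ℤˣ) : ℤ) ^ M = 1 := by
  rw [sign_finRotate, ← Units.val_pow_eq_pow_val, ← pow_mul]
  rw [Even.neg_one_pow, Units.val_one]
  rcases Nat.even_or_odd M with h | h
  · exact h.mul_left _
  · obtain ⟨j, rfl⟩ := h
    exact (show Even (2 * j + 1 - 1) by simp).mul_right _

theorem sign_sq (ε : ℤˣ) : (ε : ℤ) * (ε : ℤ) = 1 := by
  rcases Int.units_eq_one_or ε with h | h <;> simp [h]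

theorem sq_one_zpow {a b : G} (h : (a * b) ^ 2 = 1) (ε : ℤˣ) : (a ^ (ε : ℤ) * b ^ (ε : ℤ)) ^ 2 = 1 := by
  rcases Int.units_eq_one_or ε with e | e <;> rw [e]
  · simpa using h
  · simp only [Units.val_neg, Units.val_one, zpow_neg, zpow_one]
    rw [← mul_inv_rev, inv_pow, inv_eq_one, show b * a = a⁻¹ * (a * b) * a by group]
    rw [pow_two] at h ⊢
    calc a⁻¹ * (a * b) * a * (a⁻¹ * (a * b) * a) = a⁻¹ * (a * b * (a * b)) * a := by group
      _ = 1 := by rw [h]; group

theorem sq_one_symm {a b : G} (h : (a * b) ^ 2 = 1) : (b * a) ^ 2 = 1 := by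
  rw [pow_two] at h ⊢
  calc b * a * (b * a) = a⁻¹ * (a * b * (a * b)) * a := by group
    _ = 1 := by rw [h]; group

/-- The relations give the alternating group. -/
theorem exists_hom_of_rels {x Z : G} (h : ∀ r ∈ D.rels x Z, r = 1) :
    ∃ ρ : alternatingGroup (Fin (M + 2)) →* G, (∀ i < M, ρ (carm M i) = X M x Z i) ∧
      ∀ g, Commute (Z⁻¹ * ρ (iota M (finRotate M))) (ρ g) := by
  haveI : NeZero M := ⟨by have := D.le; have := D.three; omega⟩
  have hx : x ^ 3 = 1 := h _ (by simp [rels])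
  have h01 : (x * X M x Z 1) ^ 2 = 1 := h _ (by simp [rels])
  have hUp : D.U x Z ^ D.p = 1 := h _ (by simp [rels])
  have hAU : D.A x Z * D.U x Z * (D.A x Z)⁻¹ = D.U x Z ^ (D.g : ZMod D.p).val :=
    mul_inv_eq_one.1 (h _ (by simp [rels]))
  have hAx : D.A x Z * x * (D.A x Z)⁻¹ = x ^ ((Perm.sign D.mulP : ℤˣ) : ℤ) :=
    mul_inv_eq_one.1 (h _ (by simp [rels]))
  have hU1 : D.U x Z * x * (D.U x Z)⁻¹ = X M x Z 1 := mul_inv_eq_one.1 (h _ (by simp [rels]))
  have hDS : (D.U x Z)⁻¹ * Z * D.S x Z * ((D.U x Z)⁻¹ * Z)⁻¹ = D.S x Z :=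
    mul_inv_eq_one.1 (h _ (by simp [rels]))
  have hZM : Z ^ M * x * (Z ^ M)⁻¹ = x := mul_inv_eq_one.1 (h _ (by simp [rels]))
  set U := D.U x Z
  set A := D.A x Z
  set s : ℤˣ := Perm.sign (finRotate M) with hs
  set Dd := U⁻¹ * Z with hDd
  set Y := D.X' x Z with hY
  have hYdef : ∀ i, Y i = U ^ i * x * (U ^ i)⁻¹ := fun i => rfl
  have hYmod : ∀ i, Y (i % D.p) = Y i := fun i => by
    rw [hYdef, hYdef]
    conv_rhs => rw [← Nat.div_add_mod i D.p, pow_add, pow_mul, hUp, one_pow, one_mul]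
  -- the first block
  have hpair0 : ∀ d : (ZMod D.p)ˣ, (x * Y (d : ZMod D.p).val) ^ 2 = 1 := by
    intro d
    obtain ⟨k, rfl⟩ := D.gen d
    induction k with
    | zero =>
      haveI : Fact (1 < D.p) := ⟨by have := D.three; omega⟩
      rw [pow_zero, Units.val_one, ZMod.val_one, hYdef, pow_one, hU1]
      exact h01
    | succ k ih =>
      set ε : ℤˣ := Perm.sign D.mulP
      have e1 : A * Y ((D.g ^ k : (ZMod D.p)ˣ) : ZMod D.p).val * A⁻¹ =
          Y ((D.g ^ (k + 1) : (ZMod D.p)ˣ) : ZMod D.p).val ^ (ε : ℤ) := by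
        rw [pow_succ', Units.val_mul, ZMod.val_mul, hYmod, hYdef, hYdef, conj_zpow, ← hAx, pow_mul, ← hAU,
          conj_pow]
        group
      have e2 := congrArg (fun z => A * z * A⁻¹) ih
      simp only [← conj_pow, ← conj_mul, mul_one, mul_inv_cancel, e1, hAx] at e2
      have e3 := sq_one_zpow e2 ε
      rwa [← zpow_mul, ← zpow_mul, sign_sq, zpow_one, zpow_one] at e3
  have hYrel : CarmRel D.p Y := by
    constructor
    · intro i _; rw [hYdef, conj_pow, hx]; group
    · intro i hi j hj hij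
      wlog hlt : i < j generalizing i j
      · exact sq_one_symm (this j hj i hi hij.symm (by omega))
      have hd : ((j - i : ℕ) : ZMod D.p) ≠ 0 := by
        rw [Ne, ZMod.natCast_eq_zero_iff]
        exact Nat.not_dvd_of_pos_of_lt (by omega) (by omega)
      have h0 := hpair0 (Units.mk0 _ hd)
      rw [Units.val_mk0, ZMod.val_natCast, hYmod] at h0
      have e2 := congrArg (fun z => U ^ i * z * (U ^ i)⁻¹) h0
      simp only [← conj_pow, ← conj_mul, mul_one, mul_inv_cancel] at e2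
      rw [hYdef i, hYdef j, show U ^ j = U ^ i * U ^ (j - i) by rw [← pow_add]; congr 1; omega]
      rw [hYdef (j - i)] at e2
      calc _ = (U ^ i * x * (U ^ i)⁻¹ * (U ^ i * (U ^ (j - i) * x * (U ^ (j - i))⁻¹) * (U ^ i)⁻¹)) ^ 2 := by
            congr 2; group
        _ = 1 := e2
  obtain ⟨ψ, hψ⟩ := exists_hom (k := D.p - 1) (x := Y)
    ⟨fun i hi => hYrel.cube i (by omega), fun i hi j hj hij => hYrel.sq i (by omega) j (by omega) hij⟩
  have hS : D.S x Z = ψ (iota (D.p - 1) (finRotate (D.p - 1))) := ev_eq_hom ψ hψ _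
  set σs : ℤˣ := Perm.sign (finRotate (D.p - 1))
  have hSY : ∀ i, i + 1 < D.p - 1 → D.S x Z * Y i * (D.S x Z)⁻¹ = Y (i + 1) ^ (σs : ℤ) := by
    intro i hi
    rw [hS, ← hψ i (by omega), ← map_inv, ← map_mul, ← map_mul, ← hψ (i + 1) hi, ← map_zpow]
    congr 1
    have e := iota_conj_carm (finRotate (D.p - 1)) ⟨i, by omega⟩
    rw [e]
    congr 2
    exact finRotate_val ⟨i, by omega⟩ hi
  have hDY : ∀ i, i + 1 < D.p → Dd * Y i * Dd⁻¹ = Y i ^ (s : ℤ) := by
    intro i
    induction i with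
    | zero =>
      intro _
      have e : Y 0 = x := by rw [hYdef]; simp
      have e1 : Z * x ^ (s : ℤ) * Z⁻¹ = U * x * U⁻¹ := by
        rw [hU1, X, pow_one, ← hs, pow_one]
      rw [e, hDd]
      calc U⁻¹ * Z * x * (U⁻¹ * Z)⁻¹ = U⁻¹ * (Z * x ^ (s : ℤ) * Z⁻¹) ^ (s : ℤ) * U := by
            rw [conj_zpow, ← zpow_mul, sign_sq, zpow_one]; group
        _ = _ := by rw [e1, conj_zpow]; group
    | succ i ih =>
      intro hi
      have e := hSY i (by omega)
      have hc : Commute Dd (D.S x Z) := mul_inv_eq_iff_eq_mul.1 hDS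
      have e1 : Dd * (Y (i + 1) ^ (σs : ℤ)) * Dd⁻¹ = (Y (i + 1) ^ (σs : ℤ)) ^ (s : ℤ) := by
        rw [← e, conj_zpow, ← ih (by omega)]
        calc Dd * (D.S x Z * Y i * (D.S x Z)⁻¹) * Dd⁻¹
            = (Dd * D.S x Z) * Y i * (Dd * D.S x Z)⁻¹ := by group
          _ = _ := by rw [hc.eq]; group
      have e2 := congrArg (fun z => z ^ (σs : ℤ)) e1
      simp only [← conj_zpow, ← zpow_mul, sign_sq, zpow_one] at e2
      rw [mul_comm (σs : ℤ), mul_assoc (s : ℤ), sign_sq, mul_one] at e2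
      exact e2
  have hXsucc : ∀ i, X M x Z (i + 1) = Z * X M x Z i ^ (s : ℤ) * Z⁻¹ := fun i => by
    simp only [X, conj_zpow, ← hs, ← zpow_mul, ← pow_succ]
    rw [pow_succ' Z]; group
  have hXY : ∀ i, i < D.p → X M x Z i = Y i := by
    intro i
    induction i with
    | zero => intro _; simp [X, hYdef]
    | succ i ih =>
      intro hi
      rw [hXsucc, ih (by omega)]
      calc Z * Y i ^ (s : ℤ) * Z⁻¹ = U * (Dd * Y i * Dd⁻¹) ^ (s : ℤ) * U⁻¹ := by rw [hDd, conj_zpow]; group
        _ = U * Y i * U⁻¹ := by rw [hDY i hi, ← zpow_mul, sign_sq, zpow_one]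
        _ = _ := by rw [hYdef, hYdef, pow_succ']; group
  have hper : ∀ i, X M x Z (i + M) = X M x Z i := by
    intro i
    simp only [X, pow_add, sign_rot_pow, mul_one]
    calc Z ^ i * Z ^ M * x ^ ((s : ℤ) ^ i) * (Z ^ i * Z ^ M)⁻¹
        = Z ^ i * (Z ^ M * x ^ ((s : ℤ) ^ i) * (Z ^ M)⁻¹) * (Z ^ i)⁻¹ := by group
      _ = _ := by rw [← conj_zpow, hZM]
  have hshift : ∀ i d, d < D.p → 0 < d → (X M x Z i * X M x Z (i + d)) ^ 2 = 1 := by
    intro i d hd hd0
    induction i with
    | zero =>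
      rw [zero_add, hXY 0 (by omega), hXY d hd]
      exact hYrel.sq 0 (by omega) d hd (by omega)
    | succ i ih =>
      rw [hXsucc, show i + 1 + d = (i + d) + 1 by omega, hXsucc, conj_mul, conj_pow, sq_one_zpow ih]
      group
  have hXrel : CarmRel M (X M x Z) := by
    constructor
    · intro i _
      rw [X, conj_pow, ← zpow_natCast (x ^ _), ← zpow_mul, mul_comm, zpow_mul, zpow_natCast, hx, one_zpow]
      group
    · intro i hi j hj hij
      wlog hlt : i < j generalizing i j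
      · exact sq_one_symm (this j hj i hi hij.symm (by omega))
      rcases lt_or_ge (j - i) D.p with hd | hd
      · have := hshift i (j - i) hd (by omega)
        rwa [show i + (j - i) = j by omega] at this
      · have := hshift j (M - (j - i)) (by have := D.lt; omega) (by omega)
        rw [show j + (M - (j - i)) = i + M by omega, hper] at this
        exact sq_one_symm this
  obtain ⟨ρ, hρ⟩ := exists_hom hXrel
  refine ⟨ρ, hρ, fun g => ?_⟩
  set c := Z⁻¹ * ρ (iota M (finRotate M)) with hc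
  have hall : (MulAut.conj c).toMonoidHom.comp ρ = ρ := hom_ext_carm fun i hi => by
    simp only [MonoidHom.comp_apply, MulEquiv.coe_toMonoidHom, MulAut.conj_apply]
    have e := congrArg ρ (iota_conj_carm (finRotate M) ⟨i, hi⟩)
    simp only [map_mul, map_inv, map_zpow, ← hs] at e
    calc c * ρ (carm M i) * c⁻¹
        = Z⁻¹ * (ρ (iota M (finRotate M)) * ρ (carm M i) * (ρ (iota M (finRotate M)))⁻¹) * Z := by
          rw [hc]; group
      _ = Z⁻¹ * X M x Z (i + 1) ^ (s : ℤ) * Z := by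
          rw [e, hρ _ (finRotate M _).isLt]
          congr 2
          rcases Nat.lt_or_ge (i + 1) M with hlt | hge
          · rw [show (finRotate M ⟨i, hi⟩).val = i + 1 from finRotate_val ⟨i, hi⟩ hlt]
          · rw [show (finRotate M ⟨i, hi⟩).val = 0 from finRotate_val_last ⟨i, hi⟩ (show i + 1 = M by omega),
              show i + 1 = 0 + M by omega, hper]
      _ = ρ (carm M i) := by rw [hρ i hi, hXsucc, conj_zpow, ← zpow_mul, sign_sq, zpow_one]; group
  exact mul_inv_eq_iff_eq_mul.1 (DFunLike.congr_fun hall g)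

end AltData

end Cfsg.Agent.Lib.ShortPresSLn
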