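import Mathlib
import Cfsg.Agent.Lib.ShortPresSLn.AltPart

/-!
# Even permutations moving short tuples, and a two-element generating set of `A_M`
-/

set_option autoImplicit false

namespace Cfsg.Agent.Lib.ShortPresSLn

open Equiv

theorem exists_even_map {N k : ℕ} (v w : Fin k → Fin N) (hv : Function.Injective v) (hw : Function.Injective w)
    (hk : k + 2 ≤ N) : ∃ g : alternatingGroup (Fin N), ∀ i, (g : Perm (Fin N)) (v i) = w i := by
  classical
  let e : {x // x ∈ Set.range v} ≃ {x // x ∈ Set.range w} :=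
    (Equiv.ofInjective v hv).symm.trans (Equiv.ofInjective w hw)
  let σ : Perm (Fin N) := e.extendSubtype
  have hσ : ∀ i, σ (v i) = w i := fun i => by
    show e.extendSubtype (v i) = w i
    rw [extendSubtype_apply_of_mem e (v i) ⟨i, rfl⟩]
    show ((Equiv.ofInjective w hw) ((Equiv.ofInjective v hv).symm ⟨v i, _⟩) : Fin N) = w i
    rw [Equiv.ofInjective_symm_apply]
    rfl
  by_cases hs : Perm.sign σ = 1
  · exact ⟨⟨σ, Perm.mem_alternatingGroup.2 hs⟩, hσ⟩
  obtain ⟨a, ha, b, hb, hab⟩ : ∃ a ∈ (Finset.univ.image w)ᶜ, ∃ b ∈ (Finset.univ.image w)ᶜ, a ≠ b := by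
    refine Finset.one_lt_card.1 ?_
    rw [Finset.card_compl, Finset.card_image_of_injective _ hw, Finset.card_univ, Fintype.card_fin,
      Fintype.card_fin]
    omega
  refine ⟨⟨swap a b * σ, Perm.mem_alternatingGroup.2 ?_⟩, fun i => ?_⟩
  · rw [map_mul, Perm.sign_swap hab, (Int.units_eq_one_or (Perm.sign σ)).resolve_left hs]; decide
  · show (swap a b * σ) (v i) = w i
    rw [Perm.mul_apply, hσ]
    refine swap_apply_of_ne_of_ne ?_ ?_
    · rintro rfl; exact Finset.mem_compl.1 ha (Finset.mem_image.2 ⟨i, Finset.mem_univ _, rfl⟩)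
    · rintro rfl; exact Finset.mem_compl.1 hb (Finset.mem_image.2 ⟨i, Finset.mem_univ _, rfl⟩)

theorem iota_apply_low {M : ℕ} {π : Perm (Fin M)} (hπ : Perm.sign π = 1) (j : Fin (M + 2)) (hj : j.val < 2) :
    (iota M π : Perm (Fin (M + 2))) j = j := by
  show iotaPerm M π j = j
  rw [iotaPerm, if_pos hπ, mul_one]
  exact Perm.extendDomain_apply_not_subtype π (tailEquiv M) (by omega)

/-- On even permutations `iota` is a homomorphism. -/
def iotaHom (M : ℕ) : alternatingGroup (Fin M) →* alternatingGroup (Fin (M + 2)) :=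
  MonoidHom.mk' (fun π => iota M π) fun π π' => by
    refine Subtype.ext ?_
    rw [Subgroup.coe_mul, Subgroup.coe_mul]
    show iotaPerm M ((π : Perm (Fin M)) * π') = iotaPerm M π * iotaPerm M π'
    have h := Perm.mem_alternatingGroup.1 π.2
    have h' := Perm.mem_alternatingGroup.1 π'.2
    rw [iotaPerm, iotaPerm, iotaPerm, if_pos h, if_pos h', if_pos (by rw [map_mul, h, h', one_mul]), mul_one,
      mul_one, mul_one, Perm.extendDomain_mul]

theorem iotaHom_surj {M : ℕ} {g : alternatingGroup (Fin (M + 2))} (h0 : (g : Perm (Fin (M + 2))) 0 = 0)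
    (h1 : (g : Perm (Fin (M + 2))) 1 = 1) : g ∈ (iotaHom M).range := by
  set σ : Perm (Fin (M + 2)) := (g : Perm (Fin (M + 2))) with hσ
  have hlow : ∀ j : Fin (M + 2), j.val < 2 → σ j = j := fun j hj => by
    rcases Nat.lt_or_ge j.val 1 with h | h
    · rw [show j = 0 from Fin.ext (by rw [Fin.val_zero]; omega)]; exact h0
    · rw [show j = 1 from Fin.ext (by rw [Fin.val_one]; omega)]; exact h1
  have hp : ∀ j : Fin (M + 2), 2 ≤ j.val ↔ 2 ≤ (σ j).val := by
    intro j
    constructor
    · intro hj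
      by_contra h
      have h2 : σ j = j := σ.injective (hlow _ (by omega))
      rw [h2] at h; omega
    · intro hj
      by_contra h
      rw [hlow j (by omega)] at hj; omega
  set σ' : Perm {j : Fin (M + 2) // 2 ≤ j.val} := σ.subtypePerm fun j => (hp j).symm with hσ'
  set π : Perm (Fin M) := (tailEquiv M).trans (σ'.trans (tailEquiv M).symm) with hπ
  have hext : π.extendDomain (tailEquiv M) = σ := by
    refine Perm.ext fun j => ?_
    by_cases hj : 2 ≤ j.val
    · rw [Perm.extendDomain_apply_subtype π (tailEquiv M) hj]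
      simp only [hπ, Equiv.trans_apply, Equiv.apply_symm_apply]
      rfl
    · rw [Perm.extendDomain_apply_not_subtype π (tailEquiv M) hj, hlow j (by omega)]
  have hs : Perm.sign π = 1 := by
    rw [← Perm.sign_extendDomain π (tailEquiv M), hext]
    exact Perm.mem_alternatingGroup.1 g.2
  refine ⟨⟨π, Perm.mem_alternatingGroup.2 hs⟩, Subtype.ext ?_⟩
  show iotaPerm M π = σ
  rw [iotaPerm, if_pos hs, mul_one, hext]

/-- A three-cycle `(a b c)`. -/
theorem swap_pair_conj {α : Type*} [DecidableEq α] (σ : Perm α) (a b c : α) :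
    σ * (swap a b * swap b c) * σ⁻¹ = swap (σ a) (σ b) * swap (σ b) (σ c) := by
  rw [swap_apply_apply, swap_apply_apply]; group

theorem swap_pair_inv {α : Type*} [DecidableEq α] {a b c : α} (hca : c ≠ a) (hcb : c ≠ b) :
    (swap b a * swap a c)⁻¹ = swap a b * swap b c := by
  rw [mul_inv_rev, swap_inv, swap_inv, mul_swap_eq_swap_mul (swap a b) b c, swap_apply_right,
    swap_apply_of_ne_of_ne hca hcb, swap_comm b a]

theorem swap_pair_apply {α : Type*} [DecidableEq α] {a b c : α} (hab : a ≠ b) (hac : a ≠ c) (hbc : b ≠ c) :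
    (swap a b * swap b c) a = b ∧ (swap a b * swap b c) b = c ∧ (swap a b * swap b c) c = a ∧
      ∀ z, z ≠ a → z ≠ b → z ≠ c → (swap a b * swap b c) z = z := by
  refine ⟨?_, ?_, ?_, fun z h1 h2 h3 => ?_⟩
  · rw [Perm.mul_apply, swap_apply_of_ne_of_ne hab hac, swap_apply_left]
  · rw [Perm.mul_apply, swap_apply_left, swap_apply_of_ne_of_ne hac.symm hbc.symm]
  · rw [Perm.mul_apply, swap_apply_right, swap_apply_right]
  · rw [Perm.mul_apply, swap_apply_of_ne_of_ne h2 h3, swap_apply_of_ne_of_ne h1 h2]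

/-- Two generators of `A_{k+2}`: the three-cycle `(0 1 2)` and a cycle on all or on all but the first point. -/
def genTwo (k : ℕ) : Perm (Fin (k + 2)) :=
  if Odd (k + 2) then finRotate (k + 2)
  else (finRotate (k + 1)).extendDomain (p := fun j : Fin (k + 2) => 1 ≤ j.val)
    { toFun := fun i => ⟨⟨i.val + 1, by omega⟩, by simp⟩
      invFun := fun j => ⟨j.1.val - 1, by omega⟩
      left_inv := fun i => Fin.ext (by simp)
      right_inv := fun j => Subtype.ext (Fin.ext (by have := j.2; simp; omega)) }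

theorem genTwo_mem (k : ℕ) : genTwo k ∈ alternatingGroup (Fin (k + 2)) := by
  rw [Perm.mem_alternatingGroup, genTwo]
  split_ifs with h
  · rw [sign_finRotate]
    obtain ⟨j, hj⟩ := h
    exact Even.neg_one_pow ⟨j, by omega⟩
  · rw [Perm.sign_extendDomain, sign_finRotate]
    obtain ⟨j, hj⟩ := Nat.not_odd_iff_even.1 h
    exact Even.neg_one_pow ⟨j - 1, by omega⟩

theorem closure_carm_zero_genTwo (k : ℕ) :
    Subgroup.closure ({carm k 0, ⟨genTwo k, genTwo_mem k⟩} : Set (alternatingGroup (Fin (k + 2)))) = ⊤ := by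
  set g : alternatingGroup (Fin (k + 2)) := ⟨genTwo k, genTwo_mem k⟩
  set K := Subgroup.closure ({carm k 0, g} : Set (alternatingGroup (Fin (k + 2)))) with hK
  have hc0 : carm k 0 ∈ K := Subgroup.subset_closure (Or.inl rfl)
  have hg : g ∈ K := Subgroup.subset_closure (Or.inr rfl)
  -- consecutive three-cycles: `(i, i+1, i+2)` in the odd case, `(0, i+1, i+2)` in the even case
  let first : ℕ → ℕ := fun i => if Odd (k + 2) then i else 0
  have hfirst : ∀ i, i < k → first i < i + 1 := fun i _ => by simp only [first]; split_ifs <;> omega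
  have hcons : ∀ i (hi : i < k), ∃ q ∈ K, (q : Perm (Fin (k + 2))) =
      swap ⟨first i, by have := hfirst i hi; omega⟩ ⟨i + 1, by omega⟩ * swap ⟨i + 1, by omega⟩ ⟨i + 2, by omega⟩ := by
    intro i
    induction i with
    | zero =>
      intro hi
      refine ⟨carm k 0, hc0, ?_⟩
      show carmPerm k 0 = _
      rw [carmPerm, dif_pos hi]
      simp [first]
    | succ i ih =>
      intro hi
      obtain ⟨q, hq, e⟩ := ih (by omega)
      refine ⟨g * q * g⁻¹, K.mul_mem (K.mul_mem hg hq) (K.inv_mem hg), ?_⟩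
      rw [Subgroup.coe_mul, Subgroup.coe_mul, Subgroup.coe_inv, e, swap_pair_conj]
      have hstep : ∀ j, 1 ≤ j → ∀ hj : j + 1 < k + 2, genTwo k ⟨j, by omega⟩ = ⟨j + 1, hj⟩ := by
        intro j hj1 hj
        rw [genTwo]
        split_ifs
        · exact Fin.ext (finRotate_val _ hj)
        · rw [Perm.extendDomain_apply_subtype (b := (⟨j, by omega⟩ : Fin (k + 2))) _ _ hj1]
          refine Fin.ext ?_
          show (finRotate (k + 1) ⟨j - 1, _⟩).val + 1 = j + 1
          rw [finRotate_val _ (show j - 1 + 1 < k + 1 by omega)]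
          show j - 1 + 1 + 1 = j + 1
          omega
      have hf : genTwo k ⟨first i, by have := hfirst i (by omega); omega⟩ =
          ⟨first (i + 1), by have := hfirst (i + 1) hi; omega⟩ := by
        rw [genTwo]
        by_cases hodd : Odd (k + 2)
        · rw [if_pos hodd]
          refine Fin.ext ?_
          rw [finRotate_val _ (show first i + 1 < k + 2 by have := hfirst i (by omega); omega)]
          simp [first, hodd]
        · rw [if_neg hodd, Perm.extendDomain_apply_not_subtype _ _ (by simp [first, hodd])]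
          simp [first, hodd]
      show swap (genTwo k _) (genTwo k _) * swap (genTwo k _) (genTwo k _) = _
      rw [hf, hstep (i + 1) (by omega) (by omega), hstep (i + 2) (by omega) (by omega)]
  have hcarm : ∀ j, j < k → carm k j ∈ K := by
    intro j
    induction j with
    | zero => intro _; exact hc0
    | succ j ih =>
      intro hj
      have hq := ih (by omega)
      obtain ⟨c, hc, e⟩ := hcons (j + 1) hj
      have hne : ∀ (a b : ℕ) (ha : a < k + 2) (hb : b < k + 2), a ≠ b → (⟨a, ha⟩ : Fin (k + 2)) ≠ ⟨b, hb⟩ :=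
        fun a b ha hb hab h => hab (congrArg Fin.val h)
      have h01 : (0 : Fin (k + 2)) ≠ 1 := by simp
      have ne0 : ∀ (a : ℕ) (ha : a < k + 2), 0 < a → (0 : Fin (k + 2)) ≠ ⟨a, ha⟩ := fun a ha h0 h => by
        have := congrArg Fin.val h; simp at this; omega
      have ne1 : ∀ (a : ℕ) (ha : a < k + 2), 1 < a → (1 : Fin (k + 2)) ≠ ⟨a, ha⟩ := fun a ha h0 h => by
        have := congrArg Fin.val h; simp at this; omega
      by_cases hodd : Odd (k + 2)
      · -- conjugate by `(j+1 j+2 j+3)`
        rcases Nat.eq_zero_or_pos j with rfl | hj0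
        · obtain ⟨c', hc', e'⟩ := hcons 1 hj
          have h := K.inv_mem (K.mul_mem (K.mul_mem hc0 (K.mul_mem (K.mul_mem hc' hc0) (K.inv_mem hc'))) (K.inv_mem hc0))
          convert h using 1
          refine Subtype.ext ?_
          simp only [Subgroup.coe_inv, Subgroup.coe_mul, carm, carmPerm, dif_pos hj,
            dif_pos (show 0 < k by omega)]
          have e1 : (c' : Perm (Fin (k + 2))) = swap 1 ⟨2, by omega⟩ * swap ⟨2, by omega⟩ ⟨3, by omega⟩ := by
            rw [e']; simp [first, hodd]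
          rw [e1, swap_pair_conj, swap_pair_conj]
          obtain ⟨p1, p2, p3, pz⟩ := swap_pair_apply (a := (1 : Fin (k + 2))) (b := ⟨2, by omega⟩)
            (c := ⟨3, by omega⟩) (ne1 _ _ (by omega)) (ne1 _ _ (by omega)) (hne _ _ _ _ (by omega))
          obtain ⟨r1, r2, r3, rz⟩ := swap_pair_apply (a := (0 : Fin (k + 2))) (b := 1)
            (c := ⟨2, by omega⟩) h01 (ne0 _ _ (by omega)) (ne1 _ _ (by omega))
          rw [pz 0 h01 (ne0 _ _ (by omega)) (ne0 _ _ (by omega)), p1, p2, r1, r3,
            rz _ (ne0 _ _ (by omega)).symm (ne1 _ _ (by omega)).symm (hne _ _ _ _ (by omega))]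
          exact (swap_pair_inv (ne0 _ _ (by omega)).symm (ne1 _ _ (by omega)).symm).symm
        · have h := K.mul_mem (K.mul_mem hc hq) (K.inv_mem hc)
          convert h using 1
          refine Subtype.ext ?_
          simp only [Subgroup.coe_inv, Subgroup.coe_mul, e, carm, carmPerm, dif_pos hj,
            dif_pos (show j < k by omega), first, if_pos hodd]
          obtain ⟨p1, p2, p3, pz⟩ := swap_pair_apply (a := (⟨j + 1, by omega⟩ : Fin (k + 2)))
            (b := ⟨j + 1 + 1, by omega⟩) (c := ⟨j + 1 + 2, by omega⟩)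
            (hne _ _ _ _ (by omega)) (hne _ _ _ _ (by omega)) (hne _ _ _ _ (by omega))
          rw [swap_pair_conj, pz 0 (ne0 _ _ (by omega)) (ne0 _ _ (by omega)) (ne0 _ _ (by omega)),
            pz 1 (ne1 _ _ (by omega)) (ne1 _ _ (by omega)) (ne1 _ _ (by omega))]
          rw [show (⟨j + 2, by omega⟩ : Fin (k + 2)) = ⟨j + 1 + 1, by omega⟩ from rfl, p2]
      · have h := K.inv_mem (K.mul_mem (K.mul_mem hq hc) (K.inv_mem hq))
        convert h using 1
        refine Subtype.ext ?_
        simp only [Subgroup.coe_inv, Subgroup.coe_mul, e, carm, carmPerm, dif_pos hj,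
          dif_pos (show j < k by omega), first, if_neg hodd]
        obtain ⟨r1, r2, r3, rz⟩ := swap_pair_apply (a := (0 : Fin (k + 2))) (b := 1)
          (c := ⟨j + 2, by omega⟩) h01 (ne0 _ _ (by omega)) (ne1 _ _ (by omega))
        rw [swap_pair_conj, show (⟨0, by omega⟩ : Fin (k + 2)) = 0 from rfl, r1,
          show (⟨j + 1 + 1, by omega⟩ : Fin (k + 2)) = ⟨j + 2, by omega⟩ from rfl, r3,
          rz _ (ne0 _ _ (by omega)).symm (ne1 _ _ (by omega)).symm (hne _ _ _ _ (by omega))]
        exact (swap_pair_inv (ne0 _ _ (by omega)).symm (ne1 _ _ (by omega)).symm).symm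
  rw [eq_top_iff, ← closure_carm k, Subgroup.closure_le]
  rintro _ ⟨j, hj, rfl⟩
  exact hcarm j hj

end Cfsg.Agent.Lib.ShortPresSLn
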