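import Mathlib
import Cfsg.Agent.Lib.ShortPresSLn.Perm

/-!
# The eight relations hold in the alternating group
-/

set_option autoImplicit false

namespace Cfsg.Agent.Lib.ShortPresSLn

open Equiv

theorem iotaPerm_apply_low {M : ℕ} (π : Perm (Fin M)) (j : Fin (M + 2)) (hj : j.val < 2) :
    iotaPerm M π j = if Perm.sign π = 1 then j else swap 0 1 j := by
  rw [iotaPerm]
  split_ifs with h
  · rw [mul_one]; exact Perm.extendDomain_apply_not_subtype π (tailEquiv M) (by omega)
  · rw [Perm.mul_apply]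
    refine Perm.extendDomain_apply_not_subtype π (tailEquiv M) ?_
    have : (swap (0 : Fin (M + 2)) 1 j).val < 2 := by
      rw [swap_apply_def]; split_ifs <;> simp [hj]
    omega

/-- An index as a point. -/
abbrev tailPt {M : ℕ} (i : Fin M) : Fin (M + 2) := ⟨i.val + 2, by omega⟩

theorem exists_tail {M : ℕ} {j : Fin (M + 2)} (hj : 2 ≤ j.val) : ∃ i : Fin M, j = tailPt i :=
  ⟨⟨j.val - 2, by omega⟩, Fin.ext (by show j.val = j.val - 2 + 2; omega)⟩

theorem iota_mul {M : ℕ} (π π' : Perm (Fin M)) : iota M (π * π') = iota M π * iota M π' := by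
  refine Subtype.ext (Perm.ext fun j => ?_)
  show iotaPerm M (π * π') j = iotaPerm M π (iotaPerm M π' j)
  rcases Nat.lt_or_ge j.val 2 with hj | hj
  · have hlow : (iotaPerm M π' j).val < 2 := by
      rw [iotaPerm_apply_low π' j hj, swap_apply_def]; split_ifs <;> simp [hj]
    rw [iotaPerm_apply_low _ _ hj, iotaPerm_apply_low _ _ hlow, iotaPerm_apply_low _ _ hj, map_mul]
    rcases Int.units_eq_one_or (Perm.sign π) with h | h <;>
      rcases Int.units_eq_one_or (Perm.sign π') with h' | h' <;> simp [h, h']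
  · obtain ⟨i, rfl⟩ := exists_tail hj
    rw [iotaPerm_apply_tail, iotaPerm_apply_tail, iotaPerm_apply_tail]
    rfl

/-- `iota` as a homomorphism on all permutations. -/
def iotaAll (M : ℕ) : Perm (Fin M) →* alternatingGroup (Fin (M + 2)) := MonoidHom.mk' (iota M) iota_mul

theorem iota_inv {M : ℕ} (π : Perm (Fin M)) : iota M π⁻¹ = (iota M π)⁻¹ := map_inv (iotaAll M) π

theorem iota_pow {M : ℕ} (π : Perm (Fin M)) (k : ℕ) : iota M (π ^ k) = iota M π ^ k := map_pow (iotaAll M) π k

theorem iota_one (M : ℕ) : iota M 1 = 1 := map_one (iotaAll M)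

theorem finRotate_pow_val {n : ℕ} (k : ℕ) (i : Fin n) : (((finRotate n) ^ k) i).val = (i.val + k) % n := by
  induction k with
  | zero => simp [Nat.mod_eq_of_lt i.isLt]
  | succ k ih =>
    rw [pow_succ', Perm.mul_apply]
    have hn : 0 < n := Fin.pos i
    rcases Nat.lt_or_ge (((finRotate n) ^ k) i).val.succ n with h | h
    · rw [finRotate_val _ h, ih]
      rw [ih] at h
      rw [← Nat.add_assoc, Nat.add_mod (i.val + k) 1 n]
      rcases Nat.lt_or_ge 1 n with h1 | h1
      · rw [Nat.mod_eq_of_lt h1, Nat.mod_eq_of_lt h]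
      · omega
    · have h' : (((finRotate n) ^ k) i).val + 1 = n := by omega
      rw [finRotate_val_last _ h', ← Nat.add_assoc, ← Nat.mod_add_mod, ← ih, h', Nat.mod_self]

theorem finEquiv_symm_natCast (n : ℕ) [NeZero n] (k : ℕ) :
    ((ZMod.finEquiv n).symm (k : ZMod n)).val = k % n := by
  obtain ⟨q, rfl⟩ : ∃ q, n = q + 1 := ⟨n - 1, by have := NeZero.ne n; omega⟩
  exact ZMod.val_natCast (n := q + 1) k

theorem finRotate_pow_self (n : ℕ) : (finRotate n) ^ n = 1 :=
  Perm.ext fun i => Fin.ext (by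
    rw [finRotate_pow_val, Nat.add_mod_right, Nat.mod_eq_of_lt i.isLt]; rfl)

namespace AltData

variable {M : ℕ} (D : AltData M)

theorem low_apply {π : Perm (Fin D.p)} {i : ℕ} (hi : i < D.p) :
    π.extendDomain (lowEquiv D.p D.le) ⟨i, Nat.lt_of_lt_of_le hi D.le⟩ =
      ⟨(π ⟨i, hi⟩).val, Nat.lt_of_lt_of_le (π ⟨i, hi⟩).isLt D.le⟩ :=
  Perm.extendDomain_apply_image π (lowEquiv D.p D.le) ⟨i, hi⟩

theorem cycP_pow (k : ℕ) : D.cycP ^ k = Perm.extendDomain (finRotate D.p ^ k) (lowEquiv D.p D.le) :=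
  (map_pow (Perm.extendDomainHom (lowEquiv D.p D.le)) (finRotate D.p) k).symm

theorem cycP_pow_zero {k : ℕ} (hk : k < D.p) :
    (D.cycP ^ k) ⟨0, by have := D.le; have := D.three; omega⟩ = ⟨k, Nat.lt_of_lt_of_le hk D.le⟩ := by
  rw [cycP_pow, D.low_apply (show 0 < D.p by omega)]
  refine Fin.ext ?_
  show ((finRotate D.p ^ k) ⟨0, _⟩).val = k
  rw [finRotate_pow_val]
  simp [Nat.mod_eq_of_lt hk]

theorem conj_mulP : D.mulP * D.cycP * D.mulP⁻¹ = D.cycP ^ (D.g : ZMod D.p).val := by
  haveI : NeZero D.p := ⟨D.isPrime.ne_zero⟩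
  set m : Perm (Fin D.p) := Equiv.trans (ZMod.finEquiv D.p).toEquiv
    ((Equiv.mulLeft₀ (D.g : ZMod D.p) D.g.ne_zero).trans (ZMod.finEquiv D.p).symm.toEquiv) with hm
  have key : m * finRotate D.p = finRotate D.p ^ (D.g : ZMod D.p).val * m := by
    refine Perm.ext fun i => (ZMod.finEquiv D.p).injective ?_
    have hrot : ∀ (j : Fin D.p) (k : ℕ),
        ZMod.finEquiv D.p ((finRotate D.p ^ k) j) = ZMod.finEquiv D.p j + (k : ZMod D.p) := by
      intro j k
      have h1 : (finRotate D.p ^ k) j = j + ((ZMod.finEquiv D.p).symm (k : ZMod D.p)) := by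
        refine Fin.ext ?_
        rw [finRotate_pow_val, Fin.val_add]
        rw [finEquiv_symm_natCast, Nat.add_mod_mod]
      rw [h1, map_add, RingEquiv.apply_symm_apply]
    have h1 := hrot i 1
    rw [pow_one, Nat.cast_one] at h1
    rw [Perm.mul_apply, Perm.mul_apply, hrot, ZMod.natCast_zmod_val]
    simp only [hm, Equiv.trans_apply, RingEquiv.toEquiv_eq_coe, EquivLike.coe_coe, RingEquiv.apply_symm_apply,
      Equiv.mulLeft₀_apply, h1, mul_add, mul_one]
  rw [cycP_pow, mul_inv_eq_iff_eq_mul]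
  show Perm.extendDomainHom (lowEquiv D.p D.le) m * Perm.extendDomainHom (lowEquiv D.p D.le) (finRotate D.p) =
    Perm.extendDomainHom (lowEquiv D.p D.le) (finRotate D.p ^ _) * Perm.extendDomainHom (lowEquiv D.p D.le) m
  rw [← map_mul, ← map_mul, key]

theorem mulP_zero : D.mulP ⟨0, by have := D.le; have := D.three; omega⟩ =
    ⟨0, by have := D.le; have := D.three; omega⟩ := by
  haveI : NeZero D.p := ⟨D.isPrime.ne_zero⟩
  rw [mulP, D.low_apply (show 0 < D.p by have := D.three; omega)]
  refine Fin.ext ?_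
  show ((ZMod.finEquiv D.p).symm ((D.g : ZMod D.p) * ZMod.finEquiv D.p ⟨0, _⟩)).val = 0
  rw [show (⟨0, by have := D.three; omega⟩ : Fin D.p) = 0 from rfl, map_zero, mul_zero, map_zero]
  rfl

end AltData

/-- The natural embedding of `A_{k+2}` into `A_{M+2}`. -/
def embAlt (k M : ℕ) (h : k ≤ M) : alternatingGroup (Fin (k + 2)) →* alternatingGroup (Fin (M + 2)) :=
  MonoidHom.mk' (fun g => ⟨Perm.extendDomain (g : Perm (Fin (k + 2)))
      (AltData.lowEquiv (M := M + 2) (k + 2) (by omega)),
    Perm.mem_alternatingGroup.2 (by rw [Perm.sign_extendDomain]; exact Perm.mem_alternatingGroup.1 g.2)⟩)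
    fun a b => Subtype.ext (by
      show Perm.extendDomain ((a : Perm (Fin (k + 2))) * (b : Perm (Fin (k + 2)))) _ = _
      exact (Perm.extendDomain_mul _ _ _).symm)

theorem embAlt_apply_low {k M : ℕ} (h : k ≤ M) (g : alternatingGroup (Fin (k + 2))) (j : ℕ) (hj : j < k + 2) :
    (embAlt k M h g : Perm (Fin (M + 2))) ⟨j, by omega⟩ =
      ⟨((g : Perm (Fin (k + 2))) ⟨j, hj⟩).val, by omega⟩ :=
  Perm.extendDomain_apply_image (g : Perm (Fin (k + 2))) (AltData.lowEquiv (M := M + 2) (k + 2) (by omega)) ⟨j, hj⟩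

theorem embAlt_apply_high {k M : ℕ} (h : k ≤ M) (g : alternatingGroup (Fin (k + 2))) (j : Fin (M + 2))
    (hj : k + 2 ≤ j.val) : (embAlt k M h g : Perm (Fin (M + 2))) j = j :=
  Perm.extendDomain_apply_not_subtype _ _ (by omega)

theorem embAlt_carm {k M : ℕ} (h : k ≤ M) {i : ℕ} (hi : i < k) : embAlt k M h (carm k i) = carm M i := by
  refine Subtype.ext (Perm.ext fun j => ?_)
  show (embAlt k M h (carm k i) : Perm (Fin (M + 2))) j = carmPerm M i j
  rw [carmPerm, dif_pos (by omega : i < M)]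
  rcases Nat.lt_or_ge j.val (k + 2) with hj | hj
  · rw [show j = ⟨j.val, j.isLt⟩ from rfl, embAlt_apply_low h _ _ hj]
    refine Fin.ext ?_
    show (carmPerm k i ⟨j.val, hj⟩).val = _
    rw [carmPerm, dif_pos hi]
    have hinj : Function.Injective (Fin.castLE (by omega : k + 2 ≤ M + 2)) := Fin.castLE_injective _
    refine congrArg Fin.val (a₁ := Fin.castLE (by omega : k + 2 ≤ M + 2)
      ((swap 0 1 * swap 1 ⟨i + 2, by omega⟩ : Perm (Fin (k + 2))) ⟨j.val, hj⟩)) ?_
    rw [Perm.mul_apply, Perm.mul_apply, ← hinj.swap_apply, ← hinj.swap_apply]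
    rfl
  · have hne : ∀ m : Fin (M + 2), m.val < k + 2 → j ≠ m := fun m hm e => by
      rw [e] at hj; omega
    rw [embAlt_apply_high h _ _ hj, Perm.mul_apply,
      swap_apply_of_ne_of_ne (x := j) (hne _ (by rw [Fin.val_one]; omega))
        (hne _ (show i + 2 < k + 2 by omega)),
      swap_apply_of_ne_of_ne (x := j) (hne _ (by rw [Fin.val_zero]; omega)) (hne _ (by rw [Fin.val_one]; omega))]

theorem embAlt_iota {k M : ℕ} (h : k ≤ M) (π : Perm (Fin k)) :
    embAlt k M h (iota k π) = iota M (π.extendDomain (AltData.lowEquiv k h)) := by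
  refine Subtype.ext (Perm.ext fun j => ?_)
  show (embAlt k M h (iota k π) : Perm (Fin (M + 2))) j = iotaPerm M _ j
  rcases Nat.lt_or_ge j.val 2 with hj | hj
  · rw [show j = ⟨j.val, j.isLt⟩ from rfl, embAlt_apply_low h _ _ (by omega), iotaPerm_apply_low _ _ hj,
      Perm.sign_extendDomain]
    refine Fin.ext ?_
    show (iotaPerm k π ⟨j.val, _⟩).val = _
    rw [iotaPerm_apply_low π (⟨j.val, by omega⟩ : Fin (k + 2)) hj]
    split_ifs
    · rfl
    · rcases Nat.lt_or_ge j.val 1 with h1 | h1
      · rw [show (⟨j.val, by omega⟩ : Fin (k + 2)) = 0 from Fin.ext (by rw [Fin.val_zero]; exact Nat.lt_one_iff.1 h1),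
          show j = 0 from Fin.ext (by rw [Fin.val_zero]; exact Nat.lt_one_iff.1 h1), swap_apply_left,
          swap_apply_left, Fin.val_one, Fin.val_one]
      · rw [show (⟨j.val, by omega⟩ : Fin (k + 2)) = 1 from Fin.ext (show j.val = _ by rw [Fin.val_one]; omega),
          show j = 1 from Fin.ext (by rw [Fin.val_one]; omega), swap_apply_right,
          swap_apply_right, Fin.val_zero, Fin.val_zero]
  · obtain ⟨i, rfl⟩ := exists_tail hj
    rw [iotaPerm_apply_tail]
    rcases Nat.lt_or_ge i.val k with hi | hi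
    · rw [embAlt_apply_low h _ _ (show i.val + 2 < k + 2 by omega)]
      refine Fin.ext ?_
      show (iotaPerm k π ⟨(⟨i.val, hi⟩ : Fin k).val + 2, _⟩).val = _
      rw [iotaPerm_apply_tail]
      show (π ⟨i.val, hi⟩).val + 2 = (π.extendDomain (AltData.lowEquiv k h)
        (AltData.lowEquiv k h ⟨i.val, hi⟩)).val + 2
      rw [Perm.extendDomain_apply_image]
      rfl
    · rw [embAlt_apply_high h _ _ (show k + 2 ≤ i.val + 2 by omega)]
      exact Fin.ext (congrArg (fun z : Fin M => z.val + 2)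
        (Perm.extendDomain_apply_not_subtype π (AltData.lowEquiv k h) (b := i) (show ¬i.val < k by omega)).symm)

namespace AltData

variable {M : ℕ} (D : AltData M)

theorem X_sem {i : ℕ} (hi : i < M) : X M (carm M 0) (iota M (finRotate M)) i = carm M i := by
  induction i with
  | zero => simp [X]
  | succ i ih =>
    have e : X M (carm M 0) (iota M (finRotate M)) (i + 1) = iota M (finRotate M) *
        X M (carm M 0) (iota M (finRotate M)) i ^ ((Perm.sign (finRotate M) : ℤˣ) : ℤ) *
          (iota M (finRotate M))⁻¹ := by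
      simp only [X, conj_zpow, ← zpow_mul, ← pow_succ]
      rw [pow_succ' (iota M (finRotate M))]; group
    rw [e, ih (by omega), ← conj_zpow]
    have c := iota_conj_carm (finRotate M) ⟨i, by omega⟩
    simp only at c
    rw [c, ← zpow_mul, sign_sq, zpow_one, finRotate_val _ hi]

theorem ev_sem (g : alternatingGroup (Fin (M + 2))) :
    ev (X M (carm M 0) (iota M (finRotate M))) g = g :=
  ev_eq_hom (MonoidHom.id _) (fun _ hi => (X_sem hi).symm) g

theorem X'_sem {i : ℕ} (hi : i < D.p) : D.X' (carm M 0) (iota M (finRotate M)) i = carm M i := by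
  rw [X', U, ev_sem, ← iota_pow]
  have c := iota_conj_carm (D.cycP ^ i) (⟨0, by have := D.le; omega⟩ : Fin M)
  simp only at c
  rw [c, D.cycP_pow_zero hi, map_pow, D.sign_cycP, one_pow, Units.val_one, zpow_one]

theorem rels_sem : ∀ r ∈ D.rels (carm M 0) (iota M (finRotate M)), r = 1 := by
  have hM : 0 < M := by have := D.le; have := D.three; omega
  have h1M : 1 < M := by have := D.le; have := D.three; omega
  intro r hr
  simp only [rels, List.mem_cons, List.not_mem_nil, or_false] at hr
  have hU : D.U (carm M 0) (iota M (finRotate M)) = iota M D.cycP := ev_sem _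
  have hA : D.A (carm M 0) (iota M (finRotate M)) = iota M D.mulP := ev_sem _
  rcases hr with rfl | rfl | rfl | rfl | rfl | rfl | rfl | rfl
  · exact (carm_rel M).cube 0 hM
  · rw [X_sem h1M]; exact (carm_rel M).sq 0 hM 1 h1M (by omega)
  · rw [hU, ← iota_pow, cycP_pow, finRotate_pow_self, Perm.extendDomain_one, iota_one]
  · rw [hU, hA, ← iota_pow, ← iota_mul, ← iota_inv, ← iota_mul, D.conj_mulP, mul_inv_cancel]
  · have c := iota_conj_carm D.mulP (⟨0, hM⟩ : Fin M)
    simp only at c
    rw [hA, c, D.mulP_zero, mul_inv_cancel]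
  · have c := iota_conj_carm D.cycP (⟨0, hM⟩ : Fin M)
    simp only at c
    have e := D.cycP_pow_zero (k := 1) (by have := D.three; omega)
    rw [pow_one] at e
    rw [hU, c, e, D.sign_cycP, Units.val_one, zpow_one, X_sem h1M, mul_inv_cancel]
  · have hS : D.S (carm M 0) (iota M (finRotate M)) =
        iota M (Perm.extendDomain (finRotate (D.p - 1)) (lowEquiv (D.p - 1) (by have := D.le; omega))) := by
      rw [S, ev_eq_hom (embAlt (D.p - 1) M (by have := D.le; omega))
        (fun i hi => by rw [embAlt_carm _ hi, D.X'_sem (by omega)]), embAlt_iota]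
    rw [hU, hS, mul_inv_eq_one, mul_inv_eq_iff_eq_mul, ← iota_inv, ← iota_mul, ← iota_mul, ← iota_mul]
    congr 1
    set σ := Perm.extendDomain (finRotate (D.p - 1)) (lowEquiv (M := M) (D.p - 1) (by have := D.le; omega)) with hσ
    set d := D.cycP⁻¹ * finRotate M with hd
    have hfix : ∀ j : Fin M, j.val < D.p - 1 → d j = j := fun j hj => by
      rw [hd, Perm.mul_apply, Perm.inv_def, Equiv.symm_apply_eq]
      refine Fin.ext ?_
      rw [finRotate_val j (by have := D.le; omega)]
      exact (congrArg Fin.val (D.cycP_apply (i := j.val) (by omega))).symm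
    refine Perm.ext fun j => ?_
    show d (σ j) = σ (d j)
    rcases Nat.lt_or_ge j.val (D.p - 1) with hj | hj
    · rw [hfix j hj, hfix]
      have e := Perm.extendDomain_apply_image (finRotate (D.p - 1))
        (lowEquiv (M := M) (D.p - 1) (by have := D.le; omega)) ⟨j.val, hj⟩
      rw [hσ]
      show ((Perm.extendDomain (finRotate (D.p - 1)) (lowEquiv (M := M) (D.p - 1) (by have := D.le; omega))) j).val <
        D.p - 1
      exact (congrArg Fin.val e).trans_lt ((finRotate (D.p - 1)) ⟨j.val, hj⟩).isLt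
    · have hdj : D.p - 1 ≤ (d j).val := by
        by_contra hcon
        have := hfix (d j) (by omega)
        have := d.injective this
        rw [this] at hcon; omega
      rw [hσ, Perm.extendDomain_apply_not_subtype _ _ (b := j) (show ¬j.val < D.p - 1 by omega),
        Perm.extendDomain_apply_not_subtype _ _ (b := d j) (show ¬(d j).val < D.p - 1 by omega)]
  · have c := iota_conj_carm (finRotate M ^ M) (⟨0, hM⟩ : Fin M)
    simp only at c
    rw [← iota_pow, c, finRotate_pow_self, Perm.sign_one, Units.val_one, zpow_one, Perm.one_apply, mul_inv_cancel]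

end AltData

end Cfsg.Agent.Lib.ShortPresSLn
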