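import Mathlib

/-!
# Changing generators of a finite presentation
-/

set_option autoImplicit false

namespace Cfsg.Agent.Lib.ShortPresSLn

/-- A group with a presentation on `a` generators and at most `r` relations. -/
def HasPres (a r : ℕ) (G : Type*) [Group G] : Prop :=
  ∃ rels : Finset (FreeGroup (Fin a)), rels.card ≤ r ∧
    Nonempty (PresentedGroup (↑rels : Set (FreeGroup (Fin a))) ≃* G)

theorem HasPres.mono {a r r' : ℕ} {G : Type*} [Group G] (h : HasPres a r G) (hr : r ≤ r') : HasPres a r' G := by
  obtain ⟨rels, h1, h2⟩ := h; exact ⟨rels, h1.trans hr, h2⟩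

/-- One more generator, equal to `1`. -/
theorem HasPres.pad {a r : ℕ} {G : Type*} [Group G] (h : HasPres a r G) : HasPres (a + 1) (r + 1) G := by
  classical
  obtain ⟨rels, hc, ⟨e⟩⟩ := h
  let ι : FreeGroup (Fin a) →* FreeGroup (Fin (a + 1)) := FreeGroup.map Fin.castSucc
  let R : Finset (FreeGroup (Fin (a + 1))) := insert (FreeGroup.of (Fin.last a)) (rels.image ι)
  refine ⟨R, (Finset.card_insert_le _ _).trans (Nat.add_le_add_right (Finset.card_image_le.trans hc) 1), ⟨?_⟩⟩
  set P₀ := PresentedGroup (↑rels : Set (FreeGroup (Fin a)))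
  set P₁ := PresentedGroup (↑R : Set (FreeGroup (Fin (a + 1))))
  let v : Fin (a + 1) → P₀ := Fin.lastCases 1 fun i => PresentedGroup.of i
  have hv : (FreeGroup.lift v).comp ι = PresentedGroup.mk _ := FreeGroup.ext_hom _ _ fun i => by
    simp [ι, v]; rfl
  have h1 : ∀ r ∈ (↑R : Set (FreeGroup (Fin (a + 1)))), FreeGroup.lift v r = 1 := by
    intro r hr
    simp only [R, Finset.coe_insert, Finset.coe_image, Set.mem_insert_iff, Set.mem_image] at hr
    rcases hr with rfl | ⟨s, hs, rfl⟩
    · simp [v]
    · rw [show FreeGroup.lift v (ι s) = PresentedGroup.mk _ s from DFunLike.congr_fun hv s]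
      exact PresentedGroup.one_of_mem hs
  let w : Fin a → P₁ := fun i => PresentedGroup.of i.castSucc
  have hw : (PresentedGroup.mk _).comp ι = FreeGroup.lift w := FreeGroup.ext_hom _ _ fun i => by
    simp [ι, w]; rfl
  have h2 : ∀ r ∈ (↑rels : Set (FreeGroup (Fin a))), FreeGroup.lift w r = 1 := by
    intro r hr
    rw [← hw, MonoidHom.comp_apply]
    exact PresentedGroup.one_of_mem (by
      simp only [R, Finset.coe_insert, Finset.coe_image]
      exact Or.inr ⟨r, hr, rfl⟩)
  refine MulEquiv.trans (MonoidHom.toMulEquiv (PresentedGroup.toGroup h1) (PresentedGroup.toGroup h2) ?_ ?_) e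
  · refine PresentedGroup.ext fun i => ?_
    refine Fin.lastCases ?_ (fun j => ?_) i
    · rw [MonoidHom.comp_apply, PresentedGroup.toGroup.of, MonoidHom.id_apply]
      simp only [v, Fin.lastCases_last, map_one]
      exact (PresentedGroup.one_of_mem (rels := (↑R : Set (FreeGroup (Fin (a + 1))))) (by simp [R])).symm
    · rw [MonoidHom.comp_apply, PresentedGroup.toGroup.of, MonoidHom.id_apply]
      simp only [v, Fin.lastCases_castSucc]
      exact PresentedGroup.toGroup.of h2
  · refine PresentedGroup.ext fun i => ?_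
    rw [MonoidHom.comp_apply, PresentedGroup.toGroup.of, MonoidHom.id_apply]
    simp only [w]
    rw [PresentedGroup.toGroup.of]
    simp [v]

/-- Any generating tuple of length `b` gives a presentation with `b` more relations. -/
theorem HasPres.change {a b r : ℕ} {G : Type*} [Group G] (h : HasPres a r G) (g : Fin b → G)
    (hg : Subgroup.closure (Set.range g) = ⊤) : HasPres b (r + b) G := by
  classical
  obtain ⟨rels, hc, ⟨e⟩⟩ := h
  set P₀ := PresentedGroup (↑rels : Set (FreeGroup (Fin a)))
  have hsur : Function.Surjective (FreeGroup.lift g) := by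
    rw [← MonoidHom.range_eq_top, eq_top_iff, ← hg, Subgroup.closure_le]
    rintro _ ⟨j, rfl⟩
    exact ⟨FreeGroup.of j, by simp⟩
  choose ww hww using fun i : Fin a => hsur (e (PresentedGroup.of i))
  have hsur0 : Function.Surjective (PresentedGroup.mk (↑rels : Set (FreeGroup (Fin a)))) :=
    PresentedGroup.mk_surjective _
  choose vv hvv using fun j : Fin b => hsur0 (e.symm (g j))
  let τ : FreeGroup (Fin a) →* FreeGroup (Fin b) := FreeGroup.lift ww
  let R : Finset (FreeGroup (Fin b)) :=
    rels.image τ ∪ Finset.univ.image fun j => FreeGroup.of j * (τ (vv j))⁻¹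
  refine ⟨R, (Finset.card_union_le _ _).trans (Nat.add_le_add (Finset.card_image_le.trans hc)
    (Finset.card_image_le.trans (by simp))), ⟨?_⟩⟩
  set P₁ := PresentedGroup (↑R : Set (FreeGroup (Fin b)))
  have hgt : (FreeGroup.lift g).comp τ = e.toMonoidHom.comp (PresentedGroup.mk _) :=
    FreeGroup.ext_hom _ _ fun i => by
      simp only [MonoidHom.comp_apply, τ, FreeGroup.lift_apply_of, hww]; rfl
  have h1 : ∀ s ∈ (↑R : Set (FreeGroup (Fin b))), FreeGroup.lift g s = 1 := by
    intro s hs
    simp only [R, Finset.coe_union, Finset.coe_image, Finset.coe_univ, Set.image_univ, Set.mem_union,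
      Set.mem_image, Set.mem_range] at hs
    rcases hs with ⟨r, hr, rfl⟩ | ⟨j, rfl⟩
    · rw [← MonoidHom.comp_apply, hgt, MonoidHom.comp_apply, PresentedGroup.one_of_mem hr, map_one]
    · rw [map_mul, map_inv, ← MonoidHom.comp_apply, hgt, MonoidHom.comp_apply, hvv]
      simp
  have h2 : ∀ r ∈ (↑rels : Set (FreeGroup (Fin a))),
      FreeGroup.lift (fun i => PresentedGroup.mk (↑R : Set (FreeGroup (Fin b))) (ww i)) r = 1 := by
    intro r hr
    have : FreeGroup.lift (fun i => PresentedGroup.mk (↑R : Set (FreeGroup (Fin b))) (ww i)) =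
        (PresentedGroup.mk _).comp τ := FreeGroup.ext_hom _ _ fun i => by simp [τ]
    rw [this, MonoidHom.comp_apply]
    exact PresentedGroup.one_of_mem (by
      simp only [R, Finset.coe_union, Finset.coe_image]
      exact Or.inl ⟨r, hr, rfl⟩)
  refine MonoidHom.toMulEquiv (PresentedGroup.toGroup h1)
    ((PresentedGroup.toGroup h2).comp e.symm.toMonoidHom) ?_ ?_
  · refine PresentedGroup.ext fun j => ?_
    rw [MonoidHom.comp_apply, PresentedGroup.toGroup.of, MonoidHom.id_apply, MonoidHom.comp_apply]
    show PresentedGroup.toGroup h2 (e.symm (g j)) = _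
    rw [← hvv j]
    have e2 : (PresentedGroup.toGroup h2).comp (PresentedGroup.mk (↑rels : Set (FreeGroup (Fin a)))) =
        (PresentedGroup.mk (↑R : Set (FreeGroup (Fin b)))).comp τ := FreeGroup.ext_hom _ _ fun i => by
      simp only [MonoidHom.comp_apply, τ, FreeGroup.lift_apply_of]
      exact PresentedGroup.toGroup.of h2
    rw [← MonoidHom.comp_apply (PresentedGroup.toGroup h2) (PresentedGroup.mk _), e2, MonoidHom.comp_apply]
    refine (mul_inv_eq_one.1 ?_).symm
    show PresentedGroup.mk (↑R : Set (FreeGroup (Fin b))) (FreeGroup.of j) * _ = 1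
    rw [← map_inv, ← map_mul]
    exact PresentedGroup.one_of_mem (by simp [R])
  · have e3 : ((PresentedGroup.toGroup h1).comp (PresentedGroup.toGroup h2)) = e.toMonoidHom :=
      PresentedGroup.ext fun i => by
        rw [MonoidHom.comp_apply, PresentedGroup.toGroup.of]
        exact (show FreeGroup.lift g (ww i) = _ from hww i)
    rw [← MonoidHom.comp_assoc, e3]
    ext x
    exact e.apply_symm_apply x

/-- The quotient by the normal closure of one element takes one more relation. -/
theorem HasPres.quotient {a r : ℕ} {G : Type*} [Group G] (h : HasPres a r G) (N : Subgroup G) [N.Normal]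
    (c : G) (hc : Subgroup.normalClosure {c} = N) : HasPres a (r + 1) (G ⧸ N) := by
  classical
  obtain ⟨rels, hcard, ⟨e⟩⟩ := h
  obtain ⟨w, hw⟩ := PresentedGroup.mk_surjective (↑rels : Set (FreeGroup (Fin a))) (e.symm c)
  let R : Finset (FreeGroup (Fin a)) := insert w rels
  refine ⟨R, (Finset.card_insert_le _ _).trans (Nat.add_le_add_right hcard 1), ⟨?_⟩⟩
  set P₁ := PresentedGroup (↑R : Set (FreeGroup (Fin a)))
  let π : G →* G ⧸ N := QuotientGroup.mk' N
  let v : Fin a → G ⧸ N := fun i => π (e (PresentedGroup.of i))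
  have hv : FreeGroup.lift v = (π.comp e.toMonoidHom).comp (PresentedGroup.mk _) :=
    FreeGroup.ext_hom _ _ fun i => by simp [v]; rfl
  have h1 : ∀ s ∈ (↑R : Set (FreeGroup (Fin a))), FreeGroup.lift v s = 1 := by
    intro s hs
    rw [hv, MonoidHom.comp_apply]
    simp only [R, Finset.coe_insert, Set.mem_insert_iff] at hs
    rcases hs with rfl | hs
    · rw [hw, MonoidHom.comp_apply, MulEquiv.coe_toMonoidHom, e.apply_symm_apply]
      exact (QuotientGroup.eq_one_iff c).2 (hc ▸ Subgroup.subset_normalClosure rfl)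
    · rw [PresentedGroup.one_of_mem hs, map_one]
  have h2 : ∀ s ∈ (↑rels : Set (FreeGroup (Fin a))), FreeGroup.lift (fun i => (PresentedGroup.of i : P₁)) s = 1 := by
    intro s hs
    rw [show FreeGroup.lift (fun i => (PresentedGroup.of i : P₁)) = PresentedGroup.mk _ from
      FreeGroup.ext_hom _ _ fun i => by simp; rfl]
    exact PresentedGroup.one_of_mem (by simp [R, Finset.mem_coe.1 hs])
  let ψ : G →* P₁ := (PresentedGroup.toGroup h2).comp e.symm.toMonoidHom
  have hψc : ψ c = 1 := by
    show PresentedGroup.toGroup h2 (e.symm c) = 1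
    have e4 : (PresentedGroup.toGroup h2).comp (PresentedGroup.mk (↑rels : Set (FreeGroup (Fin a)))) =
        PresentedGroup.mk (↑R : Set (FreeGroup (Fin a))) := FreeGroup.ext_hom _ _ fun i => by
      show PresentedGroup.toGroup h2 (PresentedGroup.of i) = _
      rw [PresentedGroup.toGroup.of]
      rfl
    rw [← hw, ← MonoidHom.comp_apply, e4]
    exact PresentedGroup.one_of_mem (by simp [R])
  have hker : N ≤ ψ.ker := hc ▸ Subgroup.normalClosure_le_normal (by simpa [MonoidHom.mem_ker] using hψc)
  refine MonoidHom.toMulEquiv (PresentedGroup.toGroup h1) (QuotientGroup.lift N ψ hker) ?_ ?_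
  · refine PresentedGroup.ext fun i => ?_
    rw [MonoidHom.comp_apply, PresentedGroup.toGroup.of, MonoidHom.id_apply]
    show ψ (e (PresentedGroup.of i)) = _
    show PresentedGroup.toGroup h2 (e.symm (e (PresentedGroup.of i))) = _
    rw [e.symm_apply_apply, PresentedGroup.toGroup.of]
  · refine QuotientGroup.monoidHom_ext N ?_
    ext x
    show PresentedGroup.toGroup h1 (ψ x) = π x
    have e3 : (PresentedGroup.toGroup h1).comp (PresentedGroup.toGroup h2) = π.comp e.toMonoidHom :=
      PresentedGroup.ext fun i => by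
        rw [MonoidHom.comp_apply, PresentedGroup.toGroup.of]
        exact PresentedGroup.toGroup.of h1
    have := DFunLike.congr_fun e3 (e.symm x)
    exact this.trans (congrArg π (e.apply_symm_apply x))

/-- A presentation from a list of relators, a surjection back and a generating tuple satisfying them. -/
theorem hasPres_of_list {a : ℕ} {G : Type*} [Group G] [Finite G] (l : List (FreeGroup (Fin a))) (g : Fin a → G)
    (hrel : ∀ r ∈ l, FreeGroup.lift g r = 1) (hgen : Subgroup.closure (Set.range g) = ⊤)
    (hφ : ∃ φ : G →* PresentedGroup {r | r ∈ l}, Function.Surjective φ) : HasPres a l.length G := by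
  classical
  refine ⟨l.toFinset, List.toFinset_card_le l, ?_⟩
  rw [show (↑l.toFinset : Set (FreeGroup (Fin a))) = {r | r ∈ l} by ext r; simp]
  obtain ⟨φ, hφ⟩ := hφ
  haveI : Finite (PresentedGroup {r | r ∈ l}) := Finite.of_surjective φ hφ
  let ρ := PresentedGroup.toGroup (rels := {r | r ∈ l}) hrel
  have hs : Function.Surjective ρ := by
    rw [← MonoidHom.range_eq_top, eq_top_iff, ← hgen, Subgroup.closure_le]
    rintro _ ⟨i, rfl⟩
    exact ⟨PresentedGroup.of i, PresentedGroup.toGroup.of _⟩
  exact ⟨MulEquiv.ofBijective ρ ((Nat.bijective_iff_surjective_and_card ρ).2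
    ⟨hs, le_antisymm (Nat.card_le_card_of_surjective φ hφ) (Nat.card_le_card_of_surjective ρ hs)⟩)⟩

end Cfsg.Agent.Lib.ShortPresSLn
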