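import Mathlib
import Cfsg.Agent.Lib.ShortPresSLn.Perm
import Cfsg.Agent.Lib.ShortPresSL3.Surject

/-!
# Orbits of root elements under `A_n`, `n ≥ 4`

`ρ` is an action of `A_n`; an element fixed by the stabiliser of the points `0, 1` has one conjugate for each
ordered pair of distinct points.
-/

set_option autoImplicit false

namespace Cfsg.Agent.Lib.ShortPresSLn

open Equiv Polynomial
open ShortPresSL2 (polyWord)
open ShortPresSL3 (Scal)

variable {G : Type*} [Group G] {n : ℕ} (hn : 4 ≤ n) (ρ : alternatingGroup (Fin n) →* G)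

/-- The points used by the base relations. -/
def pt (k : Fin 4) : Fin n := ⟨k.val, Nat.lt_of_lt_of_le k.isLt hn⟩

local notation "p₀" => pt hn 0
local notation "p₁" => pt hn 1
local notation "p₂" => pt hn 2
local notation "p₃" => pt hn 3

/-- An element is stable if the stabiliser of `0, 1` fixes it. -/
def Stable (v : G) : Prop :=
  ∀ g : alternatingGroup (Fin n), (g : Perm (Fin n)) p₀ = p₀ → (g : Perm (Fin n)) p₁ = p₁ → Commute (ρ g) v

/-- A chosen even permutation taking `0, 1` to `i, j`. -/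
noncomputable def mv (i j : Fin n) : alternatingGroup (Fin n) :=
  open scoped Classical in
  if h : ∃ g : alternatingGroup (Fin n), (g : Perm (Fin n)) p₀ = i ∧ (g : Perm (Fin n)) p₁ = j then h.choose else 1

/-- The conjugate of `v` attached to the ordered pair `(i, j)`. -/
noncomputable def orb (v : G) (i j : Fin n) : G := ρ (mv hn i j) * v * (ρ (mv hn i j))⁻¹

theorem pt_ne {a b : Fin 4} (h : a ≠ b) : pt hn a ≠ (pt hn b : Fin n) := fun e =>
  h (Fin.ext (congrArg (fun z : Fin n => z.val) e))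

theorem exists_move2 {i j : Fin n} (h : i ≠ j) :
    ∃ g : alternatingGroup (Fin n), (g : Perm (Fin n)) p₀ = i ∧ (g : Perm (Fin n)) p₁ = j := by
  obtain ⟨g, hg⟩ := exists_even_map ![p₀, p₁] ![i, j]
    (by intro a b e; fin_cases a <;> fin_cases b <;> simp_all [pt, Fin.ext_iff])
    (by intro a b e; fin_cases a <;> fin_cases b <;> simp_all)
    (by omega)
  exact ⟨g, hg 0, hg 1⟩

theorem mv_spec {i j : Fin n} (h : i ≠ j) :
    (mv hn i j : Perm (Fin n)) p₀ = i ∧ (mv hn i j : Perm (Fin n)) p₁ = j := by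
  rw [mv, dif_pos (exists_move2 hn h)]
  exact (exists_move2 hn h).choose_spec

theorem orb_eq {v : G} (hv : Stable hn ρ v) (g : alternatingGroup (Fin n)) :
    ρ g * v * (ρ g)⁻¹ = orb hn ρ v ((g : Perm (Fin n)) p₀) ((g : Perm (Fin n)) p₁) := by
  obtain ⟨e0, e1⟩ := mv_spec hn (i := (g : Perm (Fin n)) p₀) (j := (g : Perm (Fin n)) p₁)
    ((g : Perm (Fin n)).injective.ne (pt_ne hn (by decide)))
  set m := mv hn ((g : Perm (Fin n)) p₀) ((g : Perm (Fin n)) p₁)
  have hc := hv (m⁻¹ * g)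
    (by rw [Subgroup.coe_mul, Subgroup.coe_inv, Perm.mul_apply, ← e0]; simp)
    (by rw [Subgroup.coe_mul, Subgroup.coe_inv, Perm.mul_apply, ← e1]; simp)
  rw [map_mul, map_inv] at hc
  calc ρ g * v * (ρ g)⁻¹ = ρ m * (((ρ m)⁻¹ * ρ g) * v) * (ρ g)⁻¹ := by group
    _ = ρ m * v * (ρ m)⁻¹ := by rw [hc.eq]; group

theorem orb_base {v : G} (hv : Stable hn ρ v) : orb hn ρ v p₀ p₁ = v := by
  simpa using (orb_eq hn ρ hv 1).symm

theorem orb_map {v : G} (hv : Stable hn ρ v) (g : alternatingGroup (Fin n)) {i j : Fin n} (h : i ≠ j) :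
    ρ g * orb hn ρ v i j * (ρ g)⁻¹ = orb hn ρ v ((g : Perm (Fin n)) i) ((g : Perm (Fin n)) j) := by
  obtain ⟨e0, e1⟩ := mv_spec hn h
  calc ρ g * orb hn ρ v i j * (ρ g)⁻¹ = ρ (g * mv hn i j) * v * (ρ (g * mv hn i j))⁻¹ := by
        rw [orb, map_mul]; group
    _ = _ := by rw [orb_eq hn ρ hv, Subgroup.coe_mul, Perm.mul_apply, Perm.mul_apply, e0, e1]

theorem stable_conj_out {v d : G} (hv : Commute d v) (g : alternatingGroup (Fin n)) :
    Commute (ρ g * d * (ρ g)⁻¹) (ρ g * v * (ρ g)⁻¹) := hv.map (MulAut.conj (ρ g)).toMonoidHom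

/-- The underlying permutation. -/
abbrev pm (g : alternatingGroup (Fin n)) : Perm (Fin n) := (g : Perm (Fin n))

theorem exists_other {i : Fin n} (j k : Fin n) (hn : 4 ≤ n) : ∃ e : Fin n, e ≠ i ∧ e ≠ j ∧ e ≠ k := by
  classical
  have h : (({i, j, k} : Finset (Fin n))ᶜ).Nonempty := by
    rw [← Finset.card_pos, Finset.card_compl, Fintype.card_fin]
    have := Finset.card_le_three (a := i) (b := j) (c := k)
    omega
  obtain ⟨e, he⟩ := h
  simp only [Finset.mem_compl, Finset.mem_insert, Finset.mem_singleton, not_or] at he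
  exact ⟨e, he⟩

/-- What holds for all tuples of distinct points. -/
structure Facts (u h : G) : Prop where
  stu : Stable hn ρ u
  sth : Stable hn ρ h
  tri : ∀ {i j k : Fin n}, i ≠ j → i ≠ k → j ≠ k → orb hn ρ h i j = orb hn ρ h i k * orb hn ρ h k j
  cadj : ∀ {i j k : Fin n}, i ≠ j → i ≠ k → j ≠ k → Commute (orb hn ρ h i j) (orb hn ρ h j k)
  fixd : ∀ {i j a b : Fin n}, i ≠ j → i ≠ a → i ≠ b → j ≠ a → j ≠ b → a ≠ b →
    Commute (orb hn ρ h i a * orb hn ρ h j b) (orb hn ρ u i j)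
  fixOut : ∀ {i j a b : Fin n}, i ≠ j → i ≠ a → i ≠ b → j ≠ a → j ≠ b → a ≠ b →
    Commute (orb hn ρ h a b) (orb hn ρ u i j)
  rowAll : ∀ {i j k : Fin n}, i ≠ j → i ≠ k → j ≠ k → Commute (orb hn ρ u i j) (orb hn ρ u i k)
  colAll : ∀ {i j k : Fin n}, i ≠ j → i ≠ k → j ≠ k → Commute (orb hn ρ u i k) (orb hn ρ u j k)
  chainAll : ∀ {i j k : Fin n}, i ≠ j → i ≠ k → j ≠ k →
    orb hn ρ u i j * orb hn ρ u j k = orb hn ρ u i k * orb hn ρ u j k * orb hn ρ u i j
  disjAll : ∀ {i j k l : Fin n}, i ≠ j → i ≠ k → i ≠ l → j ≠ k → j ≠ l → k ≠ l →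
    Commute (orb hn ρ u i j) (orb hn ρ u k l)

/-- The Weyl word of the ordered pair `(i, j)`. -/
noncomputable def wt (u : G) (i j : Fin n) : G := orb hn ρ u i j * (orb hn ρ u j i)⁻¹ * orb hn ρ u i j

/-- The two torus lemmas that need only the triangle relations. -/
structure TorusFacts (h : G) : Prop where
  tri : ∀ {i j k : Fin n}, i ≠ j → i ≠ k → j ≠ k → orb hn ρ h i j = orb hn ρ h i k * orb hn ρ h k j
  cadj : ∀ {i j k : Fin n}, i ≠ j → i ≠ k → j ≠ k → Commute (orb hn ρ h i j) (orb hn ρ h j k)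

namespace TorusFacts

variable {hn ρ} {h : G} (B : TorusFacts hn ρ h)

local notation "H" => orb hn ρ h

include B

theorem anti {i j : Fin n} (hij : i ≠ j) : H j i = (H i j)⁻¹ := by
  obtain ⟨k, hk1, hk2, -⟩ := exists_other (i := i) j j hn
  have e1 := B.tri hk2 hk1 hij.symm
  have e2 := B.tri hk1 hk2 hij
  rw [e1, mul_assoc] at e2
  exact eq_inv_of_mul_eq_one_right (left_eq_mul.1 e2)

theorem hcomm {i j k l : Fin n} (hij : i ≠ j) (hkl : k ≠ l) : Commute (H i j) (H k l) := by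
  by_cases hjk : j = k
  · subst hjk
    by_cases hil : i = l
    · subst hil; rw [B.anti hij]; exact (Commute.refl _).inv_right
    · exact B.cadj hij hil hkl
  by_cases hil : i = l
  · subst hil; exact (B.cadj hkl (Ne.symm hjk) hij).symm
  by_cases hik : i = k
  · subst hik
    by_cases hjl : j = l
    · subst hjl; exact Commute.refl _
    · rw [B.anti hij.symm]; exact (B.cadj hij.symm hjl hkl).inv_left
  by_cases hjl : j = l
  · subst hjl; rw [B.anti hkl.symm]; exact (B.cadj hij hik hkl.symm).inv_right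
  -- four distinct points
  rw [B.tri hkl (Ne.symm hik) (Ne.symm hil)]
  refine Commute.mul_right (B.cadj (Ne.symm hik) (Ne.symm hjk) hij).symm ?_
  rw [B.anti (Ne.symm hij)]
  exact (B.cadj hij.symm hjl hil).inv_left

end TorusFacts

namespace Facts

variable {hn ρ} {u h : G} (B : Facts hn ρ u h)

local notation "U" => orb hn ρ u
local notation "H" => orb hn ρ h

include B

theorem torus : TorusFacts hn ρ h := ⟨B.tri, B.cadj⟩

theorem anti {i j : Fin n} (hij : i ≠ j) : H j i = (H i j)⁻¹ := B.torus.anti hij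

theorem hcomm {i j k l : Fin n} (hij : i ≠ j) (hkl : k ≠ l) : Commute (H i j) (H k l) := B.torus.hcomm hij hkl

theorem mapU (g : alternatingGroup (Fin n)) {i j : Fin n} (hij : i ≠ j) :
    ρ g * U i j * (ρ g)⁻¹ = U ((g : Perm (Fin n)) i) ((g : Perm (Fin n)) j) := orb_map hn ρ B.stu g hij

theorem mapH (g : alternatingGroup (Fin n)) {i j : Fin n} (hij : i ≠ j) :
    ρ g * H i j * (ρ g)⁻¹ = H ((g : Perm (Fin n)) i) ((g : Perm (Fin n)) j) := orb_map hn ρ B.sth g hij

theorem fix_u {a b : Fin n} (ha0 : p₀ ≠ a) (hb0 : p₀ ≠ b) (ha1 : p₁ ≠ a) (hb1 : p₁ ≠ b) (hab : a ≠ b) :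
    Commute (H a b) u := by
  have := B.fixOut (pt_ne hn (show (0 : Fin 4) ≠ 1 by decide)) ha0 hb0 ha1 hb1 hab
  rwa [orb_base hn ρ B.stu] at this

/-- `H 0 2` and `H 0 3 * H 2 3` act alike on `u`. -/
theorem aux_eq : H p₀ p₃ * H p₂ p₃ = H p₀ p₂ * (H p₂ p₃ * H p₂ p₃) := by
  rw [B.tri (i := p₀) (j := p₃) (k := p₂) (pt_ne hn (by decide)) (pt_ne hn (by decide)) (pt_ne hn (by decide)),
    mul_assoc]

end Facts

end Cfsg.Agent.Lib.ShortPresSLn
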