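import Mathlib
import Cfsg.Agent.Lib.ShortPresSLn.Orbit

/-!
# The transported facts for `n ≥ 6`

The column relation comes from the single long relation for `(0 1)(3 4)`.
-/

set_option autoImplicit false

namespace Cfsg.Agent.Lib.ShortPresSLn

open Equiv

variable {G : Type*} [Group G] {n : ℕ} (hn : 6 ≤ n) (ρ : alternatingGroup (Fin n) →* G)

theorem four_le {n : ℕ} (hn : 6 ≤ n) : 4 ≤ n := by omega

/-- The points used by the base relations. -/
def qt (k : Fin 6) : Fin n := ⟨k.val, Nat.lt_of_lt_of_le k.isLt hn⟩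

local notation "p₀" => qt hn 0
local notation "p₁" => qt hn 1
local notation "p₂" => qt hn 2
local notation "p₃" => qt hn 3
local notation "p₄" => qt hn 4
local notation "p₅" => qt hn 5

theorem qt_ne {a b : Fin 6} (h : a ≠ b) : qt hn a ≠ (qt hn b : Fin n) := fun e =>
  h (Fin.ext (congrArg (fun z : Fin n => z.val) e))

theorem pt_qt (k : Fin 4) : pt (four_le hn) k = (qt hn (Fin.castLE (by omega) k) : Fin n) := rfl

theorem exists_move3 (hn : 6 ≤ n) {a b c i j k : Fin n} (hab : a ≠ b) (hac : a ≠ c) (hbc : b ≠ c) (hij : i ≠ j)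
    (hik : i ≠ k) (hjk : j ≠ k) :
    ∃ g : alternatingGroup (Fin n), pm g a = i ∧ pm g b = j ∧ pm g c = k := by
  obtain ⟨g, hg⟩ := exists_even_map ![a, b, c] ![i, j, k]
    (by intro x y e; fin_cases x <;> fin_cases y <;> simp_all)
    (by intro x y e; fin_cases x <;> fin_cases y <;> simp_all) (by omega)
  exact ⟨g, hg 0, hg 1, hg 2⟩

theorem exists_move4 (hn : 6 ≤ n) {a b c d i j k l : Fin n} (hab : a ≠ b) (hac : a ≠ c) (had : a ≠ d) (hbc : b ≠ c)
    (hbd : b ≠ d) (hcd : c ≠ d) (hij : i ≠ j) (hik : i ≠ k) (hil : i ≠ l) (hjk : j ≠ k) (hjl : j ≠ l)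
    (hkl : k ≠ l) :
    ∃ g : alternatingGroup (Fin n), pm g a = i ∧ pm g b = j ∧ pm g c = k ∧ pm g d = l := by
  obtain ⟨g, hg⟩ := exists_even_map ![a, b, c, d] ![i, j, k, l]
    (by intro x y e; fin_cases x <;> fin_cases y <;> simp_all)
    (by intro x y e; fin_cases x <;> fin_cases y <;> simp_all) (by omega)
  exact ⟨g, hg 0, hg 1, hg 2, hg 3⟩

theorem exists_fifth (hn : 6 ≤ n) (a b c d : Fin n) : ∃ e : Fin n, e ≠ a ∧ e ≠ b ∧ e ≠ c ∧ e ≠ d := by
  classical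
  have h : (({a, b, c, d} : Finset (Fin n))ᶜ).Nonempty := by
    rw [← Finset.card_pos, Finset.card_compl, Fintype.card_fin]
    have := Finset.card_le_four (a := a) (b := b) (c := c) (d := d)
    omega
  obtain ⟨e, he⟩ := h
  simp only [Finset.mem_compl, Finset.mem_insert, Finset.mem_singleton, not_or] at he
  exact ⟨e, he⟩

theorem mv_spec6 {i j : Fin n} (h : i ≠ j) :
    (mv (four_le hn) i j : Perm (Fin n)) p₀ = i ∧ (mv (four_le hn) i j : Perm (Fin n)) p₁ = j :=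
  mv_spec (four_le hn) h

theorem exists_move6 {i j : Fin n} (h : i ≠ j) :
    ∃ g : alternatingGroup (Fin n), (g : Perm (Fin n)) p₀ = i ∧ (g : Perm (Fin n)) p₁ = j :=
  exists_move2 (four_le hn) h

theorem orb_eq6 {v : G} (hv : Stable (four_le hn) ρ v) (g : alternatingGroup (Fin n)) :
    ρ g * v * (ρ g)⁻¹ = orb (four_le hn) ρ v (pm g p₀) (pm g p₁) := orb_eq (four_le hn) ρ hv g

/-- The base relations without the field. -/
structure Base (u h : G) : Prop where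
  stu : Stable (four_le hn) ρ u
  sth : Stable (four_le hn) ρ h
  tplus : h = orb (four_le hn) ρ h p₀ p₂ * orb (four_le hn) ρ h p₂ p₁
  tc : Commute h (orb (four_le hn) ρ h p₁ p₂)
  rd : Commute (orb (four_le hn) ρ h p₀ p₂ * orb (four_le hn) ρ h p₁ p₃) u
  row : Commute u (orb (four_le hn) ρ u p₀ p₂)
  chain : u * orb (four_le hn) ρ u p₁ p₂ = orb (four_le hn) ρ u p₀ p₂ * orb (four_le hn) ρ u p₁ p₂ * u
  disj : Commute u (orb (four_le hn) ρ u p₂ p₃)

namespace Base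

variable {hn ρ} {u h : G} (B : Base hn ρ u h)

local notation "U" => orb (four_le hn) ρ u
local notation "H" => orb (four_le hn) ρ h

include B

theorem mapU (g : alternatingGroup (Fin n)) {i j : Fin n} (hij : i ≠ j) :
    ρ g * U i j * (ρ g)⁻¹ = U (pm g i) (pm g j) := orb_map (four_le hn) ρ B.stu g hij

theorem mapH (g : alternatingGroup (Fin n)) {i j : Fin n} (hij : i ≠ j) :
    ρ g * H i j * (ρ g)⁻¹ = H (pm g i) (pm g j) := orb_map (four_le hn) ρ B.sth g hij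

theorem tri {i j k : Fin n} (hij : i ≠ j) (hik : i ≠ k) (hjk : j ≠ k) : H i j = H i k * H k j := by
  obtain ⟨g, e0, e1, e2⟩ := exists_move3 hn (qt_ne hn (show (0 : Fin 6) ≠ 1 by decide))
    (qt_ne hn (show (0 : Fin 6) ≠ 2 by decide)) (qt_ne hn (show (1 : Fin 6) ≠ 2 by decide)) hij hik hjk
  have := congrArg (fun z => ρ g * z * (ρ g)⁻¹) B.tplus
  simp only [← conj_mul] at this
  rwa [orb_eq6 hn ρ B.sth, B.mapH _ (qt_ne hn (by decide)), B.mapH _ (qt_ne hn (by decide)), e0, e1, e2] at this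

theorem cadj {i j k : Fin n} (hij : i ≠ j) (hik : i ≠ k) (hjk : j ≠ k) : Commute (H i j) (H j k) := by
  obtain ⟨g, e0, e1, e2⟩ := exists_move3 hn (qt_ne hn (show (0 : Fin 6) ≠ 1 by decide))
    (qt_ne hn (show (0 : Fin 6) ≠ 2 by decide)) (qt_ne hn (show (1 : Fin 6) ≠ 2 by decide)) hij hik hjk
  have := stable_conj_out ρ B.tc g
  rwa [orb_eq6 hn ρ B.sth, B.mapH _ (qt_ne hn (by decide)), e0, e1, e2] at this

theorem torus : TorusFacts (four_le hn) ρ h := ⟨B.tri, B.cadj⟩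

theorem anti {i j : Fin n} (hij : i ≠ j) : H j i = (H i j)⁻¹ := B.torus.anti hij

theorem hcomm {i j k l : Fin n} (hij : i ≠ j) (hkl : k ≠ l) : Commute (H i j) (H k l) := B.torus.hcomm hij hkl

theorem fixd {i j a b : Fin n} (hij : i ≠ j) (hia : i ≠ a) (hib : i ≠ b) (hja : j ≠ a) (hjb : j ≠ b)
    (hab : a ≠ b) : Commute (H i a * H j b) (U i j) := by
  obtain ⟨g, e0, e1, e2, e3⟩ := exists_move4 hn (qt_ne hn (show (0 : Fin 6) ≠ 1 by decide))
    (qt_ne hn (show (0 : Fin 6) ≠ 2 by decide)) (qt_ne hn (show (0 : Fin 6) ≠ 3 by decide))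
    (qt_ne hn (show (1 : Fin 6) ≠ 2 by decide)) (qt_ne hn (show (1 : Fin 6) ≠ 3 by decide))
    (qt_ne hn (show (2 : Fin 6) ≠ 3 by decide)) hij hia hib hja hjb hab
  have := stable_conj_out ρ B.rd g
  rwa [← conj_mul, B.mapH _ (qt_ne hn (by decide)), B.mapH _ (qt_ne hn (by decide)), orb_eq6 hn ρ B.stu,
    e0, e1, e2, e3] at this

theorem fixOut {i j a b : Fin n} (hij : i ≠ j) (hia : i ≠ a) (hib : i ≠ b) (hja : j ≠ a) (hjb : j ≠ b)
    (hab : a ≠ b) : Commute (H a b) (U i j) := by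
  obtain ⟨c, hci, hcj, hca, hcb⟩ := exists_fifth hn i j a b
  have h1 := (B.fixd hij hib hci.symm hjb hcj.symm hcb.symm).mul_left
    (B.fixd hij hia hci.symm hja hcj.symm hca.symm).inv_left
  have e : H i b * H j c * (H i a * H j c)⁻¹ = H a b := by
    rw [mul_inv_rev, mul_assoc, mul_inv_cancel_left, ← B.anti hia, (B.hcomm hib hia.symm).eq,
      ← B.tri hab hia.symm hib.symm]
  rwa [e] at h1

theorem rowAll {i j k : Fin n} (hij : i ≠ j) (hik : i ≠ k) (hjk : j ≠ k) : Commute (U i j) (U i k) := by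
  obtain ⟨g, e0, e1, e2⟩ := exists_move3 hn (qt_ne hn (show (0 : Fin 6) ≠ 1 by decide))
    (qt_ne hn (show (0 : Fin 6) ≠ 2 by decide)) (qt_ne hn (show (1 : Fin 6) ≠ 2 by decide)) hij hik hjk
  have := stable_conj_out ρ B.row g
  rwa [orb_eq6 hn ρ B.stu, B.mapU _ (qt_ne hn (by decide)), e0, e1, e2] at this

theorem chainAll {i j k : Fin n} (hij : i ≠ j) (hik : i ≠ k) (hjk : j ≠ k) :
    U i j * U j k = U i k * U j k * U i j := by
  obtain ⟨g, e0, e1, e2⟩ := exists_move3 hn (qt_ne hn (show (0 : Fin 6) ≠ 1 by decide))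
    (qt_ne hn (show (0 : Fin 6) ≠ 2 by decide)) (qt_ne hn (show (1 : Fin 6) ≠ 2 by decide)) hij hik hjk
  have := congrArg (fun z => ρ g * z * (ρ g)⁻¹) B.chain
  simp only [← conj_mul] at this
  rwa [orb_eq6 hn ρ B.stu, B.mapU _ (qt_ne hn (by decide)), B.mapU _ (qt_ne hn (by decide)), e0, e1, e2] at this

theorem disjAll {i j k l : Fin n} (hij : i ≠ j) (hik : i ≠ k) (hil : i ≠ l) (hjk : j ≠ k) (hjl : j ≠ l)
    (hkl : k ≠ l) : Commute (U i j) (U k l) := by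
  obtain ⟨g, e0, e1, e2, e3⟩ := exists_move4 hn (qt_ne hn (show (0 : Fin 6) ≠ 1 by decide))
    (qt_ne hn (show (0 : Fin 6) ≠ 2 by decide)) (qt_ne hn (show (0 : Fin 6) ≠ 3 by decide))
    (qt_ne hn (show (1 : Fin 6) ≠ 2 by decide)) (qt_ne hn (show (1 : Fin 6) ≠ 3 by decide))
    (qt_ne hn (show (2 : Fin 6) ≠ 3 by decide)) hij hik hil hjk hjl hkl
  have := stable_conj_out ρ B.disj g
  rwa [orb_eq6 hn ρ B.stu, B.mapU _ (qt_ne hn (by decide)), e0, e1, e2, e3] at this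

end Base

/-- The even permutation `(0 1)(3 4)`. -/
def w0 : alternatingGroup (Fin n) :=
  ⟨swap p₀ p₁ * swap p₃ p₄, Perm.mem_alternatingGroup.2 (by
    rw [map_mul, Perm.sign_swap (qt_ne hn (by decide)), Perm.sign_swap (qt_ne hn (by decide))]; decide)⟩

/-- The element `t₁₀ t₄₃ t₁₄²` representing `(0 1)(3 4)`. -/
noncomputable def rW (u : G) : G := wt (four_le hn) ρ u p₁ p₀ * wt (four_le hn) ρ u p₄ p₃ * (wt (four_le hn) ρ u p₁ p₄ * wt (four_le hn) ρ u p₁ p₄)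

namespace Base

variable {hn ρ} {u h : G} (B : Base hn ρ u h)

local notation "U" => orb (four_le hn) ρ u
local notation "H" => orb (four_le hn) ρ h
local notation "W" => wt (four_le hn) ρ u

include B

theorem mapW (g : alternatingGroup (Fin n)) {i j : Fin n} (hij : i ≠ j) :
    ρ g * W i j * (ρ g)⁻¹ = W (pm g i) (pm g j) := by
  rw [wt, wt, ← B.mapU g hij, ← B.mapU g hij.symm]; group

theorem wt_comm {i j k l : Fin n} (hij : i ≠ j) (hik : i ≠ k) (hil : i ≠ l) (hjk : j ≠ k) (hjl : j ≠ l)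
    (hkl : k ≠ l) : Commute (W i j) (U k l) :=
  ((B.disjAll hij hik hil hjk hjl hkl).mul_left (B.disjAll hij.symm hjk hjl hik hil hkl).inv_left).mul_left
    (B.disjAll hij hik hil hjk hjl hkl)

/-- The action of a Weyl word, from the one long relation. -/
theorem wt_conj {ζ : G} (hζ : ∀ g, Commute ζ (ρ g)) (hR : ρ (w0 hn) * ζ = rW hn ρ u) {i j k : Fin n} (hij : i ≠ j)
    (hik : i ≠ k) (hjk : j ≠ k) : W i j * U j k * (W i j)⁻¹ = U i k := by
  set g0 : alternatingGroup (Fin n) := ⟨swap p₀ p₅ * swap p₃ p₄, Perm.mem_alternatingGroup.2 (by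
    rw [map_mul, Perm.sign_swap (qt_ne hn (by decide)), Perm.sign_swap (qt_ne hn (by decide))]; decide)⟩ with hg0
  have ev : ∀ a b c d x : Fin 6, (swap (qt hn a) (qt hn b) * swap (qt hn c) (qt hn d) : Perm (Fin n)) (qt hn x) =
      qt hn ((swap a b * swap c d : Perm (Fin 6)) x) := by
    intro a b c d x
    have hinj : Function.Injective (qt hn : Fin 6 → Fin n) := fun a b e =>
      Fin.ext (congrArg (fun z : Fin n => z.val) e)
    rw [Perm.mul_apply, Perm.mul_apply, ← hinj.swap_apply, ← hinj.swap_apply]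
  have evg : ∀ x : Fin 6, pm g0 (qt hn x) = qt hn ((swap 0 5 * swap 3 4 : Perm (Fin 6)) x) := fun x =>
    ev 0 5 3 4 x
  have evw : ∀ x : Fin 6, pm (w0 hn) (qt hn x) = qt hn ((swap 0 1 * swap 3 4 : Perm (Fin 6)) x) := fun x =>
    ev 0 1 3 4 x
  have hsq : w0 hn * w0 hn = (1 : alternatingGroup (Fin n)) := by
    refine Subtype.ext ?_
    rw [Subgroup.coe_mul, Subgroup.coe_one]
    show (swap p₀ p₁ * swap p₃ p₄) * (swap p₀ p₁ * swap p₃ p₄) = (1 : Perm (Fin n))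
    have hd : swap p₀ p₁ * swap p₃ p₄ = (swap p₃ p₄ * swap p₀ p₁ : Perm (Fin n)) := by
      rw [mul_swap_eq_swap_mul (swap p₀ p₁) p₃ p₄,
        swap_apply_of_ne_of_ne (qt_ne hn (by decide)) (qt_ne hn (by decide)),
        swap_apply_of_ne_of_ne (qt_ne hn (by decide)) (qt_ne hn (by decide))]
    rw [mul_assoc, ← mul_assoc (swap p₃ p₄), ← hd, mul_assoc (swap p₀ p₁) (swap p₃ p₄), swap_mul_self, mul_one,
      swap_mul_self]
  have e1 : ρ (w0 hn) = ζ * (rW hn ρ u)⁻¹ := by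
    rw [← hR, mul_inv_rev, ← mul_assoc, mul_inv_cancel, one_mul]
    exact eq_inv_of_mul_eq_one_left (by rw [← map_mul, hsq, map_one])
  have hζg : ρ g0 * (ρ (w0 hn) * ζ) * (ρ g0)⁻¹ = W p₁ p₅ * W p₃ p₄ * (W p₁ p₃ * W p₁ p₃) := by
    rw [hR, rW, ← conj_mul, ← conj_mul, ← conj_mul, B.mapW _ (qt_ne hn (by decide)),
      B.mapW _ (qt_ne hn (by decide)), B.mapW _ (qt_ne hn (by decide)), evg, evg, evg, evg]
    congr
  have e2 : ρ (w0 hn) = rW hn ρ u * ζ⁻¹ := eq_mul_inv_of_mul_eq hR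
  have key : ρ (g0 * w0 hn * g0⁻¹ * w0 hn) = ρ g0 * (ρ (w0 hn) * ζ) * (ρ g0)⁻¹ * (rW hn ρ u)⁻¹ := by
    rw [map_mul, map_mul, map_mul, map_inv, hR]
    conv_lhs => arg 2; rw [e1]
    rw [e2]
    calc ρ g0 * (rW hn ρ u * ζ⁻¹) * (ρ g0)⁻¹ * (ζ * (rW hn ρ u)⁻¹)
        = ρ g0 * rW hn ρ u * ζ⁻¹ * ((ρ g0)⁻¹ * ζ) * (rW hn ρ u)⁻¹ := by group
      _ = _ := by rw [← ((hζ g0).inv_right).eq]; group
  rw [hζg] at key
  have hX : Commute (rW hn ρ u) (U p₅ p₂) := by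
    have c1 := B.wt_comm (i := p₁) (j := p₀) (k := p₅) (l := p₂) (qt_ne hn (by decide)) (qt_ne hn (by decide))
      (qt_ne hn (by decide)) (qt_ne hn (by decide)) (qt_ne hn (by decide)) (qt_ne hn (by decide))
    have c2 := B.wt_comm (i := p₄) (j := p₃) (k := p₅) (l := p₂) (qt_ne hn (by decide)) (qt_ne hn (by decide))
      (qt_ne hn (by decide)) (qt_ne hn (by decide)) (qt_ne hn (by decide)) (qt_ne hn (by decide))
    have c3 := B.wt_comm (i := p₁) (j := p₄) (k := p₅) (l := p₂) (qt_ne hn (by decide)) (qt_ne hn (by decide))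
      (qt_ne hn (by decide)) (qt_ne hn (by decide)) (qt_ne hn (by decide)) (qt_ne hn (by decide))
    exact (c1.mul_left c2).mul_left (c3.mul_left c3)
  have hY : Commute (W p₃ p₄ * (W p₁ p₃ * W p₁ p₃)) (U p₅ p₂) := by
    have c2 := B.wt_comm (i := p₃) (j := p₄) (k := p₅) (l := p₂) (qt_ne hn (by decide)) (qt_ne hn (by decide))
      (qt_ne hn (by decide)) (qt_ne hn (by decide)) (qt_ne hn (by decide)) (qt_ne hn (by decide))
    have c3 := B.wt_comm (i := p₁) (j := p₃) (k := p₅) (l := p₂) (qt_ne hn (by decide)) (qt_ne hn (by decide))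
      (qt_ne hn (by decide)) (qt_ne hn (by decide)) (qt_ne hn (by decide)) (qt_ne hn (by decide))
    exact c2.mul_left (c3.mul_left c3)
  have h15 : W p₁ p₅ * U p₅ p₂ * (W p₁ p₅)⁻¹ = U p₁ p₂ := by
    have e := B.mapU (g0 * w0 hn * g0⁻¹ * w0 hn) (qt_ne hn (show (5 : Fin 6) ≠ 2 by decide))
    have evs : ∀ x : Fin 6, pm (g0 * w0 hn * g0⁻¹ * w0 hn) (qt hn x) = qt hn
        (((swap 0 5 * swap 3 4) * (swap 0 1 * swap 3 4) * (swap 0 5 * swap 3 4) *
          (swap 0 1 * swap 3 4) : Perm (Fin 6)) x) := by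
      intro x
      have hg : g0⁻¹ = g0 := by
        refine inv_eq_of_mul_eq_one_right (Subtype.ext (Perm.ext fun z => ?_))
        rw [Subgroup.coe_mul, Subgroup.coe_one, hg0]
        simp only [Perm.mul_apply, Perm.one_apply]
        rw [swap_apply_def (qt hn 0), swap_apply_def (qt hn 3)]
        simp only [swap_apply_def]
        split_ifs <;> simp_all [qt, Fin.ext_iff]
      rw [hg]
      simp only [pm, Subgroup.coe_mul, Perm.mul_apply]
      rw [evw, evg, evw, evg]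
      simp only [Perm.mul_apply]
    rw [key, evs, evs] at e
    calc W p₁ p₅ * U p₅ p₂ * (W p₁ p₅)⁻¹
        = W p₁ p₅ * (W p₃ p₄ * (W p₁ p₃ * W p₁ p₃)) * U p₅ p₂ *
            (W p₃ p₄ * (W p₁ p₃ * W p₁ p₃))⁻¹ * (W p₁ p₅)⁻¹ := by
          rw [mul_assoc _ (W p₃ p₄ * _) (U p₅ p₂), hY.eq]; group
      _ = W p₁ p₅ * W p₃ p₄ * (W p₁ p₃ * W p₁ p₃) * ((rW hn ρ u)⁻¹ * U p₅ p₂) * rW hn ρ u *
            (W p₁ p₅ * W p₃ p₄ * (W p₁ p₃ * W p₁ p₃))⁻¹ := by rw [hX.inv_left.eq]; group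
      _ = W p₁ p₅ * W p₃ p₄ * (W p₁ p₃ * W p₁ p₃) * (rW hn ρ u)⁻¹ * U p₅ p₂ *
            (W p₁ p₅ * W p₃ p₄ * (W p₁ p₃ * W p₁ p₃) * (rW hn ρ u)⁻¹)⁻¹ := by group
      _ = _ := by rw [e]; congr
  obtain ⟨g, f1, f5, f2⟩ := exists_move3 hn (qt_ne hn (show (1 : Fin 6) ≠ 5 by decide))
    (qt_ne hn (show (1 : Fin 6) ≠ 2 by decide)) (qt_ne hn (show (5 : Fin 6) ≠ 2 by decide)) hij hik hjk
  have := congrArg (fun z => ρ g * z * (ρ g)⁻¹) h15
  simp only [B.mapU g (qt_ne hn (show (1 : Fin 6) ≠ 2 by decide))] at this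
  rw [f1, f2, show ρ g * (W p₁ p₅ * U p₅ p₂ * (W p₁ p₅)⁻¹) * (ρ g)⁻¹ =
    (ρ g * W p₁ p₅ * (ρ g)⁻¹) * (ρ g * U p₅ p₂ * (ρ g)⁻¹) * (ρ g * W p₁ p₅ * (ρ g)⁻¹)⁻¹ by group,
    B.mapW _ (qt_ne hn (by decide)), B.mapU _ (qt_ne hn (by decide)), f1, f5, f2] at this
  exact this

theorem colAll {ζ : G} (hζ : ∀ g, Commute ζ (ρ g)) (hR : ρ (w0 hn) * ζ = rW hn ρ u) {i j k : Fin n}
    (hij : i ≠ j) (hik : i ≠ k) (hjk : j ≠ k) : Commute (U i k) (U j k) := by
  have htv := B.wt_conj hζ hR hij hik hjk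
  have r := B.rowAll hij.symm hjk hik
  have c1 := B.chainAll hij hik hjk
  have c2 := B.chainAll hij.symm hjk hik
  exact col_aux (B.rowAll hij hik hjk) r htv c1 c2
where
  col_aux {u v x z : G} (huz : Commute u z) (hxv : Commute x v)
      (htv : u * x⁻¹ * u * v * (u * x⁻¹ * u)⁻¹ = z) (c1 : u * v = z * v * u) (c2 : x * z = v * z * x) :
      Commute z v := by
    refine ShortPresSL3.col_of_row (t := u * x⁻¹ * u) rfl huz hxv.inv_left htv ?_ (by rw [c1]; group)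
    calc x⁻¹ * z * x⁻¹⁻¹ * z⁻¹ = x⁻¹ * (z * x) * z⁻¹ := by group
      _ = x⁻¹ * (v⁻¹ * (v * z * x)) * z⁻¹ := by group
      _ = x⁻¹ * v⁻¹ * x := by rw [← c2]; group
      _ = v⁻¹ := by rw [(hxv.inv_left.inv_right).eq]; group

theorem facts {ζ : G} (hζ : ∀ g, Commute ζ (ρ g)) (hR : ρ (w0 hn) * ζ = rW hn ρ u) :
    Facts (four_le hn) ρ u h where
  stu := B.stu
  sth := B.sth
  tri := B.tri
  cadj := B.cadj
  fixd := B.fixd
  fixOut := B.fixOut
  rowAll := B.rowAll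
  colAll := B.colAll hζ hR
  chainAll := B.chainAll
  disjAll := B.disjAll

end Base

end Cfsg.Agent.Lib.ShortPresSLn
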