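import Mathlib
import Cfsg.Agent.Lib.ShortPresSLn.Orbit

/-!
# The field-indexed root family of `SL_n`, `n ≥ 4`
-/

set_option autoImplicit false

namespace Cfsg.Agent.Lib.ShortPresSLn

open Equiv Polynomial
open ShortPresSL2 (polyWord)
open ShortPresSL3 (Scal pair_induction add_closed_induction)

variable {G : Type*} [Group G] {n : ℕ} {hn : 4 ≤ n} {ρ : alternatingGroup (Fin n) →* G}

local notation "p₀" => pt hn 0
local notation "p₁" => pt hn 1
local notation "p₂" => pt hn 2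
local notation "p₃" => pt hn 3

namespace Facts

variable {u h : G} (B : Facts hn ρ u h)

local notation "U" => orb hn ρ u
local notation "H" => orb hn ρ h

include B

theorem aux_comm : Commute (H p₂ p₃ * H p₂ p₃) (H p₀ p₂) :=
  (B.hcomm (pt_ne hn (by decide)) (pt_ne hn (by decide))).mul_left
    (B.hcomm (pt_ne hn (by decide)) (pt_ne hn (by decide)))

theorem aux_fix : Commute (H p₂ p₃ * H p₂ p₃) u := by
  have := B.fix_u (a := p₂) (b := p₃) (pt_ne hn (by decide)) (pt_ne hn (by decide)) (pt_ne hn (by decide))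
    (pt_ne hn (by decide)) (pt_ne hn (by decide))
  exact this.mul_left this

theorem conj_aux (m : ℕ) : (H p₀ p₃ * H p₂ p₃) ^ m * u * ((H p₀ p₃ * H p₂ p₃) ^ m)⁻¹ =
    H p₀ p₂ ^ m * u * (H p₀ p₂ ^ m)⁻¹ := by
  rw [B.aux_eq, B.aux_comm.symm.mul_pow]
  calc H p₀ p₂ ^ m * (H p₂ p₃ * H p₂ p₃) ^ m * u * (H p₀ p₂ ^ m * (H p₂ p₃ * H p₂ p₃) ^ m)⁻¹
      = H p₀ p₂ ^ m * ((H p₂ p₃ * H p₂ p₃) ^ m * u) * ((H p₂ p₃ * H p₂ p₃) ^ m)⁻¹ * (H p₀ p₂ ^ m)⁻¹ := by
        group
    _ = _ := by rw [(B.aux_fix.pow_left m).eq]; group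

/-- The conjugates of `u` under the torus commute. -/
theorem comm_orbit (m : ℕ) :
    Commute u (H p₀ p₂ ^ m * u * (H p₀ p₂ ^ m)⁻¹) := by
  rw [← B.conj_aux]
  have n01 : p₀ ≠ p₁ := pt_ne hn (by decide)
  have n02 : p₀ ≠ p₂ := pt_ne hn (by decide)
  have n03 : p₀ ≠ p₃ := pt_ne hn (by decide)
  have n12 : p₁ ≠ p₂ := pt_ne hn (by decide)
  have n13 : p₁ ≠ p₃ := pt_ne hn (by decide)
  have n23 : p₂ ≠ p₃ := pt_ne hn (by decide)
  refine ShortPresSL3.comm_orbit (z := U p₀ p₂) (w := U p₂ p₁) (e := H p₃ p₂) ?_ ?_ ?_ ?_ ?_ ?_ ?_ m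
  · have := B.rowAll (i := p₀) (j := p₁) (k := p₂) n01 n02 n12
    rwa [orb_base hn ρ B.stu] at this
  · have := B.colAll (i := p₀) (j := p₂) (k := p₁) n02 n01 n12.symm
    rwa [orb_base hn ρ B.stu] at this
  · rw [B.chainAll n02 n01 n12.symm, orb_base hn ρ B.stu]; group
  · exact (B.hcomm n23.symm n03).mul_right (B.hcomm n23.symm n23)
  · exact B.fix_u n03 n02 n13 n12 n23.symm
  · have e : H p₀ p₃ * H p₂ p₃ = H p₀ p₁ * H p₂ p₃ * H p₁ p₃ := by
      rw [B.tri n03 n01 n13.symm, mul_assoc, (B.hcomm n13 n23).eq, ← mul_assoc]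
    rw [e]
    exact (B.fixd n02 n01 n03 n12.symm n23 n13).mul_left (B.fixOut n02 n01 n03 n12.symm n23 n13)
  · rw [mul_assoc, B.anti n23, mul_inv_cancel, mul_one]
    exact B.fixOut n12.symm n02.symm n23 n01.symm n13 n03

end Facts

section field

variable {F : Type*} [Field F] [Finite F] {p : ℕ} [Fact p.Prime] [Algebra (ZMod p) F]

/-- The full set of hypotheses. -/
structure FieldBase (hn : 4 ≤ n) (ρ : alternatingGroup (Fin n) →* G) (u h : G) (ω : F) : Prop where
  base : Facts hn ρ u h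
  ne : ω ≠ 0
  gen : ∀ b : F, b ≠ 0 → ∃ m : ℕ, ω ^ m = b

theorem surj_of_gen {ω : F} (gen : ∀ b : F, b ≠ 0 → ∃ m : ℕ, ω ^ m = b) :
    Function.Surjective (aeval ω : (ZMod p)[X] → F) := by
  intro x
  rcases eq_or_ne x 0 with rfl | hx
  · exact ⟨0, map_zero _⟩
  · obtain ⟨m, rfl⟩ := gen x hx
    exact ⟨X ^ m, by rw [map_pow, aeval_X]⟩

variable {u h : G} {ω : F}

/-- The root homomorphism. -/
theorem FieldBase.exists_f (D : FieldBase hn ρ u h ω) (hup : u ^ p = 1)
    (hmin : polyWord u (orb hn ρ h p₀ p₂) (minpoly (ZMod p) ω) = 1) :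
    ∃ f : Multiplicative F →* G, f (.ofAdd 1) = u ∧
      (∀ P : (ZMod p)[X], polyWord u (orb hn ρ h p₀ p₂) P = f (.ofAdd (aeval ω P))) ∧
      ∀ x, orb hn ρ h p₀ p₂ * f (.ofAdd x) * (orb hn ρ h p₀ p₂)⁻¹ = f (.ofAdd (ω * x)) :=
  ShortPresSL2.exists_hom_field ω ω (surj_of_gen D.gen) hup D.base.comm_orbit hmin (Commute.refl _)
    (aeval_X _) (ShortPresSL2.polyWord_X _ _).symm

/-- The family on one root. -/
def rt (f : Multiplicative F →* G) (x : F) : G := f (.ofAdd x)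

theorem rt_add (f : Multiplicative F →* G) (x y : F) : rt f (x + y) = rt f x * rt f y := by
  simp [rt, ofAdd_add]

theorem rt_zero (f : Multiplicative F →* G) : rt f (0 : F) = 1 := by simp [rt]

/-- The root family. -/
noncomputable def fam (hn : 4 ≤ n) (ρ : alternatingGroup (Fin n) →* G) (f : Multiplicative F →* G)
    (i j : Fin n) (x : F) : G := orb hn ρ (rt f x) i j

theorem fam_add (f : Multiplicative F →* G) (i j : Fin n) (x y : F) :
    fam hn ρ f i j (x + y) = fam hn ρ f i j x * fam hn ρ f i j y := by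
  simp only [fam, orb, rt_add]; group

theorem fam_zero (f : Multiplicative F →* G) (i j : Fin n) : fam hn ρ f i j (0 : F) = 1 := by
  simp only [fam, orb, rt_zero]; group

/-- What the homomorphism gives. -/
structure HomData (hn : 4 ≤ n) (ρ : alternatingGroup (Fin n) →* G) (u h : G) (ω : F)
    (f : Multiplicative F →* G) : Prop where
  one : rt f 1 = u
  word : ∀ P : (ZMod p)[X], polyWord u (orb hn ρ h (pt hn 0) (pt hn 2)) P = rt f (aeval ω P)
  scal : Scal (orb hn ρ h (pt hn 0) (pt hn 2)) ω (rt f)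

namespace FieldBase

variable (D : FieldBase hn ρ u h ω)

include D

theorem gen_inv : ∀ b : F, b ≠ 0 → ∃ m : ℕ, (ω⁻¹) ^ m = b := fun b hb => by
  obtain ⟨m, hm⟩ := D.gen b⁻¹ (inv_ne_zero hb)
  exact ⟨m, by rw [inv_pow, hm, inv_inv]⟩

theorem span_pow (p : ℕ) [Fact p.Prime] [Algebra (ZMod p) F] (Q : F → Prop) (hadd : ∀ a a', Q a → Q a' → Q (a + a'))
    (hs : ∀ s ∈ Set.range (fun m : ℕ => ω ^ m), Q s) : ∀ x, Q x :=
  add_closed_induction (p := p) (surj_of_gen (p := p) D.gen) Q hadd fun m => hs _ ⟨m, rfl⟩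

theorem span_sq (p : ℕ) [Fact p.Prime] [Algebra (ZMod p) F] (Q : F → Prop) (hadd : ∀ a a', Q a → Q a' → Q (a + a'))
    (hs : ∀ s ∈ Set.range (fun m : ℕ => (ω ^ 2) ^ m), Q s) : ∀ x, Q x := by
  refine add_closed_induction (α := ω ^ 2) (p := p) (fun x => ?_) Q hadd fun m => hs _ ⟨m, rfl⟩
  set R := (aeval (ω ^ 2) : (ZMod p)[X] →ₐ[ZMod p] F).range
  have hsq : ∀ y : F, y * y ∈ R := fun y => by
    rcases eq_or_ne y 0 with rfl | hy
    · rw [mul_zero]; exact R.zero_mem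
    · obtain ⟨m, rfl⟩ := D.gen y hy
      exact ⟨X ^ m, by
        show aeval (ω ^ 2) (X ^ m) = _
        rw [map_pow, aeval_X, ← pow_mul, ← pow_add, two_mul]⟩
  suffices x ∈ R from this
  by_cases h2 : ringChar F = 2
  · obtain ⟨y, rfl⟩ := FiniteField.isSquare_of_char_two h2 x
    exact hsq y
  · have h2' : (2 : F) ≠ 0 := Ring.two_ne_zero h2
    rw [show x = (x + 1) / 2 * ((x + 1) / 2) - (x - 1) / 2 * ((x - 1) / 2) by field_simp; ring]
    exact R.sub_mem (hsq _) (hsq _)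

end FieldBase

namespace HomData

variable {f : Multiplicative F →* G} (E : HomData (p := p) hn ρ u h ω f) (D : FieldBase hn ρ u h ω)

local notation "H" => orb hn ρ h
local notation "Xf" => fam hn ρ f

include E D

theorem fix {d : G} (hu : Commute d u) (ha : Commute d (H p₀ p₂)) : Scal d 1 (rt f) := fun x => by
  obtain ⟨P, rfl⟩ := surj_of_gen (p := p) D.gen x
  rw [one_mul, ← E.word]
  have h1 := ShortPresSL2.map_polyWord (MulAut.conj d).toMonoidHom u (H p₀ p₂) P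
  simp only [MulEquiv.coe_toMonoidHom, MulAut.conj_apply] at h1
  rw [h1, hu.eq, mul_inv_cancel_right, ha.eq, mul_inv_cancel_right]

theorem s_out {a b : Fin n} (ha0 : p₀ ≠ a) (hb0 : p₀ ≠ b) (ha1 : p₁ ≠ a) (hb1 : p₁ ≠ b) (hab : a ≠ b) :
    Scal (H a b) 1 (rt f) :=
  E.fix D (D.base.fix_u ha0 hb0 ha1 hb1 hab) (D.base.hcomm hab (pt_ne hn (by decide)))

theorem s_fst {b : Fin n} (hb0 : p₀ ≠ b) (hb1 : p₁ ≠ b) : Scal (H p₀ b) ω (rt f) := by
  by_cases hb : b = p₂
  · subst hb; exact E.scal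
  · rw [D.base.tri hb0 (pt_ne hn (show (0 : Fin 4) ≠ 2 by decide)) hb]
    have := E.scal.mul (E.s_out D (a := p₂) (b := b) (pt_ne hn (by decide)) hb0 (pt_ne hn (by decide)) hb1
      (Ne.symm hb))
    rwa [mul_one] at this

theorem s_snd {b : Fin n} (hb0 : p₀ ≠ b) (hb1 : p₁ ≠ b) : Scal (H p₁ b) ω⁻¹ (rt f) := by
  obtain ⟨c, hc0, hc1, hcb⟩ := exists_other (i := p₀) p₁ b hn
  have h1 : Scal (H p₀ c * H p₁ b) 1 (rt f) := by
    refine E.fix D ?_ ((D.base.hcomm hc0.symm (pt_ne hn (by decide))).mul_left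
      (D.base.hcomm hb1 (pt_ne hn (by decide))))
    have := D.base.fixd (pt_ne hn (show (0 : Fin 4) ≠ 1 by decide)) hc0.symm hb0 hc1.symm hb1 hcb
    rwa [orb_base hn ρ D.base.stu] at this
  have h2 := ((E.s_fst D hc0.symm hc1.symm).inv D.ne).mul h1
  rwa [mul_one, inv_mul_cancel_left] at h2

theorem s_self : Scal (H p₀ p₁) (ω ^ 2) (rt f) := by
  rw [D.base.tri (pt_ne hn (show (0 : Fin 4) ≠ 1 by decide)) (pt_ne hn (show (0 : Fin 4) ≠ 2 by decide))
    (pt_ne hn (show (1 : Fin 4) ≠ 2 by decide)),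
    D.base.anti (i := p₁) (j := p₂) (pt_ne hn (by decide))]
  have := E.scal.mul ((E.s_snd D (b := p₂) (pt_ne hn (by decide)) (pt_ne hn (by decide))).inv (inv_ne_zero D.ne))
  rwa [inv_inv, ← pow_two] at this

theorem stable (x : F) : Stable hn ρ (rt f x) := by
  intro g g0 g1
  obtain ⟨P, rfl⟩ := surj_of_gen (p := p) D.gen x
  have e := ShortPresSL2.map_polyWord (MulAut.conj (ρ g)).toMonoidHom u (H p₀ p₂) P
  simp only [MulEquiv.coe_toMonoidHom, MulAut.conj_apply] at e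
  rw [(D.base.stu g g0 g1).eq, mul_inv_cancel_right, D.base.mapH g (pt_ne hn (by decide))] at e
  rw [g0] at e
  set b := pm g p₂
  have hb0 : p₀ ≠ b := g0 ▸ (g : Perm (Fin n)).injective.ne (pt_ne hn (by decide))
  have hb1 : p₁ ≠ b := g1 ▸ (g : Perm (Fin n)).injective.ne (pt_ne hn (by decide))
  have e2 : polyWord u (H p₀ b) P = rt f (aeval ω P) :=
    ShortPresSL2.polyWord_eq ω f (u := u) (a := H p₀ b) E.one (fun r => (E.s_fst D hb0 hb1 r).symm) P
  rw [← E.word] at e2 ⊢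
  rw [e2] at e
  exact mul_inv_eq_iff_eq_mul.1 e

theorem mapX (g : alternatingGroup (Fin n)) {i j : Fin n} (hij : i ≠ j) (x : F) :
    ρ g * Xf i j x * (ρ g)⁻¹ = Xf (pm g i) (pm g j) x := orb_map hn ρ (E.stable D x) g hij

theorem baseX (x : F) : Xf p₀ p₁ x = rt f x := orb_base hn ρ (E.stable D x)

theorem oneX (i j : Fin n) : Xf i j 1 = orb hn ρ u i j := by rw [fam, E.one]

theorem scal_move {g : alternatingGroup (Fin n)} {d d' : G} {l : F} (hd : Scal d l (rt f))
    (e : ρ g * d * (ρ g)⁻¹ = d') : Scal d' l (Xf (pm g p₀) (pm g p₁)) :=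
  hd.conj e.symm fun x => by rw [← E.mapX D g (pt_ne hn (by decide)), E.baseX D]

theorem x_out {i j a b : Fin n} (hij : i ≠ j) (hia : i ≠ a) (hib : i ≠ b) (hja : j ≠ a) (hjb : j ≠ b)
    (hab : a ≠ b) : Scal (H a b) 1 (Xf i j) := by
  obtain ⟨g, rfl, rfl⟩ := exists_move2 hn hij
  obtain ⟨a, rfl⟩ := (g : Perm (Fin n)).surjective a
  obtain ⟨b, rfl⟩ := (g : Perm (Fin n)).surjective b
  simp only [ne_eq, EmbeddingLike.apply_eq_iff_eq] at hia hib hja hjb hab
  exact E.scal_move D (g := g) (E.s_out D hia hib hja hjb hab) (D.base.mapH g hab)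

theorem x_fst {i j a : Fin n} (hij : i ≠ j) (hia : i ≠ a) (hja : j ≠ a) : Scal (H i a) ω (Xf i j) := by
  obtain ⟨g, rfl, rfl⟩ := exists_move2 hn hij
  obtain ⟨a, rfl⟩ := (g : Perm (Fin n)).surjective a
  simp only [ne_eq, EmbeddingLike.apply_eq_iff_eq] at hia hja
  exact E.scal_move D (g := g) (E.s_fst D hia hja) (D.base.mapH g hia)

theorem x_snd {i j a : Fin n} (hij : i ≠ j) (hia : i ≠ a) (hja : j ≠ a) : Scal (H j a) ω⁻¹ (Xf i j) := by
  obtain ⟨g, rfl, rfl⟩ := exists_move2 hn hij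
  obtain ⟨a, rfl⟩ := (g : Perm (Fin n)).surjective a
  simp only [ne_eq, EmbeddingLike.apply_eq_iff_eq] at hia hja
  exact E.scal_move D (g := g) (E.s_snd D hia hja) (D.base.mapH g hja)

theorem x_self {i j : Fin n} (hij : i ≠ j) : Scal (H i j) (ω ^ 2) (Xf i j) := by
  obtain ⟨g, rfl, rfl⟩ := exists_move2 hn hij
  exact E.scal_move D (g := g) (E.s_self D) (D.base.mapH g (pt_ne hn (by decide)))

omit E D [Finite F] in
theorem hpow (d : G) (l : F) (i j : Fin n) (hd : Scal d l (Xf i j)) (m : ℕ) :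
    ∀ x : F, d ^ m * Xf i j x * (d ^ m)⁻¹ = Xf i j (l ^ m * x) := by
  induction m with
  | zero => intro x; simp
  | succ m ih => intro x; rw [pow_succ' l, mul_assoc l, ← hd, ← ih, pow_succ']; group

theorem row {i j k : Fin n} (hij : i ≠ j) (hik : i ≠ k) (hjk : j ≠ k) :
    ∀ a b, Commute (Xf i j a) (Xf i k b) := by
  obtain ⟨l, hli, hlj, hlk⟩ := exists_other (i := i) j k hn
  refine pair_induction _ (fun a => by rw [fam_zero]; exact Commute.one_right _)
    (fun a a' b h1 h2 => by rw [fam_add]; exact h1.mul_left h2) (ω ^ 2) ω (pow_ne_zero 2 D.ne) D.gen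
    (fun a b hab => ?_) _ (D.span_pow p) ?_
  · rw [← E.x_self D hij, ← E.x_fst D hik hij hjk.symm]
    exact hab.map (MulAut.conj _).toMonoidHom
  · rintro _ ⟨m, rfl⟩
    have h1 : Commute (Xf i j 1) (Xf i k 1) := by
      rw [E.oneX D, E.oneX D]; exact D.base.rowAll hij hik hjk
    have d1 : Scal (H i l * H k l) ω (Xf i j) := by
      have := (E.x_fst D hij hli.symm hlj.symm).mul (E.x_out D hij hik hli.symm hjk hlj.symm hlk.symm)
      rwa [mul_one] at this
    have d2 : Scal (H i l * H k l) 1 (Xf i k) := by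
      have := (E.x_fst D hik hli.symm hlk.symm).mul (E.x_snd D hik hli.symm hlk.symm)
      rwa [mul_inv_cancel₀ D.ne] at this
    have h2 := h1.map (MulAut.conj ((H i l * H k l) ^ m)).toMonoidHom
    simp only [MulEquiv.coe_toMonoidHom, MulAut.conj_apply] at h2
    rwa [hpow _ _ _ _ d1, hpow _ _ _ _ d2, one_pow, mul_one, mul_one] at h2

theorem col {i j k : Fin n} (hij : i ≠ j) (hik : i ≠ k) (hjk : j ≠ k) :
    ∀ a b, Commute (Xf i k a) (Xf j k b) := by
  obtain ⟨l, hli, hlj, hlk⟩ := exists_other (i := i) j k hn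
  refine pair_induction _ (fun a => by rw [fam_zero]; exact Commute.one_right _)
    (fun a a' b h1 h2 => by rw [fam_add]; exact h1.mul_left h2) ω ω⁻¹ D.ne D.gen_inv
    (fun a b hab => ?_) _ (D.span_pow p) ?_
  · have e : Scal (H i j) ω⁻¹ (Xf j k) := by
      rw [D.base.anti hij.symm]
      exact (E.x_fst D hjk hij.symm hik.symm).inv D.ne
    rw [← E.x_fst D hik hij hjk.symm, ← e]
    exact hab.map (MulAut.conj _).toMonoidHom
  · rintro _ ⟨m, rfl⟩
    have h1 : Commute (Xf i k 1) (Xf j k 1) := by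
      rw [E.oneX D, E.oneX D]; exact D.base.colAll hij hik hjk
    have h2 := h1.map (MulAut.conj (H i l ^ m)).toMonoidHom
    simp only [MulEquiv.coe_toMonoidHom, MulAut.conj_apply] at h2
    rwa [hpow _ _ _ _ (E.x_fst D hik hli.symm hlk.symm),
      hpow _ _ _ _ (E.x_out D hjk hij.symm hlj.symm hik.symm hlk.symm hli.symm),
      one_pow, mul_one, mul_one] at h2

theorem chn {i j k : Fin n} (hij : i ≠ j) (hik : i ≠ k) (hjk : j ≠ k) :
    ∀ a b, Xf i j a * Xf j k b = Xf i k (a * b) * Xf j k b * Xf i j a := by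
  obtain ⟨l, hli, hlj, hlk⟩ := exists_other (i := i) j k hn
  refine pair_induction _ (fun a => by simp [fam_zero]) (fun a a' b h1 h2 => ?_) (ω ^ 2) ω⁻¹
    (pow_ne_zero 2 D.ne) D.gen_inv (fun a b hab => ?_) _ (D.span_pow p) ?_
  · rw [add_mul, fam_add, fam_add]
    calc Xf i j a * Xf i j a' * Xf j k b
        = Xf i j a * Xf i k (a' * b) * Xf j k b * Xf i j a' := by rw [mul_assoc, h2]; group
      _ = Xf i k (a' * b) * (Xf i j a * Xf j k b) * Xf i j a' := by rw [(E.row D hij hik hjk _ _).eq]; group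
      _ = Xf i k (a' * b) * Xf i k (a * b) * Xf j k b * (Xf i j a * Xf i j a') := by
          rw [h1]; group
      _ = _ := by rw [← fam_add, ← fam_add, add_comm (a' * b)]; rw [fam_add]
  · have e : Scal (H i j) ω⁻¹ (Xf j k) := by
      rw [D.base.anti hij.symm]
      exact (E.x_fst D hjk hij.symm hik.symm).inv D.ne
    rw [show ω ^ 2 * a * (ω⁻¹ * b) = ω * (a * b) by have := D.ne; field_simp, ← E.x_self D hij, ← e,
      ← E.x_fst D hik hij hjk.symm]
    calc H i j * Xf i j a * (H i j)⁻¹ * (H i j * Xf j k b * (H i j)⁻¹)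
        = H i j * (Xf i j a * Xf j k b) * (H i j)⁻¹ := by group
      _ = _ := by rw [hab]; group
  · rintro _ ⟨m, rfl⟩
    have h1 : Xf i j 1 * Xf j k 1 = Xf i k 1 * Xf j k 1 * Xf i j 1 := by
      rw [E.oneX D, E.oneX D, E.oneX D]; exact D.base.chainAll hij hik hjk
    have h2 := congrArg (fun z => H i l ^ m * z * (H i l ^ m)⁻¹) h1
    simp only [← conj_mul] at h2
    rw [hpow _ _ _ _ (E.x_fst D hij hli.symm hlj.symm), hpow _ _ _ _ (E.x_fst D hik hli.symm hlk.symm),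
      hpow _ _ _ _ (E.x_out D hjk hij.symm hlj.symm hik.symm hlk.symm hli.symm), one_pow, mul_one, mul_one] at h2
    simpa only [mul_one] using h2

theorem disj {i j k l : Fin n} (hij : i ≠ j) (hik : i ≠ k) (hil : i ≠ l) (hjk : j ≠ k) (hjl : j ≠ l)
    (hkl : k ≠ l) : ∀ a b, Commute (Xf i j a) (Xf k l b) := by
  refine pair_induction _ (fun a => by rw [fam_zero]; exact Commute.one_right _)
    (fun a a' b h1 h2 => by rw [fam_add]; exact h1.mul_left h2) ω⁻¹ ω⁻¹ (inv_ne_zero D.ne) D.gen_inv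
    (fun a b hab => ?_) _ (D.span_sq p) ?_
  · have e : Scal (H j k) ω⁻¹ (Xf k l) := by
      rw [D.base.anti hjk.symm]
      exact (E.x_fst D hkl hjk.symm hjl.symm).inv D.ne
    rw [← E.x_snd D hij hik hjk a, ← e b]
    exact hab.map (MulAut.conj _).toMonoidHom
  · rintro _ ⟨m, rfl⟩
    have h1 : Commute (Xf i j 1) (Xf k l 1) := by
      rw [E.oneX D, E.oneX D]; exact D.base.disjAll hij hik hil hjk hjl hkl
    have h2 := h1.map (MulAut.conj (H i j ^ m)).toMonoidHom
    simp only [MulEquiv.coe_toMonoidHom, MulAut.conj_apply] at h2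
    rwa [hpow _ _ _ _ (E.x_self D hij), hpow _ _ _ _ (E.x_out D hkl hik.symm hjk.symm hil.symm hjl.symm hij),
      one_pow, mul_one, mul_one] at h2

/-- Steinberg's relations. -/
theorem rel : Schur.SteinbergSLn.IsSLnRel (fam hn ρ f) := by
  constructor
  · intro i j _ a b
    exact fam_add f i j a b
  · intro i j k l hij hkl hil hjk a b
    by_cases hik : i = k
    · subst hik
      by_cases hjl : j = l
      · subst hjl
        rw [← fam_add, ← fam_add, add_comm]
      · exact (E.row D hij hkl hjl a b).eq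
    · by_cases hjl : j = l
      · subst hjl
        exact (E.col D hik hij hkl a b).eq
      · exact (E.disj D hij hik hil hjk hjl hkl a b).eq
  · intro i j l hij hjl hil a b
    exact E.chn D hij hil hjl a b

end HomData

end field

end Cfsg.Agent.Lib.ShortPresSLn
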