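import Mathlib
import Cfsg.Agent.Lib.ShortPresSLn.Family

/-!
# The image of `SL_n` in a group with the root facts
-/

set_option autoImplicit false

namespace Cfsg.Agent.Lib.ShortPresSLn

open Equiv Polynomial
open ShortPresSL2 (polyWord)

variable {G : Type*} [Group G] {n : ℕ} {hn : 4 ≤ n} {ρ : alternatingGroup (Fin n) →* G}
  {F : Type*} [Field F] [Finite F] {p : ℕ} [Fact p.Prime] [Algebra (ZMod p) F] {u h : G} {ω : F}

/-- What is needed about the image of `SL_n`. -/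
structure RangeData (hn : 4 ≤ n) (ρ : alternatingGroup (Fin n) →* G) (u h : G) (K : Subgroup G) : Prop where
  root : ∀ {i j : Fin n}, i ≠ j → orb hn ρ u i j ∈ K
  word : ∀ P : (ZMod p)[X], polyWord u (orb hn ρ h (pt hn 0) (pt hn 2)) P ∈ K
  orbWord : ∀ (P : (ZMod p)[X]) {i j : Fin n}, i ≠ j →
    orb hn ρ (polyWord u (orb hn ρ h (pt hn 0) (pt hn 2)) P) i j ∈ K
  norm : ∀ g, ∀ z ∈ K, ρ g * z * (ρ g)⁻¹ ∈ K

theorem RangeData.weyl {K : Subgroup G} (R : RangeData (p := p) hn ρ u h K) {i j : Fin n} (hij : i ≠ j) :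
    wt hn ρ u i j ∈ K := K.mul_mem (K.mul_mem (R.root hij) (K.inv_mem (R.root hij.symm))) (R.root hij)

theorem RangeData.base {K : Subgroup G} (R : RangeData (p := p) hn ρ u h K) (hu : Stable hn ρ u) : u ∈ K := by
  rw [← orb_base hn ρ hu]; exact R.root (pt_ne hn (by decide))

/-- The root facts give a homomorphism from `SL_n`. -/
theorem FieldBase.exists_range (D : FieldBase hn ρ u h ω) (hup : u ^ p = 1)
    (hmin : polyWord u (orb hn ρ h (pt hn 0) (pt hn 2)) (minpoly (ZMod p) ω) = 1) :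
    ∃ φ : Matrix.SpecialLinearGroup (Fin n) F →* G, RangeData (p := p) hn ρ u h φ.range := by
  obtain ⟨f, hf1, hfw, hfs⟩ := D.exists_f (p := p) hup hmin
  have E : HomData (p := p) hn ρ u h ω f := ⟨hf1, hfw, hfs⟩
  have R := E.rel D
  obtain ⟨e, -⟩ := Schur.SteinbergSLn.exists_presentation (F := F) n (by omega)
  let φ₀ := PresentedGroup.toGroup (Schur.SteinbergSLn.rels_eval R)
  refine ⟨φ₀.comp e.symm.toMonoidHom, ?_⟩
  have hr : (φ₀.comp e.symm.toMonoidHom).range = φ₀.range := by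
    rw [MonoidHom.range_comp, MonoidHom.range_eq_top.2 e.symm.surjective, ← MonoidHom.range_eq_map]
  rw [hr]
  set K := φ₀.range
  have hm : ∀ i j, i ≠ j → ∀ y : F, fam hn ρ f i j y ∈ K := fun i j hij y =>
    ⟨PresentedGroup.of (⟨(i, j), hij⟩, y), PresentedGroup.toGroup.of _⟩
  refine ⟨fun {i j} hij => E.oneX D i j ▸ hm i j hij 1, fun P => ?_, fun P {i j} hij => ?_, ?_⟩
  · rw [E.word, ← E.baseX D]; exact hm _ _ (pt_ne hn (by decide)) _
  · rw [E.word]; exact hm i j hij _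
  · intro g z hz
    obtain ⟨w, rfl⟩ := hz
    have hle : (⊤ : Subgroup (PresentedGroup _)).map ((MulAut.conj (ρ g)).toMonoidHom.comp φ₀) ≤ K := by
      rw [← PresentedGroup.closure_range_of, MonoidHom.map_closure, Subgroup.closure_le]
      rintro _ ⟨_, ⟨⟨⟨⟨i, j⟩, hij⟩, y⟩, rfl⟩, rfl⟩
      rw [MonoidHom.comp_apply, show φ₀ (PresentedGroup.of (⟨(i, j), hij⟩, y)) = fam hn ρ f i j y from
        PresentedGroup.toGroup.of _]
      show ρ g * fam hn ρ f i j y * (ρ g)⁻¹ ∈ K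
      rw [E.mapX D g hij]
      exact hm _ _ ((g : Perm (Fin n)).injective.ne hij) y
    exact hle ⟨w, trivial, rfl⟩

end Cfsg.Agent.Lib.ShortPresSLn
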