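import Mathlib
import Cfsg.Agent.Lib.ShortPresSLn.Big
import Cfsg.Agent.Lib.ShortPresSLn.Range

/-!
# A group with the twenty-two relations is an image of `SL_n`

`n = k + 4` with `2 ≤ k`.
-/

set_option autoImplicit false

namespace Cfsg.Agent.Lib.ShortPresSLn

open Equiv Polynomial
open ShortPresSL2 (polyWord)

theorem big_le {k : ℕ} (hk : 2 ≤ k) : 6 ≤ k + 2 + 2 := by omega

section relators

variable {G : Type*} [Group G] {k : ℕ} (hk : 2 ≤ k) (D : AltData (k + 2))
  {F : Type*} [Field F] {p : ℕ} [Fact p.Prime] [Algebra (ZMod p) F]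

/-- The word of an element of `A_n` in `x, Z`. -/
noncomputable def pe (x Z : G) (g : alternatingGroup (Fin (k + 2 + 2))) : G :=
  AltData.ev (AltData.X (k + 2) x Z) g

/-- The conjugate attached to an ordered pair, as a word. -/
noncomputable def orbW (x Z v : G) (i j : Fin 6) : G :=
  pe x Z (mv (four_le (big_le hk)) (qt (big_le hk) i) (qt (big_le hk) j)) * v *
    (pe x Z (mv (four_le (big_le hk)) (qt (big_le hk) i) (qt (big_le hk) j)))⁻¹

/-- The word `ζ`. -/
noncomputable def zeta (x Z : G) : G := Z⁻¹ * pe (k := k) x Z (iota (k + 2) (finRotate (k + 2)))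

/-- The first stabiliser generator. -/
noncomputable def stab1 (k : ℕ) : alternatingGroup (Fin (k + 2 + 2)) := iotaHom (k + 2) (carm k 0)

/-- The second stabiliser generator. -/
noncomputable def stab2 (k : ℕ) : alternatingGroup (Fin (k + 2 + 2)) := iotaHom (k + 2) ⟨genTwo k, genTwo_mem k⟩

/-- A Weyl word. -/
noncomputable def wtW (x Z u : G) (i j : Fin 6) : G :=
  orbW hk x Z u i j * (orbW hk x Z u j i)⁻¹ * orbW hk x Z u i j

/-- The fourteen relators following those of the alternating group. -/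
noncomputable def rootRels (ω : F) (Pz Pi : (ZMod p)[X]) (x Z u h : G) : List G :=
  [pe x Z (stab1 k) * u * (u * pe x Z (stab1 k))⁻¹,
    pe x Z (stab2 k) * u * (u * pe x Z (stab2 k))⁻¹,
    pe x Z (stab1 k) * h * (h * pe x Z (stab1 k))⁻¹,
    pe x Z (stab2 k) * h * (h * pe x Z (stab2 k))⁻¹,
    h * (orbW hk x Z h 0 2 * orbW hk x Z h 2 1)⁻¹,
    h * orbW hk x Z h 1 2 * (orbW hk x Z h 1 2 * h)⁻¹,
    orbW hk x Z h 0 2 * orbW hk x Z h 1 3 * u * (u * (orbW hk x Z h 0 2 * orbW hk x Z h 1 3))⁻¹,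
    u * orbW hk x Z u 0 2 * (orbW hk x Z u 0 2 * u)⁻¹,
    u * orbW hk x Z u 1 2 * (orbW hk x Z u 0 2 * orbW hk x Z u 1 2 * u)⁻¹,
    u * orbW hk x Z u 2 3 * (orbW hk x Z u 2 3 * u)⁻¹,
    u ^ p,
    polyWord u (orbW hk x Z h 0 2) (minpoly (ZMod p) ω),
    h * (polyWord u (orbW hk x Z h 0 2) Pz * orbW hk x Z (polyWord u (orbW hk x Z h 0 2) Pi) 1 0 *
      polyWord u (orbW hk x Z h 0 2) Pz * (wtW hk x Z u 0 1)⁻¹)⁻¹,
    pe x Z (w0 (big_le hk)) * zeta (k := k) x Z *
      (wtW hk x Z u 1 0 * wtW hk x Z u 4 3 * (wtW hk x Z u 1 4 * wtW hk x Z u 1 4))⁻¹]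

/-- All twenty-two relators. -/
noncomputable def allRels (ω : F) (Pz Pi : (ZMod p)[X]) (x Z u h : G) : List G :=
  D.rels x Z ++ rootRels hk ω Pz Pi x Z u h

theorem map_pe {K : Type*} [Group K] (f : G →* K) (x Z : G) (g : alternatingGroup (Fin (k + 2 + 2))) :
    f (pe x Z g) = pe (f x) (f Z) g := by
  simp [pe, AltData.map_ev, AltData.map_X]

theorem map_allRels {K : Type*} [Group K] (f : G →* K) (ω : F) (Pz Pi : (ZMod p)[X]) (x Z u h : G) :
    (allRels hk D ω Pz Pi x Z u h).map f = allRels hk D ω Pz Pi (f x) (f Z) (f u) (f h) := by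
  have ho : ∀ v i j, f (orbW hk x Z v i j) = orbW hk (f x) (f Z) (f v) i j := fun v i j => by
    simp [orbW, map_pe]
  have hw : ∀ i j, f (wtW hk x Z u i j) = wtW hk (f x) (f Z) (f u) i j := fun i j => by
    simp [wtW, ho]
  have hz : f (zeta (k := k) x Z) = zeta (k := k) (f x) (f Z) := by simp [zeta, map_pe]
  rw [allRels, allRels, List.map_append, AltData.map_rels]
  simp [rootRels, map_pe, ho, hw, hz, ShortPresSL2.map_polyWord]

theorem allRels_length (ω : F) (Pz Pi : (ZMod p)[X]) (x Z u h : G) :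
    (allRels hk D ω Pz Pi x Z u h).length = 22 := rfl

end relators

section surject

variable {G : Type*} [Group G] {F : Type*} [Field F] [Finite F] {p : ℕ} [Fact p.Prime] [Algebra (ZMod p) F]

/-- The stabiliser of `0, 1` is generated by the two chosen elements. -/
theorem stable_of_gens {k : ℕ} (hk : 2 ≤ k) (ρ : alternatingGroup (Fin (k + 2 + 2)) →* G) {v : G}
    (h1 : Commute (ρ (stab1 k)) v) (h2 : Commute (ρ (stab2 k)) v) : Stable (four_le (big_le hk)) ρ v := by
  intro g g0 g1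
  obtain ⟨π, rfl⟩ := iotaHom_surj g0 g1
  have hπ : π ∈ Subgroup.closure ({carm k 0, ⟨genTwo k, genTwo_mem k⟩} : Set (alternatingGroup (Fin (k + 2)))) := by
    rw [closure_carm_zero_genTwo]; trivial
  have hle : Subgroup.closure ({carm k 0, ⟨genTwo k, genTwo_mem k⟩} : Set (alternatingGroup (Fin (k + 2)))) ≤
      (Subgroup.centralizer {v}).comap (ρ.comp (iotaHom (k + 2))) := by
    rw [Subgroup.closure_le]
    rintro _ (rfl | rfl)
    · exact Subgroup.mem_centralizer_singleton_iff.2 h1.eq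
    · exact Subgroup.mem_centralizer_singleton_iff.2 h2.eq
  exact Subgroup.mem_centralizer_singleton_iff.1 (hle hπ)

/-- A group with the relations is an image of `SL_n`. -/
theorem exists_surjection {k : ℕ} (hk : 2 ≤ k) (D : AltData (k + 2)) {x Z u h : G} {ω : F} (hω : ω ≠ 0)
    (hgenω : ∀ b : F, b ≠ 0 → ∃ m : ℕ, ω ^ m = b) {Pz Pi : (ZMod p)[X]} (hPz : aeval ω Pz = ω)
    (hPi : aeval ω Pi = -ω⁻¹) (hr : ∀ r ∈ allRels hk D ω Pz Pi x Z u h, r = 1)
    (hgen : Subgroup.closure ({x, Z, u, h} : Set G) = ⊤) :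
    ∃ φ : Matrix.SpecialLinearGroup (Fin (k + 2 + 2)) F →* G, Function.Surjective φ := by
  obtain ⟨ρ, hρ, hζ⟩ := D.exists_hom_of_rels (fun r hr' => hr r (List.mem_append_left _ hr'))
  have hpe : ∀ g, pe x Z g = ρ g := fun g => AltData.ev_eq_hom ρ hρ g
  have hR : ∀ r ∈ rootRels hk ω Pz Pi x Z u h, r = 1 := fun r hr' => hr r (List.mem_append_right _ hr')
  have ho : ∀ v i j, orbW hk x Z v i j = orb (four_le (big_le hk)) ρ v (qt (big_le hk) i) (qt (big_le hk) j) := fun v i j => by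
    simp [orbW, orb, hpe]
  have hw : ∀ i j, wtW hk x Z u i j = wt (four_le (big_le hk)) ρ u (qt (big_le hk) i) (qt (big_le hk) j) := fun i j => by
    simp [wtW, wt, ho]
  set hn := big_le hk
  simp only [rootRels, List.mem_cons, List.not_mem_nil, or_false, forall_eq_or_imp, forall_eq, mul_inv_eq_one,
    hpe, ho, hw, zeta] at hR
  obtain ⟨r1, r2, r3, r4, r5, r6, r7, r8, r9, r10, r11, r12, r13, r14⟩ := hR
  set ζ := Z⁻¹ * ρ (iota (k + 2) (finRotate (k + 2))) with hζdef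
  have B : Base hn ρ u h := ⟨stable_of_gens hk ρ r1 r2, stable_of_gens hk ρ r3 r4, r5, r6, r7, r8, r9, r10⟩
  have hW : ρ (w0 hn) * ζ = rW hn ρ u := r14
  have DB : FieldBase (four_le hn) ρ u h ω := ⟨B.facts hζ hW, hω, hgenω⟩
  obtain ⟨φ, RD⟩ := DB.exists_range (p := p) r11 r12
  refine ⟨φ, MonoidHom.range_eq_top.1 ?_⟩
  set K := φ.range with hK
  have hWt : ∀ i j, i ≠ j → wt (four_le hn) ρ u i j ∈ K := fun i j hij => RD.weyl hij
  have hRm : rW hn ρ u ∈ K := K.mul_mem (K.mul_mem (hWt _ _ (qt_ne hn (by decide))) (hWt _ _ (qt_ne hn (by decide))))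
    (K.mul_mem (hWt _ _ (qt_ne hn (by decide))) (hWt _ _ (qt_ne hn (by decide))))
  have hnorm := RD.norm
  -- `A_n` lies in the image
  set N := K.comap ρ with hN
  have hNn : N.Normal := ⟨fun z hz g => by
    rw [hN, Subgroup.mem_comap, map_mul, map_mul, map_inv]; exact hnorm g _ hz⟩
  haveI : IsSimpleGroup (alternatingGroup (Fin (k + 2 + 2))) :=
    alternatingGroup.isSimpleGroup (by simp; omega)
  have hcomm : ∀ g, g * w0 hn * g⁻¹ * (w0 hn)⁻¹ ∈ N := fun g => by
    rw [hN, Subgroup.mem_comap]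
    have : ρ (g * w0 hn * g⁻¹ * (w0 hn)⁻¹) = ρ g * rW hn ρ u * (ρ g)⁻¹ * (rW hn ρ u)⁻¹ := by
      rw [← hW, map_mul, map_mul, map_mul, map_inv, map_inv]
      calc ρ g * ρ (w0 hn) * (ρ g)⁻¹ * (ρ (w0 hn))⁻¹
          = ρ g * ρ (w0 hn) * (ρ g)⁻¹ * (ζ * ζ⁻¹) * (ρ (w0 hn))⁻¹ := by group
        _ = ρ g * ρ (w0 hn) * ((ρ g)⁻¹ * ζ) * ζ⁻¹ * (ρ (w0 hn))⁻¹ := by group
        _ = _ := by rw [← ((hζ g).inv_right).eq]; group
    rw [this]
    exact K.mul_mem (hnorm g _ hRm) (K.inv_mem hRm)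
  have hNtop : N = ⊤ := by
    refine (hNn.eq_bot_or_eq_top).resolve_left fun hb => ?_
    have hc : w0 hn ∈ Subgroup.center (alternatingGroup (Fin (k + 2 + 2))) := by
      refine Subgroup.mem_center_iff.2 fun g => ?_
      have := hcomm g
      rw [hb, Subgroup.mem_bot, mul_inv_eq_one, mul_inv_eq_iff_eq_mul] at this
      exact this
    rw [alternatingGroup.center_eq_bot (by simp), Subgroup.mem_bot] at hc
    have h01 := congrArg (fun z : alternatingGroup (Fin (k + 2 + 2)) => (z : Perm (Fin (k + 2 + 2))) (qt hn 0)) hc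
    simp only [w0, Subgroup.coe_one, Perm.one_apply, Perm.mul_apply] at h01
    rw [swap_apply_of_ne_of_ne (qt_ne hn (by decide)) (qt_ne hn (by decide)), swap_apply_left] at h01
    exact qt_ne hn (show (1 : Fin 6) ≠ 0 by decide) h01
  have hρK : ∀ g, ρ g ∈ K := fun g => by
    have : g ∈ N := hNtop ▸ Subgroup.mem_top g
    exact this
  have hζK : ζ ∈ K := by
    have : ζ = (ρ (w0 hn))⁻¹ * rW hn ρ u := by rw [← hW, inv_mul_cancel_left]
    rw [this]; exact K.mul_mem (K.inv_mem (hρK _)) hRm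
  rw [eq_top_iff, ← hgen, Subgroup.closure_le]
  rintro z (rfl | rfl | rfl | rfl)
  · have := hρ 0 (by omega)
    simp only [AltData.X, pow_zero, one_mul, inv_one, mul_one, zpow_one] at this
    exact this ▸ hρK _
  · have : z = ρ (iota (k + 2) (finRotate (k + 2))) * ζ⁻¹ := by rw [hζdef]; group
    rw [this]; exact K.mul_mem (hρK _) (K.inv_mem hζK)
  · exact RD.base B.stu
  · rw [r13]
    exact K.mul_mem (K.mul_mem (K.mul_mem (RD.word Pz) (RD.orbWord Pi (qt_ne hn (by decide)))) (RD.word Pz))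
      (K.inv_mem (hWt _ _ (qt_ne hn (by decide))))

end surject

end Cfsg.Agent.Lib.ShortPresSLn
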