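import Mathlib
import Cfsg.Agent.Lib.Linear.Transvection
import Cfsg.Agent.Lib.ShortPresSLn.AltSem
import Cfsg.Agent.Lib.ShortPresSLn.Surject
import Cfsg.Agent.Lib.ShortPresSLn.Pres

/-!
# The relations hold in `SL_n`, and the presentation for `n ≥ 6`
-/

set_option autoImplicit false

namespace Cfsg.Agent.Lib.ShortPresSLn

open Equiv Polynomial
open ShortPresSL2 (polyWord)
open Schur.SteinbergSLn (trv trv_rel trv_smul)
open Cfsg.Agent.Lib.Linear (sl_ext_single)

variable {F : Type*} [Field F] {n : ℕ}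

local notation "SLn" => Matrix.SpecialLinearGroup (Fin n) F

/-- Permutation matrices of even permutations. -/
noncomputable def permS (n : ℕ) (F : Type*) [Field F] (π : alternatingGroup (Fin n)) :
    Matrix.SpecialLinearGroup (Fin n) F :=
  ⟨((π : Perm (Fin n))⁻¹).permMatrix F, by
    rw [Matrix.det_permutation, Perm.sign_inv, Perm.mem_alternatingGroup.1 π.2]; simp⟩

theorem permS_smul (π : alternatingGroup (Fin n)) (v : Fin n → F) (k : Fin n) :
    (permS n F π • v) k = v (((π : Perm (Fin n))⁻¹) k) := by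
  rw [Matrix.SpecialLinearGroup.smul_def]
  show Matrix.mulVec (((π : Perm (Fin n))⁻¹).permMatrix F) v k = _
  rw [Matrix.permMatrix_mulVec]
  rfl

theorem permS_single (π : alternatingGroup (Fin n)) (j : Fin n) (a : F) :
    permS n F π • (Pi.single j a : Fin n → F) = Pi.single ((π : Perm (Fin n)) j) a := by
  funext k
  rw [permS_smul]
  rcases eq_or_ne k ((π : Perm (Fin n)) j) with rfl | h
  · simp
  · rw [Pi.single_eq_of_ne h, Pi.single_eq_of_ne fun e => h (by rw [← e]; simp)]

/-- The permutation matrices as a homomorphism. -/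
noncomputable def permHom (n : ℕ) (F : Type*) [Field F] :
    alternatingGroup (Fin n) →* Matrix.SpecialLinearGroup (Fin n) F :=
  MonoidHom.mk' (permS n F) fun a b => sl_ext_single fun k => by
    rw [mul_smul, permS_single, permS_single, permS_single]; rfl

theorem permHom_trv (π : alternatingGroup (Fin n)) {i j : Fin n} (h : i ≠ j) (a : F) :
    permHom n F π * trv n F i j a * (permHom n F π)⁻¹ =
      trv n F ((π : Perm (Fin n)) i) ((π : Perm (Fin n)) j) a := by
  rw [mul_inv_eq_iff_eq_mul]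
  refine sl_ext_single fun k => ?_
  show (permS n F π * trv n F i j a) • _ = (trv n F _ _ a * permS n F π) • _
  rw [mul_smul, mul_smul, trv_smul h, permS_single, trv_smul ((π : Perm (Fin n)).injective.ne h)]
  funext z
  rw [permS_smul]
  simp only [Pi.add_apply, Pi.single_apply, EmbeddingLike.apply_eq_iff_eq, Perm.inv_def, Equiv.symm_apply_eq]

theorem prod_mulSingle {i j : Fin n} (w : Fˣ) :
    ∏ k, (Pi.mulSingle i w * Pi.mulSingle j w⁻¹ : Fin n → Fˣ) k = 1 := by
  simp only [Pi.mul_apply, Finset.prod_mul_distrib]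
  rw [Fintype.prod_pi_mulSingle', Fintype.prod_pi_mulSingle', mul_inv_cancel]

/-- The torus element with `w` at `i` and `w⁻¹` at `j`. -/
noncomputable def torS (w : Fˣ) (i j : Fin n) : SLn :=
  ⟨Matrix.diagonal fun k => (((Pi.mulSingle i w * Pi.mulSingle j w⁻¹ : Fin n → Fˣ) k : Fˣ) : F), by
    rw [Matrix.det_diagonal, ← Units.coe_prod, prod_mulSingle, Units.val_one]⟩

theorem torS_smul (w : Fˣ) (i j : Fin n) (v : Fin n → F) (k : Fin n) :
    (torS w i j • v) k = (((Pi.mulSingle i w * Pi.mulSingle j w⁻¹ : Fin n → Fˣ) k : Fˣ) : F) * v k := by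
  rw [Matrix.SpecialLinearGroup.smul_def]
  exact Matrix.mulVec_diagonal _ _ _

theorem torS_single (w : Fˣ) (i j k : Fin n) (a : F) :
    torS w i j • (Pi.single k a : Fin n → F) =
      Pi.single k ((((Pi.mulSingle i w * Pi.mulSingle j w⁻¹ : Fin n → Fˣ) k : Fˣ) : F) * a) := by
  funext z
  rw [torS_smul]
  rcases eq_or_ne z k with rfl | h <;> simp [*]

theorem torS_trv (w : Fˣ) (a b : Fin n) {i j : Fin n} (h : i ≠ j) (x : F) :
    torS w a b * trv n F i j x * (torS w a b)⁻¹ = trv n F i j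
      (((((Pi.mulSingle a w * Pi.mulSingle b w⁻¹ : Fin n → Fˣ) i) *
        ((Pi.mulSingle a w * Pi.mulSingle b w⁻¹ : Fin n → Fˣ) j)⁻¹ : Fˣ) : F) * x) := by
  rw [mul_inv_eq_iff_eq_mul]
  refine sl_ext_single fun k => ?_
  rw [mul_smul, mul_smul, trv_smul h, torS_single, trv_smul h, smul_add, torS_single]
  funext z
  rw [Pi.add_apply, Pi.add_apply]
  rcases eq_or_ne k j with rfl | hk
  · rcases eq_or_ne z i with rfl | hz
    · simp [torS_smul, h.symm]; field_simp
    · simp [torS_smul, hz]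
  · simp [hk.symm, torS_smul]

theorem torS_perm (π : alternatingGroup (Fin n)) (w : Fˣ) (i j : Fin n) :
    permHom n F π * torS w i j * (permHom n F π)⁻¹ = torS w ((π : Perm (Fin n)) i) ((π : Perm (Fin n)) j) := by
  rw [mul_inv_eq_iff_eq_mul]
  refine sl_ext_single fun k => ?_
  show (permS n F π * torS w i j) • _ = (torS w _ _ * permS n F π) • _
  rw [mul_smul, mul_smul, torS_single, permS_single, permS_single, torS_single]
  congr 2
  simp [Pi.mulSingle_apply]

theorem torS_comm (w : Fˣ) (i j k l : Fin n) : Commute (torS w i j) (torS w k l) := by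
  refine sl_ext_single fun z => ?_
  rw [mul_smul, mul_smul, torS_single, torS_single, torS_single, torS_single]
  congr 1
  ring

theorem torS_tri (w : Fˣ) {i j k : Fin n} : torS w i j = torS w i k * torS w k j := by
  refine sl_ext_single fun z => ?_
  rw [mul_smul, torS_single, torS_single, torS_single]
  congr 1
  rw [mul_one, mul_one, ← Units.val_mul]
  congr 1
  simp only [Pi.mul_apply]
  have : (Pi.mulSingle k w⁻¹ : Fin n → Fˣ) z * (Pi.mulSingle k w : Fin n → Fˣ) z = 1 := by
    rw [← Pi.mul_apply, ← Pi.mulSingle_mul, inv_mul_cancel, Pi.mulSingle_one, Pi.one_apply]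
  calc _ = (Pi.mulSingle i w : Fin n → Fˣ) z *
        ((Pi.mulSingle k w⁻¹ : Fin n → Fˣ) z * (Pi.mulSingle k w : Fin n → Fˣ) z) *
        (Pi.mulSingle j w⁻¹ : Fin n → Fˣ) z := by rw [this, mul_one]
    _ = _ := by ac_rfl

/-- The Weyl word. -/
noncomputable def tS (i j : Fin n) : SLn := trv n F i j 1 * (trv n F j i 1)⁻¹ * trv n F i j 1

theorem tS_eq {i j : Fin n} (h : i ≠ j) :
    (tS i j : SLn) = trv n F i j 1 * trv n F j i (-1) * trv n F i j 1 := by
  rw [tS, ← Schur.SteinbergSLn.x_neg (trv_rel n) h.symm]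

theorem tS_single {i j : Fin n} (h : i ≠ j) (k : Fin n) (a : F) :
    (tS i j : SLn) • (Pi.single k a : Fin n → F) =
      if k = i then Pi.single j (-a) else if k = j then Pi.single i a else Pi.single k a := by
  rw [tS_eq h, mul_smul, mul_smul, trv_smul h, trv_smul h.symm, trv_smul h]
  funext z
  split_ifs with h1 h2
  · subst h1
    simp only [Pi.add_apply, Pi.single_apply]
    split_ifs <;> simp_all
  · subst h2
    simp only [Pi.add_apply, Pi.single_apply]
    split_ifs <;> simp_all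
  · simp only [Pi.add_apply, Pi.single_apply]
    split_ifs <;> simp_all

theorem torS_weyl (w : Fˣ) {i j : Fin n} (h : i ≠ j) :
    torS w i j * tS i j = trv n F i j (w : F) * trv n F j i (-(w : F)⁻¹) * trv n F i j (w : F) := by
  refine sl_ext_single fun k => ?_
  rw [mul_smul, mul_smul, mul_smul, tS_single h, trv_smul h, trv_smul h.symm, trv_smul h]
  funext z
  split_ifs with h1 h2
  · subst h1
    rw [torS_single]
    simp only [Pi.add_apply, Pi.mul_apply, Pi.mulSingle_apply, Pi.single_apply]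
    split_ifs <;> simp_all
  · subst h2
    rw [torS_single]
    simp only [Pi.add_apply, Pi.mul_apply, Pi.mulSingle_apply, Pi.single_apply]
    split_ifs <;> simp_all
  · rw [torS_single]
    simp only [Pi.add_apply, Pi.mul_apply, Pi.mulSingle_apply, Pi.single_apply]
    split_ifs <;> simp_all

theorem w0_sem (hn : 6 ≤ n) : permHom n F (w0 hn) =
    tS (qt hn 1) (qt hn 0) * tS (qt hn 4) (qt hn 3) * (tS (qt hn 1) (qt hn 4) * tS (qt hn 1) (qt hn 4)) := by
  refine sl_ext_single fun k => ?_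
  show permS n F (w0 hn) • _ = _
  have n01 : qt hn 0 ≠ qt hn 1 := qt_ne hn (by decide)
  have n03 : qt hn 0 ≠ qt hn 3 := qt_ne hn (by decide)
  have n04 : qt hn 0 ≠ qt hn 4 := qt_ne hn (by decide)
  have n13 : qt hn 1 ≠ qt hn 3 := qt_ne hn (by decide)
  have n14 : qt hn 1 ≠ qt hn 4 := qt_ne hn (by decide)
  have n34 : qt hn 3 ≠ qt hn 4 := qt_ne hn (by decide)
  rw [permS_single, mul_smul, mul_smul, mul_smul]
  simp only [w0, Perm.mul_apply]
  by_cases h1 : k = qt hn 1
  · subst h1
    simp [tS_single n01.symm, tS_single n34.symm, tS_single n14, n01, n03, n04, n13, n14, n34,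
      n01.symm, n03.symm, n04.symm, n13.symm, n14.symm, n34.symm, swap_apply_of_ne_of_ne]
  by_cases h4 : k = qt hn 4
  · subst h4
    simp [tS_single n01.symm, tS_single n34.symm, tS_single n14, n01, n03, n04, n13, n14, n34,
      n01.symm, n03.symm, n04.symm, n13.symm, n14.symm, n34.symm, swap_apply_of_ne_of_ne]
  by_cases h0 : k = qt hn 0
  · subst h0
    simp [tS_single n01.symm, tS_single n34.symm, tS_single n14, n01, n03, n04, n13, n14, n34,
      n01.symm, n03.symm, n04.symm, n13.symm, n14.symm, n34.symm, swap_apply_of_ne_of_ne]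
  by_cases h3 : k = qt hn 3
  · subst h3
    simp [tS_single n01.symm, tS_single n34.symm, tS_single n14, n01, n03, n04, n13, n14, n34,
      n01.symm, n03.symm, n04.symm, n13.symm, n14.symm, n34.symm, swap_apply_of_ne_of_ne]
  simp [tS_single n01.symm, tS_single n34.symm, tS_single n14, h0, h1, h3, h4, swap_apply_of_ne_of_ne]

section main

variable {p : ℕ} [Fact p.Prime] [Algebra (ZMod p) F]

theorem polyWord_sem {i j a : Fin n} (h : i ≠ j) (hai : i ≠ a) (haj : j ≠ a) (w : Fˣ) (P : (ZMod p)[X]) :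
    polyWord (trv n F i j 1) (torS w i a) P = trv n F i j (aeval (w : F) P) := by
  let f : Multiplicative F →* SLn :=
    MonoidHom.mk' (fun x => trv n F i j x.toAdd) fun x y => (trv_rel n).add i j h _ _
  refine ShortPresSL2.polyWord_eq (w : F) f (u := trv n F i j 1) (a := torS w i a) rfl (fun r => ?_) P
  show trv n F i j ((w : F) * r) = torS w i a * trv n F i j r * (torS w i a)⁻¹
  rw [torS_trv w i a h]
  congr 2
  simp [h.symm, hai, haj]

/-- The presentation for `n ≥ 6`: four generators, twenty-two relations. -/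
theorem hasPres_big [Finite F] {k : ℕ} (hk : 2 ≤ k) :
    HasPres 4 22 (Matrix.SpecialLinearGroup (Fin (k + 2 + 2)) F) := by
  classical
  haveI : Fintype F := Fintype.ofFinite F
  obtain ⟨p, hchar⟩ := CharP.exists F
  haveI : Fact p.Prime := ⟨CharP.char_is_prime F p⟩
  letI : Algebra (ZMod p) F := ZMod.algebra F p
  obtain ⟨D⟩ := AltData.exists_altData (M := k + 2) (by omega)
  obtain ⟨ω, hωg⟩ := IsCyclic.exists_generator (α := Fˣ)
  have hgenω : ∀ b : F, b ≠ 0 → ∃ m : ℕ, (ω : F) ^ m = b := fun b hb => by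
    obtain ⟨m, hm⟩ := mem_powers_iff_mem_zpowers.2 (hωg (Units.mk0 b hb))
    exact ⟨m, by rw [← Units.val_pow_eq_pow_val]; simpa using congrArg Units.val hm⟩
  obtain ⟨Pz, hPz⟩ := surj_of_gen (p := p) hgenω (ω : F)
  obtain ⟨Qi, hQi⟩ := surj_of_gen (p := p) hgenω (-(ω : F)⁻¹)
  set n := k + 2 + 2 with hn'
  set hn : 6 ≤ k + 2 + 2 := big_le hk
  set G := Matrix.SpecialLinearGroup (Fin (k + 2 + 2)) F
  set P := permHom (k + 2 + 2) F
  let g : Fin 4 → G := ![P (carm (k + 2) 0), P (iota (k + 2) (finRotate (k + 2))),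
    trv (k + 2 + 2) F (qt hn 0) (qt hn 1) 1, torS ω (qt hn 0) (qt hn 1)]
  let l := allRels hk D (ω : F) Pz Qi (FreeGroup.of (0 : Fin 4)) (FreeGroup.of 1) (FreeGroup.of 2) (FreeGroup.of 3)
  have hlen : l.length = 22 := allRels_length hk D _ _ _ _ _ _ _
  rw [← hlen]
  have hpe : ∀ z, pe (P (carm (k + 2) 0)) (P (iota (k + 2) (finRotate (k + 2)))) z = P z := fun z => by
    rw [← map_pe P]; exact congrArg P (AltData.ev_sem z)
  have hou : ∀ i j, i ≠ j → ∀ a : F, orbW hk (P (carm (k + 2) 0)) (P (iota (k + 2) (finRotate (k + 2))))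
      (trv (k + 2 + 2) F (qt hn 0) (qt hn 1) a) i j = trv (k + 2 + 2) F (qt hn i) (qt hn j) a := fun i j hij a => by
    obtain ⟨e0, e1⟩ := mv_spec6 hn (qt_ne hn hij)
    rw [orbW, hpe, permHom_trv _ (qt_ne hn (by decide)), e0, e1]
  have hoh : ∀ i j, i ≠ j → orbW hk (P (carm (k + 2) 0)) (P (iota (k + 2) (finRotate (k + 2))))
      (torS ω (qt hn 0) (qt hn 1)) i j = torS ω (qt hn i) (qt hn j) := fun i j hij => by
    obtain ⟨e0, e1⟩ := mv_spec6 hn (qt_ne hn hij)
    rw [orbW, hpe, torS_perm, e0, e1]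
  have hwt : ∀ i j, i ≠ j → wtW hk (P (carm (k + 2) 0)) (P (iota (k + 2) (finRotate (k + 2))))
      (trv (k + 2 + 2) F (qt hn 0) (qt hn 1) 1) i j = tS (qt hn i) (qt hn j) := fun i j hij => by
    rw [wtW, hou i j hij, hou j i hij.symm, tS]
  refine hasPres_of_list l g ?_ ?_ ?_
  · intro r hr
    have hmem : FreeGroup.lift g r ∈ (allRels hk D (ω : F) Pz Qi (g 0) (g 1) (g 2) (g 3)) := by
      have e := map_allRels hk D (FreeGroup.lift g) (ω : F) Pz Qi (FreeGroup.of (0 : Fin 4)) (FreeGroup.of 1)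
        (FreeGroup.of 2) (FreeGroup.of 3)
      simp only [FreeGroup.lift_apply_of] at e
      rw [← e]
      exact List.mem_map.2 ⟨r, hr, rfl⟩
    revert hmem
    generalize FreeGroup.lift g r = s
    intro hmem
    rcases List.mem_append.1 hmem with hs | hs
    · have e := AltData.map_rels D P (carm (k + 2) 0) (iota (k + 2) (finRotate (k + 2)))
      have hs' : s ∈ (D.rels (carm (k + 2) 0) (iota (k + 2) (finRotate (k + 2)))).map P := by
        rw [e]; exact hs
      obtain ⟨s', hs'', rfl⟩ := List.mem_map.1 hs'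
      rw [D.rels_sem s' hs'', map_one]
    simp only [g, Matrix.cons_val_zero, Matrix.cons_val_one, Matrix.cons_val] at hs
    have n01 : qt hn 0 ≠ qt hn 1 := qt_ne hn (by decide)
    have n02 : qt hn 0 ≠ qt hn 2 := qt_ne hn (by decide)
    have n03 : qt hn 0 ≠ qt hn 3 := qt_ne hn (by decide)
    have n12 : qt hn 1 ≠ qt hn 2 := qt_ne hn (by decide)
    have n13 : qt hn 1 ≠ qt hn 3 := qt_ne hn (by decide)
    have n23 : qt hn 2 ≠ qt hn 3 := qt_ne hn (by decide)
    have st1 : (stab1 k : Perm (Fin (k + 2 + 2))) (qt hn 0) = qt hn 0 ∧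
        (stab1 k : Perm (Fin (k + 2 + 2))) (qt hn 1) = qt hn 1 :=
      ⟨iota_apply_low (Perm.mem_alternatingGroup.1 (carm k 0).2) _ (by simp [qt]),
        iota_apply_low (Perm.mem_alternatingGroup.1 (carm k 0).2) _ (by simp [qt])⟩
    have st2 : (stab2 k : Perm (Fin (k + 2 + 2))) (qt hn 0) = qt hn 0 ∧
        (stab2 k : Perm (Fin (k + 2 + 2))) (qt hn 1) = qt hn 1 :=
      ⟨iota_apply_low (Perm.mem_alternatingGroup.1 (genTwo_mem k)) _ (by simp [qt]),
        iota_apply_low (Perm.mem_alternatingGroup.1 (genTwo_mem k)) _ (by simp [qt])⟩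
    simp only [rootRels, List.mem_cons, List.not_mem_nil, or_false, zeta] at hs
    rcases hs with rfl | rfl | rfl | rfl | rfl | rfl | rfl | rfl | rfl | rfl | rfl | rfl | rfl | rfl <;>
      (try rw [mul_inv_eq_one]) <;> try simp only [hpe]
    · rw [← mul_inv_eq_iff_eq_mul, permHom_trv _ n01, st1.1, st1.2]
    · rw [← mul_inv_eq_iff_eq_mul, permHom_trv _ n01, st2.1, st2.2]
    · rw [← mul_inv_eq_iff_eq_mul, torS_perm, st1.1, st1.2]
    · rw [← mul_inv_eq_iff_eq_mul, torS_perm, st2.1, st2.2]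
    · rw [hoh 0 2 (by decide), hoh 2 1 (by decide), ← torS_tri]
    · rw [hoh 1 2 (by decide)]; exact torS_comm _ _ _ _ _
    · rw [hoh 0 2 (by decide), hoh 1 3 (by decide), ← mul_inv_eq_iff_eq_mul, mul_inv_rev]
      calc torS ω (qt hn 0) (qt hn 2) * torS ω (qt hn 1) (qt hn 3) * trv (k + 2 + 2) F (qt hn 0) (qt hn 1) 1 *
            ((torS ω (qt hn 1) (qt hn 3))⁻¹ * (torS ω (qt hn 0) (qt hn 2))⁻¹)
          = torS ω (qt hn 0) (qt hn 2) * (torS ω (qt hn 1) (qt hn 3) * trv (k + 2 + 2) F (qt hn 0) (qt hn 1) 1 *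
            (torS ω (qt hn 1) (qt hn 3))⁻¹) * (torS ω (qt hn 0) (qt hn 2))⁻¹ := by group
        _ = _ := by
          rw [torS_trv ω _ _ n01, torS_trv ω _ _ n01]
          congr 1
          simp [Pi.mulSingle_apply, n01, n01.symm, n02, n03, n12, n13]
    · rw [hou 0 2 (by decide)]
      exact (trv_rel _).comm _ _ _ _ n01 n02 n02 n01.symm _ _
    · rw [hou 0 2 (by decide), hou 1 2 (by decide), (trv_rel _).chain _ _ _ n01 n12 n02, one_mul]
    · rw [hou 2 3 (by decide)]
      exact (trv_rel _).comm _ _ _ _ n01 n23 n03 n12 _ _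
    · let f : Multiplicative F →* G := MonoidHom.mk' (fun x => trv (k + 2 + 2) F (qt hn 0) (qt hn 1) x.toAdd)
        fun x y => (trv_rel _).add _ _ n01 _ _
      show f (Multiplicative.ofAdd 1) ^ p = 1
      rw [← map_pow, ← ofAdd_nsmul, nsmul_one, CharP.cast_eq_zero, ofAdd_zero, map_one]
    · rw [hoh 0 2 (by decide), polyWord_sem n01 n02 n12, minpoly.aeval]
      exact Schur.SteinbergSLn.x_zero (trv_rel _) n01
    · rw [hoh 0 2 (by decide), polyWord_sem n01 n02 n12, polyWord_sem n01 n02 n12, hPz, hQi,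
        hou 1 0 (by decide), hwt 0 1 (by decide), eq_mul_inv_iff_mul_eq, torS_weyl ω n01]
    · rw [hwt 1 0 (by decide), hwt 4 3 (by decide), hwt 1 4 (by decide), inv_mul_cancel, mul_one]
      exact w0_sem hn
  · -- generation
    set K := Subgroup.closure (Set.range g) with hK
    have hg : ∀ i, g i ∈ K := fun i => Subgroup.subset_closure ⟨i, rfl⟩
    have hP : ∀ z, P z ∈ K := by
      intro z
      have : (Subgroup.closure {z | ∃ i < k + 2, z = carm (k + 2) i}).map P ≤ K := by
        rw [MonoidHom.map_closure, Subgroup.closure_le]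
        rintro _ ⟨_, ⟨i, hi, rfl⟩, rfl⟩
        rw [← AltData.X_sem (M := k + 2) hi, AltData.map_X P]
        exact K.mul_mem (K.mul_mem (K.pow_mem (hg 1) i) (K.zpow_mem (hg 0) _))
          (K.inv_mem (K.pow_mem (hg 1) i))
      rw [closure_carm] at this
      exact this ⟨z, trivial, rfl⟩
    have hA : torS ω (qt hn 0) (qt hn 2) ∈ K := by
      rw [← hoh 0 2 (by decide), orbW, hpe]
      exact K.mul_mem (K.mul_mem (hP _) (hg 3)) (K.inv_mem (hP _))
    have h01 : ∀ a : F, trv (k + 2 + 2) F (qt hn 0) (qt hn 1) a ∈ K := fun a => by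
      obtain ⟨Q, rfl⟩ := surj_of_gen (p := p) hgenω a
      rw [← polyWord_sem (qt_ne hn (show (0 : Fin 6) ≠ 1 by decide)) (qt_ne hn (show (0 : Fin 6) ≠ 2 by decide))
        (qt_ne hn (show (1 : Fin 6) ≠ 2 by decide))]
      exact ShortPresSL2.polyWord_mem (hg 2) hA Q
    refine Cfsg.Agent.Lib.Linear.sl_eq_top_of_transvection_mem _ fun i j hij a => ?_
    obtain ⟨z, e0, e1⟩ := exists_move6 hn hij
    have := K.mul_mem (K.mul_mem (hP z) (h01 a)) (K.inv_mem (hP z))
    rw [permHom_trv _ (qt_ne hn (by decide)), e0, e1, trv, dif_pos hij] at this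
    exact this
  · -- the presented group is an image
    set mk := PresentedGroup.mk {r | r ∈ l} with hmk
    refine exists_surjection hk D (x := mk (FreeGroup.of 0)) (Z := mk (FreeGroup.of 1)) (u := mk (FreeGroup.of 2))
      (h := mk (FreeGroup.of 3)) (ω := (ω : F)) ω.ne_zero hgenω hPz hQi ?_ ?_
    · intro r hr
      rw [← map_allRels] at hr
      obtain ⟨r', hr', rfl⟩ := List.mem_map.1 hr
      exact PresentedGroup.one_of_mem hr'
    · rw [eq_top_iff, ← PresentedGroup.closure_range_of {r | r ∈ l}]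
      refine Subgroup.closure_mono ?_
      rintro _ ⟨i, rfl⟩
      fin_cases i
      exacts [Or.inl rfl, Or.inr (Or.inl rfl), Or.inr (Or.inr (Or.inl rfl)), Or.inr (Or.inr (Or.inr rfl))]

end main

end Cfsg.Agent.Lib.ShortPresSLn
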