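import Mathlib
import Cfsg.Agent.Lib.Linear.Transvection
import Cfsg.Agent.Lib.ShortPresSLn.Family

/-!
# Two generators of `SL_2`
-/

set_option autoImplicit false

namespace Cfsg.Agent.Lib.ShortPresSLn

open Matrix Polynomial

variable {F : Type*} [Field F]

/-- An element of order dividing three. -/
def ordThree (F : Type*) [Field F] : Matrix.SpecialLinearGroup (Fin 2) F :=
  ⟨!![-1, 1; -1, 0], by simp [Matrix.det_fin_two]⟩

/-- A diagonal element. -/
def diagTwo (w : Fˣ) : Matrix.SpecialLinearGroup (Fin 2) F :=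
  ⟨!![(w : F), 0; 0, ((w⁻¹ : Fˣ) : F)], by simp [Matrix.det_fin_two]⟩

/-- The upper transvection. -/
def upTwo (x : F) : Matrix.SpecialLinearGroup (Fin 2) F := ⟨!![1, x; 0, 1], by simp [Matrix.det_fin_two]⟩

/-- The lower transvection. -/
def loTwo (x : F) : Matrix.SpecialLinearGroup (Fin 2) F := ⟨!![1, 0; x, 1], by simp [Matrix.det_fin_two]⟩

/-- `SL_2` of a field with at least four elements is generated by a diagonal element and an element of
order three. -/
theorem exists_two_gen_sl2_diag [Fintype F] (hq : 4 ≤ Fintype.card F) :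
    ∃ w : Fˣ, w * w ≠ 1 ∧
      Subgroup.closure ({diagTwo w, ordThree F} : Set (Matrix.SpecialLinearGroup (Fin 2) F)) = ⊤ := by
  obtain ⟨p, hchar⟩ := CharP.exists F
  haveI : Fact p.Prime := ⟨CharP.char_is_prime F p⟩
  letI : Algebra (ZMod p) F := ZMod.algebra F p
  obtain ⟨w, hw⟩ := IsCyclic.exists_ofOrder_eq_natCard (α := Fˣ)
  have hgen : ∀ b : F, b ≠ 0 → ∃ m : ℕ, (w : F) ^ m = b := fun b hb => by
    have hz : Units.mk0 b hb ∈ Subgroup.zpowers w := by
      rw [Subgroup.eq_top_of_card_eq (Subgroup.zpowers w) (by rw [Nat.card_zpowers, hw])]; trivial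
    obtain ⟨m, hm⟩ := mem_powers_iff_mem_zpowers.2 hz
    exact ⟨m, by rw [← Units.val_pow_eq_pow_val]; simpa using congrArg Units.val hm⟩
  have hw2 : (1 : F) - ((w⁻¹ : Fˣ) : F) * ((w⁻¹ : Fˣ) : F) ≠ 0 := by
    intro e
    have h1 : w⁻¹ * w⁻¹ = 1 := Units.ext (by simpa using (sub_eq_zero.1 e).symm)
    have h2 : orderOf w ∣ 2 := orderOf_dvd_of_pow_eq_one (by
      rw [pow_two, ← _root_.inv_inj, _root_.mul_inv_rev, h1, inv_one])
    rw [hw, Nat.card_units, Nat.card_eq_fintype_card] at h2
    have := Nat.le_of_dvd (by norm_num) h2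
    omega
  refine ⟨w, fun e => hw2 ?_, ?_⟩
  · rw [← Units.val_mul, ← _root_.mul_inv_rev, e, inv_one, Units.val_one, sub_self]
  set H := Subgroup.closure ({diagTwo w, ordThree F} : Set (Matrix.SpecialLinearGroup (Fin 2) F))
  have ha : diagTwo w ∈ H := Subgroup.subset_closure (Or.inl rfl)
  have hb : ordThree F ∈ H := Subgroup.subset_closure (Or.inr rfl)
  have hadd : ∀ x y : F, upTwo (x + y) = upTwo x * upTwo y := fun x y => by
    refine Subtype.ext ?_
    rw [Matrix.SpecialLinearGroup.coe_mul]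
    simp [upTwo, add_comm]
  have hc : upTwo (1 - ((w⁻¹ : Fˣ) : F) * ((w⁻¹ : Fˣ) : F)) ∈ H := by
    have e : ordThree F * diagTwo w * (ordThree F)⁻¹ * diagTwo w =
        upTwo (1 - ((w⁻¹ : Fˣ) : F) * ((w⁻¹ : Fˣ) : F)) := by
      refine Subtype.ext ?_
      simp only [Matrix.SpecialLinearGroup.coe_mul, Matrix.SpecialLinearGroup.coe_inv]
      simp [ordThree, diagTwo, upTwo, Matrix.adjugate_fin_two, Matrix.mul_fin_two]
      field_simp
      ring
    rw [← e]
    exact H.mul_mem (H.mul_mem (H.mul_mem hb ha) (H.inv_mem hb)) ha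
  set c : F := 1 - ((w⁻¹ : Fˣ) : F) * ((w⁻¹ : Fˣ) : F)
  have hup : ∀ x, upTwo x ∈ H := by
    have hm : ∀ m : ℕ, upTwo (((w : F) ^ 2) ^ m * c) ∈ H := by
      intro m
      induction m with
      | zero => simpa using hc
      | succ m ih =>
        have e : diagTwo w * upTwo (((w : F) ^ 2) ^ m * c) * (diagTwo w)⁻¹ = upTwo (((w : F) ^ 2) ^ (m + 1) * c) := by
          refine Subtype.ext ?_
          simp only [Matrix.SpecialLinearGroup.coe_mul, Matrix.SpecialLinearGroup.coe_inv]
          simp [diagTwo, upTwo, Matrix.adjugate_fin_two, Matrix.mul_fin_two]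
          ring
        rw [← e]
        exact H.mul_mem (H.mul_mem ha ih) (H.inv_mem ha)
    have hsurj : Function.Surjective (aeval ((w : F) ^ 2) : (ZMod p)[X] → F) := by
      intro x
      set R := (aeval ((w : F) ^ 2) : (ZMod p)[X] →ₐ[ZMod p] F).range
      have hsq : ∀ y : F, y * y ∈ R := fun y => by
        rcases eq_or_ne y 0 with rfl | hy
        · rw [mul_zero]; exact R.zero_mem
        · obtain ⟨m, rfl⟩ := hgen y hy
          exact ⟨X ^ m, by
            show aeval ((w : F) ^ 2) (X ^ m) = _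
            rw [map_pow, aeval_X, ← pow_mul, ← pow_add, two_mul]⟩
      suffices x ∈ R from this
      by_cases h2 : ringChar F = 2
      · obtain ⟨y, rfl⟩ := FiniteField.isSquare_of_char_two h2 x
        exact hsq y
      · have h2' : (2 : F) ≠ 0 := Ring.two_ne_zero h2
        rw [show x = (x + 1) / 2 * ((x + 1) / 2) - (x - 1) / 2 * ((x - 1) / 2) by field_simp; ring]
        exact R.sub_mem (hsq _) (hsq _)
    intro x
    have := ShortPresSL3.add_closed_induction (p := p) hsurj (fun t => upTwo (t * c) ∈ H)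
      (fun a a' h h' => by simp only [add_mul, hadd]; exact H.mul_mem h h') hm (x / c)
    rwa [div_mul_cancel₀ x hw2] at this
  have hlo : ∀ x, loTwo x ∈ H := fun x => by
    have e : (ordThree F)⁻¹ * upTwo (-x) * ordThree F = loTwo x := by
      refine Subtype.ext ?_
      simp only [Matrix.SpecialLinearGroup.coe_mul, Matrix.SpecialLinearGroup.coe_inv]
      simp [ordThree, upTwo, loTwo, Matrix.adjugate_fin_two, Matrix.mul_fin_two]
    rw [← e]
    exact H.mul_mem (H.mul_mem (H.inv_mem hb) (hup _)) hb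
  refine Cfsg.Agent.Lib.Linear.sl_eq_top_of_transvection_mem H fun i j hij x => ?_
  fin_cases i <;> fin_cases j <;> simp at hij
  · convert hup x using 1
    refine Subtype.ext ?_
    ext a b
    fin_cases a <;> fin_cases b <;> simp [upTwo, Matrix.SpecialLinearGroup.transvection_coe, Matrix.transvection]
  · convert hlo x using 1
    refine Subtype.ext ?_
    ext a b
    fin_cases a <;> fin_cases b <;> simp [loTwo, Matrix.SpecialLinearGroup.transvection_coe, Matrix.transvection]

/-- `SL_2` of a field with at least four elements is generated by two elements. -/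
theorem exists_two_gen_sl2 [Fintype F] (hq : 4 ≤ Fintype.card F) :
    ∃ a b : Matrix.SpecialLinearGroup (Fin 2) F, Subgroup.closure ({a, b} : Set _) = ⊤ := by
  obtain ⟨w, -, h⟩ := exists_two_gen_sl2_diag hq
  exact ⟨_, _, h⟩

end Cfsg.Agent.Lib.ShortPresSLn
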