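import Mathlib
import Cfsg.Agent.Lib.ShortPresSLn.Orbit

/-!
# The transported facts from base relations in both orientations

For `A_4` and `A_5` there are two orbits of ordered quadruples, those of `(0,1,2,3)` and of `(0,1,3,2)`.
-/

set_option autoImplicit false

namespace Cfsg.Agent.Lib.ShortPresSLn

open Equiv

variable {G : Type*} [Group G] {n : ℕ} (hn : 4 ≤ n) (ρ : alternatingGroup (Fin n) →* G)

local notation "p₀" => pt hn 0
local notation "p₁" => pt hn 1
local notation "p₂" => pt hn 2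
local notation "p₃" => pt hn 3

include hn in
theorem exists_orient4 {i j k l : Fin n} (hij : i ≠ j) (hik : i ≠ k) (hil : i ≠ l) (hjk : j ≠ k) (hjl : j ≠ l)
    (hkl : k ≠ l) : ∃ g : alternatingGroup (Fin n), pm g p₀ = i ∧ pm g p₁ = j ∧
      ((pm g p₂ = k ∧ pm g p₃ = l) ∨ (pm g p₂ = l ∧ pm g p₃ = k)) := by
  classical
  let v : Fin 4 → Fin n := ![p₀, p₁, p₂, p₃]
  let w : Fin 4 → Fin n := ![i, j, k, l]
  have hv : Function.Injective v := by
    intro a b e; fin_cases a <;> fin_cases b <;> simp_all [v, pt, Fin.ext_iff]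
  have hw : Function.Injective w := by
    intro a b e; fin_cases a <;> fin_cases b <;> simp_all [w]
  let e : {x // x ∈ Set.range v} ≃ {x // x ∈ Set.range w} :=
    (Equiv.ofInjective v hv).symm.trans (Equiv.ofInjective w hw)
  let σ : Perm (Fin n) := e.extendSubtype
  have hσ : ∀ a, σ (v a) = w a := fun a => by
    show e.extendSubtype (v a) = w a
    rw [extendSubtype_apply_of_mem e (v a) ⟨a, rfl⟩]
    show ((Equiv.ofInjective w hw) ((Equiv.ofInjective v hv).symm ⟨v a, _⟩) : Fin n) = w a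
    rw [Equiv.ofInjective_symm_apply]
    rfl
  have e0 : σ p₀ = i := hσ 0
  have e1 : σ p₁ = j := hσ 1
  have e2 : σ p₂ = k := hσ 2
  have e3 : σ p₃ = l := hσ 3
  by_cases hs : Perm.sign σ = 1
  · exact ⟨⟨σ, Perm.mem_alternatingGroup.2 hs⟩, e0, e1, Or.inl ⟨e2, e3⟩⟩
  refine ⟨⟨σ * swap p₂ p₃, Perm.mem_alternatingGroup.2 ?_⟩, ?_, ?_, Or.inr ⟨?_, ?_⟩⟩
  · rw [map_mul, Perm.sign_swap (pt_ne hn (by decide)),
      (Int.units_eq_one_or (Perm.sign σ)).resolve_left hs]; decide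
  · show (σ * swap p₂ p₃) p₀ = i
    rw [Perm.mul_apply, swap_apply_of_ne_of_ne (pt_ne hn (by decide)) (pt_ne hn (by decide)), e0]
  · show (σ * swap p₂ p₃) p₁ = j
    rw [Perm.mul_apply, swap_apply_of_ne_of_ne (pt_ne hn (by decide)) (pt_ne hn (by decide)), e1]
  · show (σ * swap p₂ p₃) p₂ = l
    rw [Perm.mul_apply, swap_apply_left, e3]
  · show (σ * swap p₂ p₃) p₃ = k
    rw [Perm.mul_apply, swap_apply_right, e2]

include hn in
theorem exists_orient3 {i j k : Fin n} (hij : i ≠ j) (hik : i ≠ k) (hjk : j ≠ k) :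
    ∃ g : alternatingGroup (Fin n), pm g p₀ = i ∧ pm g p₁ = j ∧ (pm g p₂ = k ∨ pm g p₃ = k) := by
  obtain ⟨l, hli, hlj, hlk⟩ := exists_other (i := i) j k hn
  obtain ⟨g, e0, e1, ⟨e2, -⟩ | ⟨-, e3⟩⟩ := exists_orient4 hn hij hik hli.symm hjk hlj.symm hlk.symm
  exacts [⟨g, e0, e1, Or.inl e2⟩, ⟨g, e0, e1, Or.inr e3⟩]

/-- A three-cycle taking `a` to `b`, `b` to `c` and `c` to `a`. -/
def cyc (a b c : Fin n) (hab : a ≠ b) (hbc : b ≠ c) : alternatingGroup (Fin n) :=
  ⟨swap a b * swap b c, Perm.mem_alternatingGroup.2 (by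
    rw [map_mul, Perm.sign_swap hab, Perm.sign_swap hbc]; decide)⟩

/-- The base relations common to all `n ≥ 4`. -/
structure Core (u h : G) : Prop where
  stu : Stable hn ρ u
  sth : Stable hn ρ h
  tplus : h = orb hn ρ h p₀ p₂ * orb hn ρ h p₂ p₁
  tplus' : h = orb hn ρ h p₀ p₃ * orb hn ρ h p₃ p₁
  tc : Commute h (orb hn ρ h p₁ p₂)
  rd : Commute (orb hn ρ h p₀ p₂ * orb hn ρ h p₁ p₃) u
  row : Commute u (orb hn ρ u p₀ p₂)
  col : Commute (orb hn ρ u p₀ p₂) (orb hn ρ u p₁ p₂)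
  chain : u * orb hn ρ u p₁ p₂ = orb hn ρ u p₀ p₂ * orb hn ρ u p₁ p₂ * u
  chain' : u * orb hn ρ u p₁ p₃ = orb hn ρ u p₀ p₃ * orb hn ρ u p₁ p₃ * u
  disj : Commute u (orb hn ρ u p₂ p₃)

namespace Core

variable {hn ρ} {u h : G} (B : Core hn ρ u h)

local notation "U" => orb hn ρ u
local notation "H" => orb hn ρ h

include B

theorem mapU (g : alternatingGroup (Fin n)) {i j : Fin n} (hij : i ≠ j) :
    ρ g * U i j * (ρ g)⁻¹ = U (pm g i) (pm g j) := orb_map hn ρ B.stu g hij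

theorem mapH (g : alternatingGroup (Fin n)) {i j : Fin n} (hij : i ≠ j) :
    ρ g * H i j * (ρ g)⁻¹ = H (pm g i) (pm g j) := orb_map hn ρ B.sth g hij

theorem mapu (g : alternatingGroup (Fin n)) : ρ g * u * (ρ g)⁻¹ = U (pm g p₀) (pm g p₁) := orb_eq hn ρ B.stu g

theorem maph (g : alternatingGroup (Fin n)) : ρ g * h * (ρ g)⁻¹ = H (pm g p₀) (pm g p₁) := orb_eq hn ρ B.sth g

theorem tri {i j k : Fin n} (hij : i ≠ j) (hik : i ≠ k) (hjk : j ≠ k) : H i j = H i k * H k j := by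
  obtain ⟨g, e0, e1, e2 | e3⟩ := exists_orient3 hn hij hik hjk
  · have := congrArg (fun z => ρ g * z * (ρ g)⁻¹) B.tplus
    simp only [← conj_mul] at this
    rwa [B.maph, B.mapH g (pt_ne hn (by decide)), B.mapH g (pt_ne hn (by decide)), e0, e1, e2] at this
  · have := congrArg (fun z => ρ g * z * (ρ g)⁻¹) B.tplus'
    simp only [← conj_mul] at this
    rwa [B.maph, B.mapH g (pt_ne hn (by decide)), B.mapH g (pt_ne hn (by decide)), e0, e1, e3] at this

theorem anti {i j : Fin n} (hij : i ≠ j) : H j i = (H i j)⁻¹ := by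
  obtain ⟨k, hk1, hk2, -⟩ := exists_other (i := i) j j hn
  have e1 := B.tri hk2 hk1 hij.symm
  have e2 := B.tri hk1 hk2 hij
  rw [e1, mul_assoc] at e2
  exact eq_inv_of_mul_eq_one_right (left_eq_mul.1 e2)

theorem cadj {i j k : Fin n} (hij : i ≠ j) (hik : i ≠ k) (hjk : j ≠ k) : Commute (H i j) (H j k) := by
  have key : ∀ g : alternatingGroup (Fin n), Commute (H (pm g p₀) (pm g p₁)) (H (pm g p₁) (pm g p₂)) := fun g => by
    have := stable_conj_out ρ B.tc g
    rwa [B.maph, B.mapH g (pt_ne hn (by decide))] at this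
  obtain ⟨g, e0, e1, e2 | e3⟩ := exists_orient3 hn hij hik hjk
  · have := key g; rwa [e0, e1, e2] at this
  · -- the reversed triple has the first orientation
    obtain ⟨s0, -, s2, sz⟩ := swap_pair_apply (pt_ne hn (show (0 : Fin 4) ≠ 3 by decide) : p₀ ≠ p₃)
      (pt_ne hn (show (0 : Fin 4) ≠ 2 by decide)) (pt_ne hn (show (3 : Fin 4) ≠ 2 by decide))
    have h := key (g * cyc p₀ p₃ p₂ (pt_ne hn (by decide)) (pt_ne hn (by decide)))
    simp only [pm, cyc, Subgroup.coe_mul, Perm.mul_apply] at h s0 s2 sz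
    have s1 := sz p₁ (pt_ne hn (by decide)) (pt_ne hn (by decide)) (pt_ne hn (by decide))
    rw [s0, s1, s2] at h
    simp only [pm] at e0 e1 e3
    rw [e0, e1, e3, B.anti hjk, B.anti hij] at h
    simpa using h.inv_inv.symm

theorem torus : TorusFacts hn ρ h := ⟨B.tri, B.cadj⟩

theorem hcomm {i j k l : Fin n} (hij : i ≠ j) (hkl : k ≠ l) : Commute (H i j) (H k l) := B.torus.hcomm hij hkl

theorem fixd {i j a b : Fin n} (hij : i ≠ j) (hia : i ≠ a) (hib : i ≠ b) (hja : j ≠ a) (hjb : j ≠ b)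
    (hab : a ≠ b) : Commute (H i a * H j b) (U i j) := by
  obtain ⟨g, e0, e1, e⟩ := exists_orient4 hn hij hia hib hja hjb hab
  have := stable_conj_out ρ B.rd g
  rw [← conj_mul, B.mapH g (pt_ne hn (by decide)), B.mapH g (pt_ne hn (by decide)), B.mapu, e0, e1] at this
  rcases e with ⟨e2, e3⟩ | ⟨e2, e3⟩
  · rwa [e2, e3] at this
  · rw [e2, e3] at this
    have e' : H i b * H j a = H i a * H j b := by
      rw [B.tri hib hia hab.symm, B.tri hja hjb hab]
      calc H i a * H a b * (H j b * H b a) = H i a * (H a b * H j b) * H b a := by group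
        _ = H i a * H j b * (H a b * H b a) := by rw [(B.hcomm hab hjb).eq]; group
        _ = _ := by rw [B.anti hab, mul_inv_cancel, mul_one]
    rwa [e'] at this

theorem rowAll {i j k : Fin n} (hij : i ≠ j) (hik : i ≠ k) (hjk : j ≠ k) : Commute (U i j) (U i k) := by
  have key : ∀ g : alternatingGroup (Fin n), Commute (U (pm g p₀) (pm g p₁)) (U (pm g p₀) (pm g p₂)) := fun g => by
    have := stable_conj_out ρ B.row g
    rwa [B.mapu, B.mapU g (pt_ne hn (by decide))] at this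
  obtain ⟨g, e0, e1, e2 | e3⟩ := exists_orient3 hn hij hik hjk
  · have := key g; rwa [e0, e1, e2] at this
  · obtain ⟨s1, -, s2, sz⟩ := swap_pair_apply (pt_ne hn (show (1 : Fin 4) ≠ 3 by decide) : p₁ ≠ p₃)
      (pt_ne hn (show (1 : Fin 4) ≠ 2 by decide)) (pt_ne hn (show (3 : Fin 4) ≠ 2 by decide))
    have h := key (g * cyc p₁ p₃ p₂ (pt_ne hn (by decide)) (pt_ne hn (by decide)))
    simp only [pm, cyc, Subgroup.coe_mul, Perm.mul_apply] at h s1 s2 sz
    have s0 := sz p₀ (pt_ne hn (by decide)) (pt_ne hn (by decide)) (pt_ne hn (by decide))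
    rw [s0, s1, s2] at h
    simp only [pm] at e0 e1 e3
    rw [e0, e1, e3] at h
    exact h.symm

theorem colAll {i j k : Fin n} (hij : i ≠ j) (hik : i ≠ k) (hjk : j ≠ k) : Commute (U i k) (U j k) := by
  have key : ∀ g : alternatingGroup (Fin n), Commute (U (pm g p₀) (pm g p₂)) (U (pm g p₁) (pm g p₂)) := fun g => by
    have := stable_conj_out ρ B.col g
    rwa [B.mapU g (pt_ne hn (by decide)), B.mapU g (pt_ne hn (by decide))] at this
  obtain ⟨g, e0, e1, e2 | e3⟩ := exists_orient3 hn hij hik hjk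
  · have := key g; rwa [e0, e1, e2] at this
  · let r : alternatingGroup (Fin n) := ⟨swap p₀ p₁ * swap p₂ p₃, Perm.mem_alternatingGroup.2 (by
      rw [map_mul, Perm.sign_swap (pt_ne hn (by decide)), Perm.sign_swap (pt_ne hn (by decide))]; decide)⟩
    have h := key (g * r)
    simp only [pm, r, Subgroup.coe_mul, Perm.mul_apply] at h e0 e1 e3
    rw [swap_apply_of_ne_of_ne (pt_ne hn (show (0 : Fin 4) ≠ 2 by decide)) (pt_ne hn (show (0 : Fin 4) ≠ 3 by decide)),
      swap_apply_of_ne_of_ne (pt_ne hn (show (1 : Fin 4) ≠ 2 by decide)) (pt_ne hn (show (1 : Fin 4) ≠ 3 by decide)),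
      swap_apply_left, swap_apply_left, swap_apply_right,
      swap_apply_of_ne_of_ne (pt_ne hn (show (3 : Fin 4) ≠ 0 by decide)) (pt_ne hn (show (3 : Fin 4) ≠ 1 by decide)),
      e0, e1, e3] at h
    exact h.symm

theorem chainAll {i j k : Fin n} (hij : i ≠ j) (hik : i ≠ k) (hjk : j ≠ k) :
    U i j * U j k = U i k * U j k * U i j := by
  obtain ⟨g, e0, e1, e2 | e3⟩ := exists_orient3 hn hij hik hjk
  · have := congrArg (fun z => ρ g * z * (ρ g)⁻¹) B.chain
    simp only [← conj_mul] at this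
    rwa [B.mapu, B.mapU g (pt_ne hn (by decide)), B.mapU g (pt_ne hn (by decide)), e0, e1, e2] at this
  · have := congrArg (fun z => ρ g * z * (ρ g)⁻¹) B.chain'
    simp only [← conj_mul] at this
    rwa [B.mapu, B.mapU g (pt_ne hn (by decide)), B.mapU g (pt_ne hn (by decide)), e0, e1, e3] at this

/-- All the facts, given the two remaining base relations. -/
theorem facts (fo : Commute (H p₂ p₃) u) (disj' : Commute u (U p₃ p₂)) : Facts hn ρ u h where
  stu := B.stu
  sth := B.sth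
  tri := B.tri
  cadj := B.cadj
  fixd := B.fixd
  fixOut := by
    intro i j a b hij hia hib hja hjb hab
    obtain ⟨g, e0, e1, e⟩ := exists_orient4 hn hij hia hib hja hjb hab
    have := stable_conj_out ρ fo g
    rw [B.mapH g (pt_ne hn (by decide)), B.mapu, e0, e1] at this
    rcases e with ⟨e2, e3⟩ | ⟨e2, e3⟩
    · rwa [e2, e3] at this
    · rw [e2, e3, B.anti hab] at this
      simpa using this.inv_left
  rowAll := B.rowAll
  colAll := B.colAll
  chainAll := B.chainAll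
  disjAll := by
    intro i j k l hij hik hil hjk hjl hkl
    obtain ⟨g, e0, e1, ⟨e2, e3⟩ | ⟨e2, e3⟩⟩ := exists_orient4 hn hij hik hil hjk hjl hkl
    · have := stable_conj_out ρ B.disj g
      rwa [B.mapu, B.mapU g (pt_ne hn (by decide)), e0, e1, e2, e3] at this
    · have := stable_conj_out ρ disj' g
      rwa [B.mapu, B.mapU g (pt_ne hn (by decide)), e0, e1, e2, e3] at this

end Core

section five

variable (h5 : 5 ≤ n)

/-- The fifth point. -/
def pt4 : Fin n := ⟨4, by omega⟩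

variable {hn ρ} {u h : G}

include h5 in
theorem pt_ne_pt4 (a : Fin 4) : pt hn a ≠ pt4 h5 := fun e => by
  have := congrArg (fun z : Fin n => z.val) e
  simp only [pt, pt4] at this
  omega

/-- The cycle of `2, 3, 4`. -/
def cyc5 (hn : 4 ≤ n) (h5 : 5 ≤ n) : alternatingGroup (Fin n) :=
  cyc (pt hn 2) (pt hn 3) (pt4 h5) (pt_ne hn (by decide)) (pt_ne_pt4 h5 3)

include h5 in
/-- For five or more points the second orientations follow. -/
theorem facts_five (stu : Stable hn ρ u) (sth : Stable hn ρ h)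
    (tplus : h = orb hn ρ h p₀ p₂ * orb hn ρ h p₂ p₁) (tc : Commute h (orb hn ρ h p₁ p₂))
    (rd : Commute (orb hn ρ h p₀ p₂ * orb hn ρ h p₁ p₃) u) (row : Commute u (orb hn ρ u p₀ p₂))
    (col : Commute (orb hn ρ u p₀ p₂) (orb hn ρ u p₁ p₂))
    (chain : u * orb hn ρ u p₁ p₂ = orb hn ρ u p₀ p₂ * orb hn ρ u p₁ p₂ * u)
    (disj : Commute u (orb hn ρ u p₂ p₃)) : Facts hn ρ u h := by
  obtain ⟨c2, c3, c4, cz⟩ := swap_pair_apply (pt_ne hn (show (2 : Fin 4) ≠ 3 by decide) : p₂ ≠ p₃)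
    (pt_ne_pt4 h5 2) (pt_ne_pt4 h5 3)
  set s := cyc5 hn h5
  have s2 : pm s p₂ = p₃ := c2
  have s3 : pm s p₃ = pt4 h5 := c3
  have s4 : pm s (pt4 h5) = p₂ := c4
  have s0 : pm s p₀ = p₀ := cz p₀ (pt_ne hn (by decide)) (pt_ne hn (by decide)) (pt_ne_pt4 h5 0)
  have s1 : pm s p₁ = p₁ := cz p₁ (pt_ne hn (by decide)) (pt_ne hn (by decide)) (pt_ne_pt4 h5 1)
  have B : Core hn ρ u h := by
    refine ⟨stu, sth, tplus, ?_, tc, rd, row, col, chain, ?_, disj⟩
    · have := congrArg (fun z => ρ s * z * (ρ s)⁻¹) tplus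
      simp only [← conj_mul] at this
      rwa [orb_eq hn ρ sth, orb_map hn ρ sth s (pt_ne hn (by decide)), orb_map hn ρ sth s (pt_ne hn (by decide)),
        show (s : Perm (Fin n)) p₀ = p₀ from s0, show (s : Perm (Fin n)) p₁ = p₁ from s1,
        show (s : Perm (Fin n)) p₂ = p₃ from s2, orb_base hn ρ sth] at this
    · have := congrArg (fun z => ρ s * z * (ρ s)⁻¹) chain
      simp only [← conj_mul] at this
      rwa [orb_eq hn ρ stu, orb_map hn ρ stu s (pt_ne hn (by decide)), orb_map hn ρ stu s (pt_ne hn (by decide)),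
        show (s : Perm (Fin n)) p₀ = p₀ from s0, show (s : Perm (Fin n)) p₁ = p₁ from s1,
        show (s : Perm (Fin n)) p₂ = p₃ from s2, orb_base hn ρ stu] at this
  have n01 : p₀ ≠ p₁ := pt_ne hn (by decide)
  have n02 : p₀ ≠ p₂ := pt_ne hn (by decide)
  have n03 : p₀ ≠ p₃ := pt_ne hn (by decide)
  have n12 : p₁ ≠ p₂ := pt_ne hn (by decide)
  have n13 : p₁ ≠ p₃ := pt_ne hn (by decide)
  have n23 : p₂ ≠ p₃ := pt_ne hn (by decide)
  have m0 : p₀ ≠ pt4 h5 := pt_ne_pt4 h5 0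
  have m1 : p₁ ≠ pt4 h5 := pt_ne_pt4 h5 1
  have m2 : p₂ ≠ pt4 h5 := pt_ne_pt4 h5 2
  have m3 : p₃ ≠ pt4 h5 := pt_ne_pt4 h5 3
  refine B.facts ?_ ?_
  · have h1 := (B.fixd n01 n03 m0 n13 m1 m3).mul_left (B.fixd n01 n02 m0 n12 m1 m2).inv_left
    rw [orb_base hn ρ stu] at h1
    have e : orb hn ρ h p₀ p₃ * orb hn ρ h p₁ (pt4 h5) * (orb hn ρ h p₀ p₂ * orb hn ρ h p₁ (pt4 h5))⁻¹ =
        orb hn ρ h p₂ p₃ := by
      rw [_root_.mul_inv_rev, mul_assoc, mul_inv_cancel_left, ← B.anti n02, (B.hcomm n03 n02.symm).eq,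
        ← B.tri n23 n02.symm n03.symm]
    rwa [e] at h1
  · have d34 : Commute u (orb hn ρ u p₃ (pt4 h5)) := by
      have := stable_conj_out ρ disj s
      rwa [B.mapu, B.mapU s n23, s0, s1, s2, s3, orb_base hn ρ stu] at this
    have d42 : Commute u (orb hn ρ u (pt4 h5) p₂) := by
      have := stable_conj_out ρ d34 s
      rwa [B.mapu, B.mapU s m3, s0, s1, s3, s4, orb_base hn ρ stu] at this
    have e : orb hn ρ u p₃ p₂ = orb hn ρ u p₃ (pt4 h5) * orb hn ρ u (pt4 h5) p₂ *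
        (orb hn ρ u p₃ (pt4 h5))⁻¹ * (orb hn ρ u (pt4 h5) p₂)⁻¹ := by
      rw [B.chainAll m3 n23.symm m2.symm]; group
    rw [e]
    exact ((d34.mul_right d42).mul_right d34.inv_right).mul_right d42.inv_right

end five

end Cfsg.Agent.Lib.ShortPresSLn
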