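import Mathlib
import Cfsg.Agent.Lib.ShortPresSLn.Small
import Cfsg.Agent.Lib.ShortPresSLn.Sem

/-!
# The presentations of `SL_4` and `SL_5`
-/

set_option autoImplicit false

namespace Cfsg.Agent.Lib.ShortPresSLn

open Equiv Polynomial
open ShortPresSL2 (polyWord)
open Schur.SteinbergSLn (trv trv_rel)

section relators

variable {G : Type*} [Group G] {k : ℕ} (hn : 4 ≤ k + 2) {F : Type*} [Field F] {p : ℕ} [Fact p.Prime]
  [Algebra (ZMod p) F]

/-- The conjugate of an ordered pair, as a word in a Carmichael family. -/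
noncomputable def oW (y : ℕ → G) (v : G) (i j : Fin 4) : G :=
  AltData.ev y (mv hn (pt hn i) (pt hn j)) * v * (AltData.ev y (mv hn (pt hn i) (pt hn j)))⁻¹

/-- A Weyl word. -/
noncomputable def tW (y : ℕ → G) (u : G) (i j : Fin 4) : G :=
  oW hn y u i j * (oW hn y u j i)⁻¹ * oW hn y u i j

/-- The eleven common relators. -/
noncomputable def coreRels (ω : F) (Pz Qi : (ZMod p)[X]) (y : ℕ → G) (u h : G) : List G :=
  [h * (oW hn y h 0 2 * oW hn y h 2 1)⁻¹,
    h * oW hn y h 1 2 * (oW hn y h 1 2 * h)⁻¹,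
    oW hn y h 0 2 * oW hn y h 1 3 * u * (u * (oW hn y h 0 2 * oW hn y h 1 3))⁻¹,
    u * oW hn y u 0 2 * (oW hn y u 0 2 * u)⁻¹,
    oW hn y u 0 2 * oW hn y u 1 2 * (oW hn y u 1 2 * oW hn y u 0 2)⁻¹,
    u * oW hn y u 1 2 * (oW hn y u 0 2 * oW hn y u 1 2 * u)⁻¹,
    u * oW hn y u 2 3 * (oW hn y u 2 3 * u)⁻¹,
    u ^ p,
    polyWord u (oW hn y h 0 2) (minpoly (ZMod p) ω),
    h * (polyWord u (oW hn y h 0 2) Pz * oW hn y (polyWord u (oW hn y h 0 2) Qi) 1 0 *
      polyWord u (oW hn y h 0 2) Pz * (tW hn y u 0 1)⁻¹)⁻¹,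
    AltData.ev y (carm k 0) * (tW hn y u 1 0 * tW hn y u 2 1)⁻¹]

/-- The second orientations, needed for four points. -/
noncomputable def orientRels (y : ℕ → G) (u h : G) : List G :=
  [h * (oW hn y h 0 3 * oW hn y h 3 1)⁻¹,
    oW hn y h 2 3 * u * (u * oW hn y h 2 3)⁻¹,
    u * oW hn y u 1 3 * (oW hn y u 0 3 * oW hn y u 1 3 * u)⁻¹,
    u * oW hn y u 3 2 * (oW hn y u 3 2 * u)⁻¹]

/-- The stabiliser relators for one element. -/
noncomputable def stabRels (s : alternatingGroup (Fin (k + 2))) (y : ℕ → G) (u h : G) : List G :=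
  [AltData.ev y s * u * (u * AltData.ev y s)⁻¹, AltData.ev y s * h * (h * AltData.ev y s)⁻¹]

section maps

variable {K : Type*} [Group K] (f : G →* K) (y : ℕ → G) (u h : G)

theorem map_oW (v : G) (i j : Fin 4) : f (oW hn y v i j) = oW hn (f ∘ y) (f v) i j := by
  simp [oW, AltData.map_ev]; rfl

theorem map_coreRels (ω : F) (Pz Qi : (ZMod p)[X]) :
    (coreRels hn ω Pz Qi y u h).map f = coreRels hn ω Pz Qi (f ∘ y) (f u) (f h) := by
  simp [coreRels, tW, map_oW, AltData.map_ev, ShortPresSL2.map_polyWord]; rfl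

theorem map_orientRels : (orientRels hn y u h).map f = orientRels hn (f ∘ y) (f u) (f h) := by
  simp [orientRels, map_oW]

theorem map_stabRels (s : alternatingGroup (Fin (k + 2))) :
    (stabRels s y u h).map f = stabRels s (f ∘ y) (f u) (f h) := by
  simp [stabRels, AltData.map_ev, Function.comp_def]

end maps

theorem oW_hom {y : ℕ → G} (ρ : alternatingGroup (Fin (k + 2)) →* G) (hρ : ∀ i < k, ρ (carm k i) = y i)
    (v : G) (i j : Fin 4) : oW hn y v i j = orb hn ρ v (pt hn i) (pt hn j) := by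
  simp [oW, orb, AltData.ev_eq_hom ρ hρ]

/-- The core relators, read through a homomorphism of the alternating group. -/
theorem core_of_rels {y : ℕ → G} {u h : G} {ω : F} {Pz Qi : (ZMod p)[X]}
    (ρ : alternatingGroup (Fin (k + 2)) →* G) (hρ : ∀ i < k, ρ (carm k i) = y i)
    (hr : ∀ r ∈ coreRels hn ω Pz Qi y u h, r = 1) :
    h = orb hn ρ h (pt hn 0) (pt hn 2) * orb hn ρ h (pt hn 2) (pt hn 1) ∧
    Commute h (orb hn ρ h (pt hn 1) (pt hn 2)) ∧
    Commute (orb hn ρ h (pt hn 0) (pt hn 2) * orb hn ρ h (pt hn 1) (pt hn 3)) u ∧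
    Commute u (orb hn ρ u (pt hn 0) (pt hn 2)) ∧
    Commute (orb hn ρ u (pt hn 0) (pt hn 2)) (orb hn ρ u (pt hn 1) (pt hn 2)) ∧
    u * orb hn ρ u (pt hn 1) (pt hn 2) =
      orb hn ρ u (pt hn 0) (pt hn 2) * orb hn ρ u (pt hn 1) (pt hn 2) * u ∧
    Commute u (orb hn ρ u (pt hn 2) (pt hn 3)) ∧
    u ^ p = 1 ∧
    polyWord u (orb hn ρ h (pt hn 0) (pt hn 2)) (minpoly (ZMod p) ω) = 1 ∧
    h = polyWord u (orb hn ρ h (pt hn 0) (pt hn 2)) Pz *
      orb hn ρ (polyWord u (orb hn ρ h (pt hn 0) (pt hn 2)) Qi) (pt hn 1) (pt hn 0) *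
      polyWord u (orb hn ρ h (pt hn 0) (pt hn 2)) Pz * (wt hn ρ u (pt hn 0) (pt hn 1))⁻¹ ∧
    ρ (carm k 0) = wt hn ρ u (pt hn 1) (pt hn 0) * wt hn ρ u (pt hn 2) (pt hn 1) := by
  simp only [coreRels, tW, oW_hom hn ρ hρ, AltData.ev_eq_hom ρ hρ, List.mem_cons, List.not_mem_nil, or_false,
    forall_eq_or_imp, forall_eq, mul_inv_eq_one] at hr
  exact hr

/-- A group generated by a Carmichael family, `u` and `h` with these facts is an image of `SL_n`. -/
theorem small_surjection [Finite F] (hk : 2 ≤ k) {y : ℕ → G} {u h : G} {ω : F}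
    (ρ : alternatingGroup (Fin (k + 2)) →* G) (hρ : ∀ i < k, ρ (carm k i) = y i)
    (B : Facts hn ρ u h) (hω : ω ≠ 0) (hgenω : ∀ b : F, b ≠ 0 → ∃ m : ℕ, ω ^ m = b)
    (hup : u ^ p = 1) (hmin : polyWord u (orb hn ρ h (pt hn 0) (pt hn 2)) (minpoly (ZMod p) ω) = 1)
    {Pz Qi : (ZMod p)[X]}
    (hw : h = polyWord u (orb hn ρ h (pt hn 0) (pt hn 2)) Pz *
      orb hn ρ (polyWord u (orb hn ρ h (pt hn 0) (pt hn 2)) Qi) (pt hn 1) (pt hn 0) *
      polyWord u (orb hn ρ h (pt hn 0) (pt hn 2)) Pz * (wt hn ρ u (pt hn 0) (pt hn 1))⁻¹)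
    (hkill : ρ (carm k 0) = wt hn ρ u (pt hn 1) (pt hn 0) * wt hn ρ u (pt hn 2) (pt hn 1))
    (hgen : Subgroup.closure ({g | ∃ i < k, g = y i} ∪ {u, h}) = ⊤) :
    ∃ φ : Matrix.SpecialLinearGroup (Fin (k + 2)) F →* G, Function.Surjective φ := by
  obtain ⟨φ, RD⟩ := (FieldBase.mk B hω hgenω).exists_range (p := p) hup hmin
  refine ⟨φ, MonoidHom.range_eq_top.1 ?_⟩
  set K := φ.range
  have h0 : ρ (carm k 0) ∈ K := hkill ▸ K.mul_mem (RD.weyl (pt_ne hn (by decide))) (RD.weyl (pt_ne hn (by decide)))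
  have hy : ∀ i < k, y i ∈ K := by
    intro i hi
    rw [← hρ i hi]
    rcases Nat.eq_zero_or_pos i with rfl | hpos
    · exact h0
    set a : Fin (k + 2) := ⟨i + 2, by omega⟩
    set b : Fin (k + 2) := ⟨2, by omega⟩
    have hba : b ≠ a := by simp [a, b, Fin.ext_iff]; omega
    have hb0 : b ≠ 0 := by simp [b, Fin.ext_iff]
    have hb1 : b ≠ 1 := by simp [b, Fin.ext_iff]
    have ha0 : a ≠ 0 := by simp [a, Fin.ext_iff]
    have ha1 : a ≠ 1 := by simp [a, Fin.ext_iff]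
    let g : alternatingGroup (Fin (k + 2)) := ⟨swap 0 1 * swap b a, Perm.mem_alternatingGroup.2 (by
      rw [map_mul, Perm.sign_swap (by simp), Perm.sign_swap hba]; decide)⟩
    have e : g * carm k 0 * g⁻¹ = (carm k i)⁻¹ := by
      refine Subtype.ext ?_
      simp only [Subgroup.coe_mul, Subgroup.coe_inv, carm, g]
      rw [carmPerm, dif_pos (show 0 < k by omega), carmPerm, dif_pos hi]
      show (swap 0 1 * swap b a) * (swap 0 1 * swap 1 b) * (swap 0 1 * swap b a)⁻¹ = (swap 0 1 * swap 1 a)⁻¹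
      rw [swap_pair_conj, Perm.mul_apply, Perm.mul_apply, Perm.mul_apply,
        swap_apply_of_ne_of_ne hb0.symm ha0.symm, swap_apply_left, swap_apply_of_ne_of_ne hb1.symm ha1.symm,
        swap_apply_right, swap_apply_left, swap_apply_of_ne_of_ne ha0 ha1, ← swap_pair_inv ha0 ha1,
        inv_inv]
    have := RD.norm g _ h0
    rw [← map_inv, ← map_mul, ← map_mul, e, map_inv] at this
    simpa using K.inv_mem this
  rw [eq_top_iff, ← hgen, Subgroup.closure_le]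
  rintro z (⟨i, hi, rfl⟩ | rfl | rfl)
  · exact hy i hi
  · exact RD.base B.stu
  · rw [hw]
    exact K.mul_mem (K.mul_mem (K.mul_mem (RD.word Pz) (RD.orbWord Qi (pt_ne hn (by decide)))) (RD.word Pz))
      (K.inv_mem (RD.weyl (pt_ne hn (by decide))))

end relators

section sem

variable {F : Type*} [Field F] {k : ℕ} (hn : 4 ≤ k + 2)

theorem ev_perm (z : alternatingGroup (Fin (k + 2))) :
    AltData.ev (fun i => permHom (k + 2) F (carm k i)) z = permHom (k + 2) F z :=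
  AltData.ev_eq_hom _ (fun _ _ => rfl) z

theorem oW_trv {i j : Fin 4} (hij : i ≠ j) (a : F) :
    oW hn (fun i => permHom (k + 2) F (carm k i)) (trv (k + 2) F (pt hn 0) (pt hn 1) a) i j =
      trv (k + 2) F (pt hn i) (pt hn j) a := by
  obtain ⟨e0, e1⟩ := mv_spec hn (pt_ne hn hij)
  rw [oW, ev_perm, permHom_trv _ (pt_ne hn (by decide)), e0, e1]

theorem oW_tor (w : Fˣ) {i j : Fin 4} (hij : i ≠ j) :
    oW hn (fun i => permHom (k + 2) F (carm k i)) (torS w (pt hn 0) (pt hn 1)) i j =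
      torS w (pt hn i) (pt hn j) := by
  obtain ⟨e0, e1⟩ := mv_spec hn (pt_ne hn hij)
  rw [oW, ev_perm, torS_perm, e0, e1]

theorem carm_zero_sem (hk : 2 ≤ k) :
    permHom (k + 2) F (carm k 0) = tS (pt hn 1) (pt hn 0) * tS (pt hn 2) (pt hn 1) := by
  refine Cfsg.Agent.Lib.Linear.sl_ext_single fun z => ?_
  show permS (k + 2) F (carm k 0) • _ = _
  have n01 : pt hn 0 ≠ pt hn 1 := pt_ne hn (by decide)
  have n02 : pt hn 0 ≠ pt hn 2 := pt_ne hn (by decide)
  have n12 : pt hn 1 ≠ pt hn 2 := pt_ne hn (by decide)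
  have ec : (carm k 0 : Perm (Fin (k + 2))) = swap (pt hn 0) (pt hn 1) * swap (pt hn 1) (pt hn 2) := by
    show carmPerm k 0 = _
    rw [carmPerm, dif_pos (show 0 < k by omega)]
    rfl
  obtain ⟨a0, a1, a2, az⟩ := swap_pair_apply n01 n02 n12
  rw [permS_single, mul_smul, ec]
  by_cases h0 : z = pt hn 0
  · subst h0; rw [a0]; simp [tS_single n01.symm, tS_single n12.symm, n01, n02, n12]
  by_cases h1 : z = pt hn 1
  · subst h1; rw [a1]; simp [tS_single n01.symm, tS_single n12.symm, n01.symm, n02.symm, n12, n12.symm]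
  by_cases h2 : z = pt hn 2
  · subst h2; rw [a2]; simp [tS_single n01.symm, tS_single n12.symm, n01, n02, n12, n12.symm, n02.symm]
  rw [az z h0 h1 h2]; simp [tS_single n01.symm, tS_single n12.symm, h0, h1, h2]

variable {p : ℕ} [Fact p.Prime] [Algebra (ZMod p) F]

theorem coreRels_sem (hk : 2 ≤ k) (w : Fˣ) {Pz Qi : (ZMod p)[X]} (hPz : aeval (w : F) Pz = w)
    (hQi : aeval (w : F) Qi = -(w : F)⁻¹) :
    ∀ r ∈ coreRels hn (w : F) Pz Qi (fun i => permHom (k + 2) F (carm k i))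
      (trv (k + 2) F (pt hn 0) (pt hn 1) 1) (torS w (pt hn 0) (pt hn 1)), r = 1 := by
  have n01 : pt hn 0 ≠ pt hn 1 := pt_ne hn (by decide)
  have n02 : pt hn 0 ≠ pt hn 2 := pt_ne hn (by decide)
  have n03 : pt hn 0 ≠ pt hn 3 := pt_ne hn (by decide)
  have n12 : pt hn 1 ≠ pt hn 2 := pt_ne hn (by decide)
  have n13 : pt hn 1 ≠ pt hn 3 := pt_ne hn (by decide)
  have n23 : pt hn 2 ≠ pt hn 3 := pt_ne hn (by decide)
  haveI : CharP F p := charP_of_injective_algebraMap (algebraMap (ZMod p) F).injective p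
  simp only [coreRels, tW, List.mem_cons, List.not_mem_nil, or_false, forall_eq_or_imp, forall_eq]
  refine ⟨?_, ?_, ?_, ?_, ?_, ?_, ?_, ?_, ?_, ?_, ?_⟩ <;> (try rw [mul_inv_eq_one])
  · rw [oW_tor hn w (by decide), oW_tor hn w (by decide), ← torS_tri]
  · rw [oW_tor hn w (by decide)]; exact torS_comm _ _ _ _ _
  · rw [oW_tor hn w (by decide), oW_tor hn w (by decide), ← mul_inv_eq_iff_eq_mul, _root_.mul_inv_rev]
    calc torS w (pt hn 0) (pt hn 2) * torS w (pt hn 1) (pt hn 3) * trv (k + 2) F (pt hn 0) (pt hn 1) 1 *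
          ((torS w (pt hn 1) (pt hn 3))⁻¹ * (torS w (pt hn 0) (pt hn 2))⁻¹)
        = torS w (pt hn 0) (pt hn 2) * (torS w (pt hn 1) (pt hn 3) * trv (k + 2) F (pt hn 0) (pt hn 1) 1 *
          (torS w (pt hn 1) (pt hn 3))⁻¹) * (torS w (pt hn 0) (pt hn 2))⁻¹ := by group
      _ = _ := by
        rw [torS_trv w _ _ n01, torS_trv w _ _ n01]
        congr 1
        simp [Pi.mulSingle_apply, n01, n01.symm, n02, n03, n12, n13]
  · rw [oW_trv hn (by decide)]
    exact (trv_rel _).comm _ _ _ _ n01 n02 n02 n01.symm _ _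
  · rw [oW_trv hn (by decide), oW_trv hn (by decide)]
    exact (trv_rel _).comm _ _ _ _ n02 n12 n02 n12.symm _ _
  · rw [oW_trv hn (by decide), oW_trv hn (by decide), (trv_rel _).chain _ _ _ n01 n12 n02, one_mul]
  · rw [oW_trv hn (by decide)]
    exact (trv_rel _).comm _ _ _ _ n01 n23 n03 n12 _ _
  · let f : Multiplicative F →* Matrix.SpecialLinearGroup (Fin (k + 2)) F :=
      MonoidHom.mk' (fun x => trv (k + 2) F (pt hn 0) (pt hn 1) x.toAdd) fun x y => (trv_rel _).add _ _ n01 _ _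
    show f (Multiplicative.ofAdd 1) ^ p = 1
    rw [← map_pow, ← ofAdd_nsmul, nsmul_one, CharP.cast_eq_zero, ofAdd_zero, map_one]
  · rw [oW_tor hn w (by decide), polyWord_sem n01 n02 n12, minpoly.aeval]
    exact Schur.SteinbergSLn.x_zero (trv_rel _) n01
  · rw [oW_tor hn w (show (0 : Fin 4) ≠ 2 by decide), polyWord_sem n01 n02 n12, polyWord_sem n01 n02 n12, hPz, hQi,
      oW_trv hn (show (1 : Fin 4) ≠ 0 by decide), oW_trv hn (show (0 : Fin 4) ≠ 1 by decide),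
      oW_trv hn (show (1 : Fin 4) ≠ 0 by decide), eq_mul_inv_iff_mul_eq]
    exact torS_weyl w n01
  · rw [ev_perm, oW_trv hn (show (1 : Fin 4) ≠ 0 by decide), oW_trv hn (show (0 : Fin 4) ≠ 1 by decide),
      oW_trv hn (show (2 : Fin 4) ≠ 1 by decide), oW_trv hn (show (1 : Fin 4) ≠ 2 by decide), carm_zero_sem hn hk]
    rfl

omit p in
theorem orientRels_sem (w : Fˣ) :
    ∀ r ∈ orientRels hn (fun i => permHom (k + 2) F (carm k i))
      (trv (k + 2) F (pt hn 0) (pt hn 1) 1) (torS w (pt hn 0) (pt hn 1)), r = 1 := by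
  have n01 : pt hn 0 ≠ pt hn 1 := pt_ne hn (by decide)
  have n02 : pt hn 0 ≠ pt hn 2 := pt_ne hn (by decide)
  have n03 : pt hn 0 ≠ pt hn 3 := pt_ne hn (by decide)
  have n12 : pt hn 1 ≠ pt hn 2 := pt_ne hn (by decide)
  have n13 : pt hn 1 ≠ pt hn 3 := pt_ne hn (by decide)
  have n23 : pt hn 2 ≠ pt hn 3 := pt_ne hn (by decide)
  simp only [orientRels, List.mem_cons, List.not_mem_nil, or_false, forall_eq_or_imp, forall_eq]
  refine ⟨?_, ?_, ?_, ?_⟩ <;> rw [mul_inv_eq_one]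
  · rw [oW_tor hn w (by decide), oW_tor hn w (by decide), ← torS_tri]
  · rw [oW_tor hn w (by decide), ← mul_inv_eq_iff_eq_mul, torS_trv w _ _ n01]
    congr 1
    simp [Pi.mulSingle_apply, n02, n03, n12, n13]
  · rw [oW_trv hn (by decide), oW_trv hn (by decide), (trv_rel _).chain _ _ _ n01 n13 n03, one_mul]
  · rw [oW_trv hn (by decide)]
    exact (trv_rel _).comm _ _ _ _ n01 n23.symm n02 n13 _ _

omit p in
theorem stabRels_sem (w : Fˣ) (s : alternatingGroup (Fin (k + 2))) (h0 : (s : Perm _) (pt hn 0) = pt hn 0)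
    (h1 : (s : Perm _) (pt hn 1) = pt hn 1) :
    ∀ r ∈ stabRels s (fun i => permHom (k + 2) F (carm k i))
      (trv (k + 2) F (pt hn 0) (pt hn 1) 1) (torS w (pt hn 0) (pt hn 1)), r = 1 := by
  simp only [stabRels, List.mem_cons, List.not_mem_nil, or_false, forall_eq_or_imp, forall_eq, ev_perm,
    mul_inv_eq_one]
  constructor
  · rw [← mul_inv_eq_iff_eq_mul, permHom_trv _ (pt_ne hn (by decide)), h0, h1]
  · rw [← mul_inv_eq_iff_eq_mul, torS_perm, h0, h1]

/-- Generation. -/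
theorem small_closure [Finite F] (w : Fˣ) (hgenω : ∀ b : F, b ≠ 0 → ∃ m : ℕ, (w : F) ^ m = b) (p : ℕ)
    [Fact p.Prime] [Algebra (ZMod p) F] (K : Subgroup (Matrix.SpecialLinearGroup (Fin (k + 2)) F))
    (hc : ∀ i < k, permHom (k + 2) F (carm k i) ∈ K) (hu : trv (k + 2) F (pt hn 0) (pt hn 1) 1 ∈ K)
    (hh : torS w (pt hn 0) (pt hn 1) ∈ K) : K = ⊤ := by
  have hP : ∀ z, permHom (k + 2) F z ∈ K := by
    intro z
    have : (Subgroup.closure {z | ∃ i < k, z = carm k i}).map (permHom (k + 2) F) ≤ K := by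
      rw [MonoidHom.map_closure, Subgroup.closure_le]
      rintro _ ⟨_, ⟨i, hi, rfl⟩, rfl⟩
      exact hc i hi
    rw [closure_carm] at this
    exact this ⟨z, trivial, rfl⟩
  have hA : torS w (pt hn 0) (pt hn 2) ∈ K := by
    rw [← oW_tor hn w (show (0 : Fin 4) ≠ 2 by decide), oW, ev_perm]
    exact K.mul_mem (K.mul_mem (hP _) hh) (K.inv_mem (hP _))
  refine Cfsg.Agent.Lib.Linear.sl_eq_top_of_transvection_mem _ fun i j hij a => ?_
  obtain ⟨Q, hQ⟩ := surj_of_gen (p := p) hgenω a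
  have h01 : trv (k + 2) F (pt hn 0) (pt hn 1) a ∈ K := by
    rw [← hQ, ← polyWord_sem (pt_ne hn (show (0 : Fin 4) ≠ 1 by decide)) (pt_ne hn (show (0 : Fin 4) ≠ 2 by decide))
      (pt_ne hn (show (1 : Fin 4) ≠ 2 by decide))]
    exact ShortPresSL2.polyWord_mem hu hA Q
  obtain ⟨z, e0, e1⟩ := exists_move2 hn hij
  have := K.mul_mem (K.mul_mem (hP z) h01) (K.inv_mem (hP z))
  rw [permHom_trv _ (pt_ne hn (by decide)), e0, e1, trv, dif_pos hij] at this
  exact this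

theorem exists_field_data (F : Type*) [Field F] [Finite F] : ∃ (p : ℕ) (_ : Fact p.Prime) (_ : Algebra (ZMod p) F)
    (w : Fˣ) (Pz Qi : (ZMod p)[X]), (∀ b : F, b ≠ 0 → ∃ m : ℕ, (w : F) ^ m = b) ∧
      aeval (w : F) Pz = w ∧ aeval (w : F) Qi = -(w : F)⁻¹ := by
  haveI : Fintype F := Fintype.ofFinite F
  obtain ⟨p, hchar⟩ := CharP.exists F
  haveI : Fact p.Prime := ⟨CharP.char_is_prime F p⟩
  letI : Algebra (ZMod p) F := ZMod.algebra F p
  obtain ⟨ω, hωg⟩ := IsCyclic.exists_generator (α := Fˣ)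
  have hgenω : ∀ b : F, b ≠ 0 → ∃ m : ℕ, (ω : F) ^ m = b := fun b hb => by
    obtain ⟨m, hm⟩ := mem_powers_iff_mem_zpowers.2 (hωg (Units.mk0 b hb))
    exact ⟨m, by rw [← Units.val_pow_eq_pow_val]; simpa using congrArg Units.val hm⟩
  obtain ⟨Pz, hPz⟩ := surj_of_gen (p := p) hgenω (ω : F)
  obtain ⟨Qi, hQi⟩ := surj_of_gen (p := p) hgenω (-(ω : F)⁻¹)
  exact ⟨p, inferInstance, inferInstance, ω, Pz, Qi, hgenω, hPz, hQi⟩

end sem

end Cfsg.Agent.Lib.ShortPresSLn
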