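import Mathlib
import Cfsg.Agent.Lib.ShortPresSLn.SmallPres

/-!
# `SL_4`: four generators, eighteen relations; `SL_5`: five generators, nineteen relations
-/

set_option autoImplicit false

namespace Cfsg.Agent.Lib.ShortPresSLn

open Equiv Polynomial
open Schur.SteinbergSLn (trv)

/-- Two elements as a family. -/
def fam2 {G : Type*} (a b : G) : ℕ → G := fun i => if i = 0 then a else b

/-- Three elements as a family. -/
def fam3 {G : Type*} (a b c : G) : ℕ → G := fun i => if i = 0 then a else if i = 1 then b else c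

theorem comp_fam2 {G K : Type*} (f : G → K) (a b : G) : f ∘ fam2 a b = fam2 (f a) (f b) := by
  funext i; simp only [Function.comp, fam2]; split_ifs <;> rfl

theorem comp_fam3 {G K : Type*} (f : G → K) (a b c : G) : f ∘ fam3 a b c = fam3 (f a) (f b) (f c) := by
  funext i; simp only [Function.comp, fam3]; split_ifs <;> rfl

/-- The word only sees the first `k` values of the family. -/
theorem ev_congr {G : Type*} [Group G] {k : ℕ} {y y' : ℕ → G} (h : ∀ i < k, y i = y' i)
    (g : alternatingGroup (Fin (k + 2))) : AltData.ev y g = AltData.ev y' g := by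
  unfold AltData.ev
  rw [show (fun i : Fin k => y i) = fun i : Fin k => y' i from funext fun i => h i i.isLt]

section four

variable {G : Type*} [Group G] {F : Type*} [Field F] {p : ℕ} [Fact p.Prime] [Algebra (ZMod p) F]

theorem four_le_four : 4 ≤ 2 + 2 := le_rfl

theorem four_le_five : 4 ≤ 3 + 2 := by omega

/-- All relators for four points. -/
noncomputable def fourRels (ω : F) (Pz Qi : (ZMod p)[X]) (a b u h : G) : List G :=
  [a ^ 3, b ^ 3, (a * b) ^ 2] ++ orientRels four_le_four (fam2 a b) u h ++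
    coreRels four_le_four ω Pz Qi (fam2 a b) u h

theorem map_fourRels {K : Type*} [Group K] (f : G →* K) (ω : F) (Pz Qi : (ZMod p)[X]) (a b u h : G) :
    (fourRels ω Pz Qi a b u h).map f = fourRels ω Pz Qi (f a) (f b) (f u) (f h) := by
  simp [fourRels, map_coreRels, map_orientRels, comp_fam2, map_pow, map_mul]

/-- The element `(2 3 4)`. -/
noncomputable def stabFive : alternatingGroup (Fin (3 + 2)) := iotaHom 3 (carm 1 0)

/-- All relators for five points. -/
noncomputable def fiveRels (ω : F) (Pz Qi : (ZMod p)[X]) (a b c u h : G) : List G :=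
  [a ^ 3, b ^ 3, c ^ 3, (a * b) ^ 2, (a * c) ^ 2, (b * c) ^ 2] ++ stabRels stabFive (fam3 a b c) u h ++
    coreRels four_le_five ω Pz Qi (fam3 a b c) u h

theorem map_fiveRels {K : Type*} [Group K] (f : G →* K) (ω : F) (Pz Qi : (ZMod p)[X]) (a b c u h : G) :
    (fiveRels ω Pz Qi a b c u h).map f = fiveRels ω Pz Qi (f a) (f b) (f c) (f u) (f h) := by
  simp [fiveRels, map_coreRels, map_stabRels, comp_fam3, map_pow, map_mul]

theorem four_surjection [Finite F] {a b u h : G} {ω : F} (hω : ω ≠ 0)
    (hgenω : ∀ b : F, b ≠ 0 → ∃ m : ℕ, ω ^ m = b) {Pz Qi : (ZMod p)[X]}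
    (hr : ∀ r ∈ fourRels ω Pz Qi a b u h, r = 1) (hgen : Subgroup.closure ({a, b, u, h} : Set G) = ⊤) :
    ∃ φ : Matrix.SpecialLinearGroup (Fin (2 + 2)) F →* G, Function.Surjective φ := by
  have hc : ∀ r ∈ [a ^ 3, b ^ 3, (a * b) ^ 2], r = 1 := fun r hr' => hr r (by simp [fourRels] at hr' ⊢; tauto)
  simp only [List.mem_cons, List.not_mem_nil, or_false, forall_eq_or_imp, forall_eq] at hc
  obtain ⟨ha, hb, hab⟩ := hc
  have R : CarmRel 2 (fam2 a b) := by
    refine ⟨fun i hi => ?_, fun i hi j hj hij => ?_⟩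
    · interval_cases i
      exacts [ha, hb]
    · interval_cases i <;> interval_cases j
      exacts [absurd rfl hij, hab, AltData.sq_one_symm hab, absurd rfl hij]
  obtain ⟨ρ, hρ⟩ := exists_hom R
  obtain ⟨r1, r2, r3, r4, r5, r6, r7, r8, r9, r10, r11⟩ :=
    core_of_rels four_le_four ρ hρ fun r hr' => hr r (List.mem_append_right _ hr')
  have ho : ∀ r ∈ orientRels four_le_four (fam2 a b) u h, r = 1 := fun r hr' =>
    hr r (List.mem_append_left _ (List.mem_append_right _ hr'))
  simp only [orientRels, oW_hom four_le_four ρ hρ, List.mem_cons, List.not_mem_nil, or_false, forall_eq_or_imp,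
    forall_eq, mul_inv_eq_one] at ho
  obtain ⟨o1, o2, o3, o4⟩ := ho
  have st : ∀ v : G, Stable four_le_four ρ v := fun v g g0 g1 => by
    obtain ⟨π, rfl⟩ := iotaHom_surj (M := 2) g0 g1
    have : π = 1 := by
      have h0 : Subgroup.closure {g | ∃ i < 0, g = carm 0 i} = (⊤ : Subgroup (alternatingGroup (Fin 2))) :=
        closure_carm 0
      have hm : π ∈ Subgroup.closure {g | ∃ i < 0, g = carm 0 i} := h0 ▸ Subgroup.mem_top π
      simpa using hm
    rw [this, map_one, map_one]
    exact Commute.one_left v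
  have B := (Core.mk (st u) (st h) r1 o1 r2 r3 r4 r5 r6 o3 r7).facts o2 o4
  refine small_surjection four_le_four le_rfl ρ hρ B hω hgenω r8 r9 r10 r11 ?_
  rw [eq_top_iff, ← hgen]
  refine Subgroup.closure_mono ?_
  rintro z (rfl | rfl | rfl | rfl)
  exacts [Or.inl ⟨0, by omega, rfl⟩, Or.inl ⟨1, by omega, rfl⟩, Or.inr (Or.inl rfl), Or.inr (Or.inr rfl)]

theorem five_surjection [Finite F] {a b c u h : G} {ω : F} (hω : ω ≠ 0)
    (hgenω : ∀ b : F, b ≠ 0 → ∃ m : ℕ, ω ^ m = b) {Pz Qi : (ZMod p)[X]}
    (hr : ∀ r ∈ fiveRels ω Pz Qi a b c u h, r = 1) (hgen : Subgroup.closure ({a, b, c, u, h} : Set G) = ⊤) :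
    ∃ φ : Matrix.SpecialLinearGroup (Fin (3 + 2)) F →* G, Function.Surjective φ := by
  have hc : ∀ r ∈ [a ^ 3, b ^ 3, c ^ 3, (a * b) ^ 2, (a * c) ^ 2, (b * c) ^ 2], r = 1 := fun r hr' =>
    hr r (List.mem_append_left _ (List.mem_append_left _ hr'))
  simp only [List.mem_cons, List.not_mem_nil, or_false, forall_eq_or_imp, forall_eq] at hc
  obtain ⟨ha, hb, hc3, hab, hac, hbc⟩ := hc
  have R : CarmRel 3 (fam3 a b c) := by
    refine ⟨fun i hi => ?_, fun i hi j hj hij => ?_⟩
    · interval_cases i
      exacts [ha, hb, hc3]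
    · interval_cases i <;> interval_cases j
      exacts [absurd rfl hij, hab, hac, AltData.sq_one_symm hab, absurd rfl hij, hbc, AltData.sq_one_symm hac,
        AltData.sq_one_symm hbc, absurd rfl hij]
  obtain ⟨ρ, hρ⟩ := exists_hom R
  obtain ⟨r1, r2, r3, r4, r5, r6, r7, r8, r9, r10, r11⟩ :=
    core_of_rels four_le_five ρ hρ fun r hr' => hr r (List.mem_append_right _ hr')
  have ho : ∀ r ∈ stabRels stabFive (fam3 a b c) u h, r = 1 := fun r hr' =>
    hr r (List.mem_append_left _ (List.mem_append_right _ hr'))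
  simp only [stabRels, AltData.ev_eq_hom ρ hρ, List.mem_cons, List.not_mem_nil, or_false, forall_eq_or_imp,
    forall_eq, mul_inv_eq_one] at ho
  have st : ∀ v : G, Commute (ρ stabFive) v → Stable four_le_five ρ v := fun v hv g g0 g1 => by
    obtain ⟨π, rfl⟩ := iotaHom_surj (M := 3) g0 g1
    have hπ : π ∈ Subgroup.closure {g | ∃ i < 1, g = carm 1 i} := by
      rw [show Subgroup.closure {g | ∃ i < 1, g = carm 1 i} = (⊤ : Subgroup (alternatingGroup (Fin 3))) from
        closure_carm 1]
      trivial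
    have hle : Subgroup.closure {g | ∃ i < 1, g = carm 1 i} ≤
        (Subgroup.centralizer {v}).comap (ρ.comp (iotaHom 3)) := by
      rw [Subgroup.closure_le]
      rintro _ ⟨i, hi, rfl⟩
      obtain rfl : i = 0 := by omega
      exact Subgroup.mem_centralizer_singleton_iff.2 hv.eq
    exact Subgroup.mem_centralizer_singleton_iff.1 (hle hπ)
  have B := facts_five (le_refl 5) (st u ho.1) (st h ho.2) r1 r2 r3 r4 r5 r6 r7
  refine small_surjection four_le_five (by omega) ρ hρ B hω hgenω r8 r9 r10 r11 ?_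
  rw [eq_top_iff, ← hgen]
  refine Subgroup.closure_mono ?_
  rintro z (rfl | rfl | rfl | rfl | rfl)
  exacts [Or.inl ⟨0, by omega, rfl⟩, Or.inl ⟨1, by omega, rfl⟩, Or.inl ⟨2, by omega, rfl⟩, Or.inr (Or.inl rfl),
    Or.inr (Or.inr rfl)]

end four

section main

variable {F : Type*} [Field F] [Finite F]

/-- `SL_4`: four generators, eighteen relations. -/
theorem hasPres_four : HasPres 4 18 (Matrix.SpecialLinearGroup (Fin (2 + 2)) F) := by
  classical
  haveI : Fintype F := Fintype.ofFinite F
  obtain ⟨p, hp, halg, w, Pz, Qi, hgenω, hPz, hQi⟩ := exists_field_data F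
  set P := permHom (2 + 2) F
  let g : Fin 4 → Matrix.SpecialLinearGroup (Fin (2 + 2)) F := ![P (carm 2 0), P (carm 2 1),
    trv (2 + 2) F (pt four_le_four 0) (pt four_le_four 1) 1, torS w (pt four_le_four 0) (pt four_le_four 1)]
  let l := fourRels (w : F) Pz Qi (FreeGroup.of (0 : Fin 4)) (FreeGroup.of 1) (FreeGroup.of 2) (FreeGroup.of 3)
  have hlen : l.length = 18 := rfl
  rw [← hlen]
  refine hasPres_of_list l g ?_ ?_ ?_
  · intro r hr
    have hmem : FreeGroup.lift g r ∈ fourRels (w : F) Pz Qi (g 0) (g 1) (g 2) (g 3) := by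
      have e := map_fourRels (FreeGroup.lift g) (w : F) Pz Qi (FreeGroup.of (0 : Fin 4)) (FreeGroup.of 1)
        (FreeGroup.of 2) (FreeGroup.of 3)
      simp only [FreeGroup.lift_apply_of] at e
      rw [← e]
      exact List.mem_map.2 ⟨r, hr, rfl⟩
    revert hmem
    generalize FreeGroup.lift g r = s
    intro hmem
    simp only [g, Matrix.cons_val_zero, Matrix.cons_val_one, Matrix.cons_val] at hmem
    have hy : ∀ i < 2, fam2 (P (carm 2 0)) (P (carm 2 1)) i = (fun i => P (carm 2 i)) i := fun i hi => by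
      interval_cases i <;> rfl
    rcases List.mem_append.1 hmem with hs | hs
    · rcases List.mem_append.1 hs with hs | hs
      · simp only [List.mem_cons, List.not_mem_nil, or_false] at hs
        rcases hs with rfl | rfl | rfl
        · rw [← map_pow, (carm_rel 2).cube 0 (by omega), map_one]
        · rw [← map_pow, (carm_rel 2).cube 1 (by omega), map_one]
        · rw [← map_mul, ← map_pow, (carm_rel 2).sq 0 (by omega) 1 (by omega) (by omega), map_one]
      · refine orientRels_sem four_le_four w s ?_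
        simp only [orientRels, oW, ev_congr hy] at hs ⊢
        exact hs
    · refine coreRels_sem four_le_four le_rfl w hPz hQi s ?_
      simp only [coreRels, tW, oW, ev_congr hy] at hs ⊢
      exact hs
  · set K := Subgroup.closure (Set.range g)
    have hg : ∀ i, g i ∈ K := fun i => Subgroup.subset_closure ⟨i, rfl⟩
    refine small_closure four_le_four w hgenω p K (fun i hi => ?_) (hg 2) (hg 3)
    interval_cases i
    exacts [hg 0, hg 1]
  · set mk := PresentedGroup.mk {r | r ∈ l}
    refine four_surjection (a := mk (FreeGroup.of 0)) (b := mk (FreeGroup.of 1)) (u := mk (FreeGroup.of 2))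
      (h := mk (FreeGroup.of 3)) (Pz := Pz) (Qi := Qi) w.ne_zero hgenω ?_ ?_
    · intro r hr
      rw [← map_fourRels] at hr
      obtain ⟨r', hr', rfl⟩ := List.mem_map.1 hr
      exact PresentedGroup.one_of_mem hr'
    · rw [eq_top_iff, ← PresentedGroup.closure_range_of {r | r ∈ l}]
      refine Subgroup.closure_mono ?_
      rintro _ ⟨i, rfl⟩
      fin_cases i
      exacts [Or.inl rfl, Or.inr (Or.inl rfl), Or.inr (Or.inr (Or.inl rfl)), Or.inr (Or.inr (Or.inr rfl))]

/-- `SL_5`: five generators, nineteen relations. -/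
theorem hasPres_five : HasPres 5 19 (Matrix.SpecialLinearGroup (Fin (3 + 2)) F) := by
  classical
  haveI : Fintype F := Fintype.ofFinite F
  obtain ⟨p, hp, halg, w, Pz, Qi, hgenω, hPz, hQi⟩ := exists_field_data F
  set P := permHom (3 + 2) F
  let g : Fin 5 → Matrix.SpecialLinearGroup (Fin (3 + 2)) F := ![P (carm 3 0), P (carm 3 1), P (carm 3 2),
    trv (3 + 2) F (pt four_le_five 0) (pt four_le_five 1) 1, torS w (pt four_le_five 0) (pt four_le_five 1)]
  let l := fiveRels (w : F) Pz Qi (FreeGroup.of (0 : Fin 5)) (FreeGroup.of 1) (FreeGroup.of 2) (FreeGroup.of 3)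
    (FreeGroup.of 4)
  have hlen : l.length = 19 := rfl
  rw [← hlen]
  refine hasPres_of_list l g ?_ ?_ ?_
  · intro r hr
    have hmem : FreeGroup.lift g r ∈ fiveRels (w : F) Pz Qi (g 0) (g 1) (g 2) (g 3) (g 4) := by
      have e := map_fiveRels (FreeGroup.lift g) (w : F) Pz Qi (FreeGroup.of (0 : Fin 5)) (FreeGroup.of 1)
        (FreeGroup.of 2) (FreeGroup.of 3) (FreeGroup.of 4)
      simp only [FreeGroup.lift_apply_of] at e
      rw [← e]
      exact List.mem_map.2 ⟨r, hr, rfl⟩
    revert hmem
    generalize FreeGroup.lift g r = s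
    intro hmem
    simp only [g, Matrix.cons_val_zero, Matrix.cons_val_one, Matrix.cons_val] at hmem
    have hy : ∀ i < 3, fam3 (P (carm 3 0)) (P (carm 3 1)) (P (carm 3 2)) i = (fun i => P (carm 3 i)) i :=
      fun i hi => by interval_cases i <;> rfl
    rcases List.mem_append.1 hmem with hs | hs
    · rcases List.mem_append.1 hs with hs | hs
      · simp only [List.mem_cons, List.not_mem_nil, or_false] at hs
        rcases hs with rfl | rfl | rfl | rfl | rfl | rfl
        · rw [← map_pow, (carm_rel 3).cube 0 (by omega), map_one]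
        · rw [← map_pow, (carm_rel 3).cube 1 (by omega), map_one]
        · rw [← map_pow, (carm_rel 3).cube 2 (by omega), map_one]
        · rw [← map_mul, ← map_pow, (carm_rel 3).sq 0 (by omega) 1 (by omega) (by omega), map_one]
        · rw [← map_mul, ← map_pow, (carm_rel 3).sq 0 (by omega) 2 (by omega) (by omega), map_one]
        · rw [← map_mul, ← map_pow, (carm_rel 3).sq 1 (by omega) 2 (by omega) (by omega), map_one]
      · refine stabRels_sem four_le_five w stabFive ?_ ?_ s ?_
        · exact iota_apply_low (Perm.mem_alternatingGroup.1 (carm 1 0).2) _ (by simp [pt])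
        · exact iota_apply_low (Perm.mem_alternatingGroup.1 (carm 1 0).2) _ (by simp [pt])
        · simp only [stabRels, ev_congr hy] at hs ⊢
          exact hs
    · refine coreRels_sem four_le_five (by omega) w hPz hQi s ?_
      simp only [coreRels, tW, oW, ev_congr hy] at hs ⊢
      exact hs
  · set K := Subgroup.closure (Set.range g)
    have hg : ∀ i, g i ∈ K := fun i => Subgroup.subset_closure ⟨i, rfl⟩
    refine small_closure four_le_five w hgenω p K (fun i hi => ?_) (hg 3) (hg 4)
    interval_cases i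
    exacts [hg 0, hg 1, hg 2]
  · set mk := PresentedGroup.mk {r | r ∈ l}
    refine five_surjection (a := mk (FreeGroup.of 0)) (b := mk (FreeGroup.of 1)) (c := mk (FreeGroup.of 2))
      (u := mk (FreeGroup.of 3)) (h := mk (FreeGroup.of 4)) (Pz := Pz) (Qi := Qi) w.ne_zero hgenω ?_ ?_
    · intro r hr
      rw [← map_fiveRels] at hr
      obtain ⟨r', hr', rfl⟩ := List.mem_map.1 hr
      exact PresentedGroup.one_of_mem hr'
    · rw [eq_top_iff, ← PresentedGroup.closure_range_of {r | r ∈ l}]
      refine Subgroup.closure_mono ?_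
      rintro _ ⟨i, rfl⟩
      fin_cases i
      exacts [Or.inl rfl, Or.inr (Or.inl rfl), Or.inr (Or.inr (Or.inl rfl)), Or.inr (Or.inr (Or.inr (Or.inl rfl))),
        Or.inr (Or.inr (Or.inr (Or.inr rfl)))]

end main

end Cfsg.Agent.Lib.ShortPresSLn
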