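import Mathlib
import Cfsg.Agent.Lib.ShortPresSLn.SmallMain

/-!
# Short presentations of `SL_n` and `PSL_n`
-/

set_option autoImplicit false

namespace Cfsg.Agent.Lib.ShortPresSLn

variable {F : Type*} [Field F] [Finite F]

/-- Seven generators and at most twenty-five relations for `SL_n`, `n ≥ 4`. -/
theorem hasPres_sl (n : ℕ) (hn : 4 ≤ n) : HasPres 7 25 (Matrix.SpecialLinearGroup (Fin n) F) := by
  rcases Nat.lt_or_ge n 6 with h | h
  · interval_cases n
    · exact ((hasPres_four (F := F)).pad.pad.pad).mono (by norm_num)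
    · exact ((hasPres_five (F := F)).pad.pad).mono (by norm_num)
  · obtain ⟨k, rfl⟩ : ∃ k, n = k + 2 + 2 := ⟨n - 4, by omega⟩
    exact ((hasPres_big (F := F) (k := k) (by omega)).pad.pad.pad).mono (by norm_num)

theorem exists_normalClosure_center (G : Type*) [Group G] [IsCyclic (Subgroup.center G)] :
    ∃ c : G, Subgroup.normalClosure {c} = Subgroup.center G := by
  obtain ⟨c, hc⟩ := IsCyclic.exists_generator (α := Subgroup.center G)
  refine ⟨c, le_antisymm (Subgroup.normalClosure_le_normal (Set.singleton_subset_iff.2 c.2)) fun z hz => ?_⟩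
  have hle : Subgroup.zpowers c ≤ (Subgroup.normalClosure {(c : G)}).comap (Subgroup.center G).subtype :=
    Subgroup.zpowers_le.2 (show (c : G) ∈ Subgroup.normalClosure {(c : G)} from Subgroup.subset_normalClosure rfl)
  exact hle (hc ⟨z, hz⟩)

/-- The centre of `SL_n` is the normal closure of one element. -/
theorem exists_center_generator {ι : Type*} [DecidableEq ι] [Fintype ι] :
    ∃ c : Matrix.SpecialLinearGroup ι F, Subgroup.normalClosure {c} =
      Subgroup.center (Matrix.SpecialLinearGroup ι F) := by
  haveI : NeZero (max (Fintype.card ι) 1) := ⟨by omega⟩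
  have hr : IsCyclic (rootsOfUnity (max (Fintype.card ι) 1) F) := rootsOfUnity.isCyclic F _
  haveI : IsCyclic (Subgroup.center (Matrix.SpecialLinearGroup ι F)) :=
    (Matrix.SpecialLinearGroup.center_equiv_rootsOfUnity (n := ι) (R := F)).isCyclic.2 hr
  exact exists_normalClosure_center _

/-- A presentation of `SL_n` gives one of `PSL_n` with one more relation. -/
theorem HasPres.psl {a r : ℕ} {ι : Type*} [DecidableEq ι] [Fintype ι]
    (h : HasPres a r (Matrix.SpecialLinearGroup ι F)) :
    HasPres a (r + 1) (Matrix.ProjectiveSpecialLinearGroup ι F) := by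
  obtain ⟨c, hc⟩ := exists_center_generator (F := F) (ι := ι)
  exact h.quotient _ c hc

end Cfsg.Agent.Lib.ShortPresSLn
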